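import Cfsg.Agent.H182.Elt

/-!
# Torus elements and unipotent elements of orthogonal groups over finite fields (helper182)

* `elt_tor_plus` : `N ∣ q ^ k - 1 → Elt F k 1 N`;
* `elt_tor_minus` : `N ∣ q ^ k + 1 → Elt F k (-1) N`;
* `elt_one` : the identity, all signs;
* `elt_char` : an element of order the characteristic in dimension 4, plus type;
* `elt_four` : elements of order 4 in dimension 4 in characteristic two, both types.
-/

set_option autoImplicit false
set_option linter.unusedSectionVars false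
set_option linter.style.haveILetI false

namespace Cfsg.Agent.H182.Orth

open QuadraticMap
open Cfsg.Agent.LieClassical.OrthCore Cfsg.Agent.LieClassical.OrthForms
open Cfsg.Agent.H182.Sign Cfsg.Agent.H403.Classify

section

variable {F : Type*} [Field F] [Finite F]

theorem elt_plus_one (n : ℕ) : Elt F n 1 1 :=
  Elt.of (V := Fin n ⊕ Fin n → F) (Q := plusForm n F) (g := 1) (sg_plusForm n) (fun _ => rfl) one_pos orderOf_one

theorem elt_minus_one (n : ℕ) : Elt F (n + 1) (-1) 1 := by
  obtain ⟨ζ, hζ⟩ := exists_aniso F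
  exact Elt.of (V := (Fin n ⊕ Fin n) ⊕ Fin 2 → F) (Q := minusForm n F 1 ζ) (g := 1) (sg_minusForm n hζ)
    (fun _ => rfl) one_pos orderOf_one

theorem elt_one {n : ℕ} (hn : 1 ≤ n) {ε : ℤ} (hε : ε = 1 ∨ ε = -1) : Elt F n ε 1 := by
  rcases hε with rfl | rfl
  · exact elt_plus_one n
  · obtain ⟨k, rfl⟩ : ∃ k, n = k + 1 := ⟨n - 1, by omega⟩
    exact elt_minus_one k

/-- The multiplication form of the hyperbolic plane. -/
def hypForm (F : Type*) [Field F] : QuadraticForm F (F × F) :=
  QuadraticMap.linMulLin (LinearMap.fst F F F) (LinearMap.snd F F F)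

theorem hypForm_apply (v : F × F) : hypForm F v = v.1 * v.2 := rfl

theorem sg_hypForm : Sg (hypForm F) 1 1 := by
  refine ⟨?_, ?_, hasSign_mul, Or.inl rfl⟩
  · intro x hx
    have h1 := hx (0, 1)
    have h2 := hx (1, 0)
    simp only [polar, hypForm_apply, Prod.fst_add, Prod.snd_add] at h1 h2
    refine Prod.ext ?_ ?_
    · change x.1 = 0
      linear_combination h1
    · change x.2 = 0
      linear_combination h2
  · rw [Module.finrank_prod, Module.finrank_self]

/-- The hyperbolic plane. -/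
theorem elt_hyp {N : ℕ} (hN : N ∣ Nat.card F - 1) : Elt F 1 1 N := by
  have hq := Finite.one_lt_card (α := F)
  refine Elt.dvd ?_ hN
  obtain ⟨l, hl⟩ := IsCyclic.exists_ofOrder_eq_natCard (α := Fˣ)
  rw [Nat.card_units] at hl
  let g : Module.End F (F × F) :=
    ((l : F) • (LinearMap.id : F →ₗ[F] F)).prodMap (((l⁻¹ : Fˣ) : F) • (LinearMap.id : F →ₗ[F] F))
  have hg : ∀ (k : ℕ) (v : F × F), (g ^ k) v = (((l ^ k : Fˣ) : F) * v.1, (((l ^ k)⁻¹ : Fˣ) : F) * v.2) := by
    intro k
    induction k with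
    | zero => intro v; simp
    | succ k ih =>
      intro v
      rw [pow_succ, Module.End.mul_apply, ih]
      change (((l ^ k : Fˣ) : F) * ((l : F) * v.1), (((l ^ k)⁻¹ : Fˣ) : F) * (((l⁻¹ : Fˣ) : F) * v.2)) = _
      rw [pow_succ, mul_inv_rev, Units.val_mul, Units.val_mul, mul_assoc]
      congr 1
      rw [mul_comm ((l⁻¹ : Fˣ) : F) (((l ^ k)⁻¹ : Fˣ) : F), mul_assoc]
  refine Elt.of (V := F × F) (Q := hypForm F) (g := g) sg_hypForm ?_ (by omega) ?_
  · intro v
    have h := hg 1 v
    rw [pow_one] at h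
    rw [h, hypForm_apply, hypForm_apply, pow_one]
    change (l : F) * v.1 * (((l⁻¹ : Fˣ) : F) * v.2) = v.1 * v.2
    have h1 : (l : F) * ((l⁻¹ : Fˣ) : F) = 1 := Units.mul_inv l
    linear_combination v.1 * v.2 * h1
  · rw [← hl, orderOf_eq_orderOf_iff]
    intro k
    constructor
    · intro h
      have h1 := hg k (1, 0)
      rw [h] at h1
      have h2 := congrArg Prod.fst h1
      simp only [mul_one] at h2
      exact Units.ext h2.symm
    · intro h
      ext <;> simp [hg, h]

/-- The elliptic plane. -/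
theorem elt_ell {N : ℕ} (hN : N ∣ Nat.card F + 1) : Elt F 1 (-1) N := by
  classical
  letI := Fintype.ofFinite F
  refine Elt.dvd ?_ hN
  obtain ⟨μ, hμ⟩ := exists_aniso F
  obtain ⟨e⟩ := Cfsg.Agent.S0306.result (F := F) (q := Nat.card F) (Nat.card_eq_fintype_card).symm 1 μ hμ
  set h : Cfsg.isometryGroup F (Cfsg.quadFormMinus 0 F 1 μ) := e.symm (DihedralGroup.r 1) with hh
  have hho : orderOf h = Nat.card F + 1 := by
    rw [hh, MulEquiv.orderOf_eq, DihedralGroup.orderOf_r_one]
  set M : Matrix ((Fin 0 ⊕ Fin 0) ⊕ Fin 2) ((Fin 0 ⊕ Fin 0) ⊕ Fin 2) F := h.1.1 with hM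
  have hMQ : ∀ v, Cfsg.quadFormMinus 0 F 1 μ (M.mulVec v) = Cfsg.quadFormMinus 0 F 1 μ v := fun v => h.2 v v
  have hMo : orderOf M = Nat.card F + 1 := by
    rw [hM, orderOf_units, Subgroup.orderOf_coe, hho]
  refine Elt.of (V := (Fin 0 ⊕ Fin 0) ⊕ Fin 2 → F) (Q := minusForm 0 F 1 μ) (g := Matrix.toLinAlgEquiv' M)
    (sg_minusForm 0 hμ) ?_ (Nat.succ_pos _) ?_
  · intro v
    rw [coe_minusForm]
    exact hMQ v
  · rw [← hMo]
    exact MulEquiv.orderOf_eq (Matrix.toLinAlgEquiv' : Matrix _ _ F ≃ₐ[F] _).toMulEquiv M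

end

section

variable {F : Type*} [Field F] [Finite F]

/-- Split tori. -/
theorem elt_tor_plus {k N : ℕ} (hk : 1 ≤ k) (hN : N ∣ Nat.card F ^ k - 1) : Elt F k 1 N := by
  obtain ⟨p, hp⟩ := CharP.exists F
  haveI : Fact (Nat.Prime p) := ⟨CharP.char_is_prime F p⟩
  haveI : NeZero k := ⟨by omega⟩
  have h := Elt.res (F := F) (elt_hyp (F := FiniteField.Extension F p k) (N := N) (by
    rwa [FiniteField.natCard_extension]))
  rwa [FiniteField.finrank_extension, mul_one] at h

/-- Nonsplit tori. -/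
theorem elt_tor_minus {k N : ℕ} (hk : 1 ≤ k) (hN : N ∣ Nat.card F ^ k + 1) : Elt F k (-1) N := by
  obtain ⟨p, hp⟩ := CharP.exists F
  haveI : Fact (Nat.Prime p) := ⟨CharP.char_is_prime F p⟩
  haveI : NeZero k := ⟨by omega⟩
  have h := Elt.res (F := F) (elt_ell (F := FiniteField.Extension F p k) (N := N) (by
    rwa [FiniteField.natCard_extension]))
  rwa [FiniteField.finrank_extension, mul_one] at h

/-- A unipotent element of order `p` in dimension four. -/
theorem elt_char (p : ℕ) [hp : CharP F p] : Elt F 2 1 p := by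
  have hpp : p.Prime := CharP.char_is_prime F p
  let g : Module.End F ((F × F) × (F × F)) :=
    ((LinearMap.fst F F F).comp (LinearMap.fst F _ _) + (LinearMap.fst F F F).comp (LinearMap.snd F _ _)
      |>.prod ((LinearMap.snd F F F).comp (LinearMap.fst F _ _))).prod
    (((LinearMap.fst F F F).comp (LinearMap.snd F _ _)).prod
      ((LinearMap.snd F F F).comp (LinearMap.snd F _ _) - (LinearMap.snd F F F).comp (LinearMap.fst F _ _)))
  have hg : ∀ v, g v = ((v.1.1 + v.2.1, v.1.2), (v.2.1, v.2.2 - v.1.2)) := fun v => rfl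
  have hpow : ∀ (k : ℕ) (v), (g ^ k) v = ((v.1.1 + k * v.2.1, v.1.2), (v.2.1, v.2.2 - k * v.1.2)) := by
    intro k
    induction k with
    | zero => intro v; simp
    | succ k ih =>
      intro v
      rw [pow_succ, Module.End.mul_apply, ih, hg]
      refine Prod.ext (Prod.ext ?_ rfl) (Prod.ext rfl ?_)
      · change v.1.1 + v.2.1 + k * v.2.1 = v.1.1 + ((k + 1 : ℕ) : F) * v.2.1
        push_cast
        ring
      · change v.2.2 - v.1.2 - k * v.1.2 = v.2.2 - ((k + 1 : ℕ) : F) * v.1.2
        push_cast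
        ring
  refine Elt.of (V := (F × F) × (F × F)) (Q := prodForm (hypForm F) (hypForm F)) (g := g) ?_ ?_ hpp.pos ?_
  · have := (sg_hypForm (F := F)).prod (sg_hypForm (F := F))
    rwa [mul_one] at this
  · intro v
    rw [hg, prodForm_apply, prodForm_apply]
    simp only [hypForm_apply]
    ring
  · haveI : Fact p.Prime := ⟨hpp⟩
    apply orderOf_eq_prime
    · refine LinearMap.ext fun v => ?_
      rw [hpow, CharP.cast_eq_zero]
      simp
    · intro h
      have h1 := LinearMap.congr_fun h ((0, 0), (1, 0))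
      rw [hg] at h1
      have h2 := congrArg (fun v => v.1.1) h1
      simp at h2

/-- In characteristic two the form `z² + z w + μ w²` is nondegenerate, of sign `-1` if anisotropic and `1` for `μ = 0`. -/
theorem elt_four_aux (h2 : (2 : F) = 0) (μ : F) {ε : ℤ}
    (hs : Sg (LieClassical.QuadForms.binForm F 1 μ) 1 ε) : Elt F 2 ε 4 := by
  let z : (Fin 2 → F) × (F × F) →ₗ[F] F := (LinearMap.proj 0).comp (LinearMap.fst F _ _)
  let w : (Fin 2 → F) × (F × F) →ₗ[F] F := (LinearMap.proj 1).comp (LinearMap.fst F _ _)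
  let a : (Fin 2 → F) × (F × F) →ₗ[F] F := (LinearMap.fst F F F).comp (LinearMap.snd F _ _)
  let b : (Fin 2 → F) × (F × F) →ₗ[F] F := (LinearMap.snd F F F).comp (LinearMap.snd F _ _)
  let g : Module.End F ((Fin 2 → F) × (F × F)) :=
    (LinearMap.pi ![z + w, w + b]).prod ((a + z + w + μ • b).prod b)
  have hg : ∀ v, g v = (![v.1 0 + v.1 1, v.1 1 + v.2.2], (v.2.1 + v.1 0 + v.1 1 + μ * v.2.2, v.2.2)) := by
    intro v
    refine Prod.ext ?_ rfl
    funext i
    fin_cases i <;> rfl
  have hgg : ∀ v, g (g v) = (![v.1 0 + v.2.2, v.1 1], (v.2.1 + v.1 1 + v.2.2, v.2.2)) := by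
    intro v
    rw [hg (g v), hg v]
    refine Prod.ext ?_ (Prod.ext ?_ rfl)
    · funext i
      fin_cases i
      · change v.1 0 + v.1 1 + (v.1 1 + v.2.2) = v.1 0 + v.2.2
        linear_combination v.1 1 * h2
      · change v.1 1 + v.2.2 + v.2.2 = v.1 1
        linear_combination v.2.2 * h2
    · change v.2.1 + v.1 0 + v.1 1 + μ * v.2.2 + (v.1 0 + v.1 1) + (v.1 1 + v.2.2) + μ * v.2.2 = v.2.1 + v.1 1 + v.2.2
      linear_combination (v.1 0 + v.1 1 + μ * v.2.2) * h2
  refine Elt.of (V := (Fin 2 → F) × (F × F)) (Q := prodForm (LieClassical.QuadForms.binForm F 1 μ) (hypForm F))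
    (g := g) ?_ ?_ (by norm_num) ?_
  · have := hs.prod (sg_hypForm (F := F))
    rwa [mul_one] at this
  · intro v
    rw [hg, prodForm_apply, prodForm_apply]
    simp only [hypForm_apply, LieClassical.QuadForms.binForm_apply]
    simp only [Matrix.cons_val_zero, Matrix.cons_val_one]
    linear_combination (v.1 0 * v.1 1 + v.1 1 ^ 2 + v.1 0 * v.2.2 + v.1 1 * v.2.2 + μ * v.1 1 * v.2.2 + μ * v.2.2 ^ 2) * h2
  · have h4 : (4 : ℕ) = 2 ^ (1 + 1) := rfl
    rw [h4]
    apply orderOf_eq_prime_pow
    · intro h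
      have h1 := LinearMap.congr_fun h ((0, (0, 1)) : (Fin 2 → F) × (F × F))
      rw [pow_one, pow_two, Module.End.mul_apply, hgg] at h1
      have h3 := congrArg (fun v => v.1 0) h1
      simp at h3
    · refine LinearMap.ext fun v => ?_
      have h5 : g ^ 2 ^ (1 + 1) = (g * g) * (g * g) := by
        rw [show 2 ^ (1 + 1) = 2 + 2 from rfl, pow_add, pow_two]
      rw [h5, Module.End.mul_apply, Module.End.mul_apply, Module.End.mul_apply, hgg v, hgg]
      refine Prod.ext ?_ (Prod.ext ?_ rfl)
      · funext i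
        fin_cases i
        · change v.1 0 + v.2.2 + v.2.2 = v.1 0
          linear_combination v.2.2 * h2
        · rfl
      · change v.2.1 + v.1 1 + v.2.2 + v.1 1 + v.2.2 = v.2.1
        linear_combination (v.1 1 + v.2.2) * h2

theorem sg_binForm {a b : F} (hab : Aniso a b) : Sg (LieClassical.QuadForms.binForm F a b) 1 (-1) := by
  refine ⟨nondegenerate_iff_nondeg.1 (binForm_nondegenerate hab), ?_, ?_, Or.inr rfl⟩
  · rw [Module.finrank_fin_fun]
  · have h := hasSign_bin hab
    have e : bin a b = ⇑(LieClassical.QuadForms.binForm F a b) := funext fun z => bin_eq a b z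
    rwa [e] at h

/-- `z² + z w` is a hyperbolic plane. -/
theorem sg_binForm_zero : Sg (LieClassical.QuadForms.binForm F 1 0) 1 1 := by
  let e : (F × F) ≃ₗ[F] (Fin 2 → F) :=
    { toFun := fun p => ![p.1, p.2 - p.1]
      invFun := fun v => (v 0, v 0 + v 1)
      map_add' := fun p p' => by
        funext i
        fin_cases i
        · rfl
        · change p.2 + p'.2 - (p.1 + p'.1) = (p.2 - p.1) + (p'.2 - p'.1)
          ring
      map_smul' := fun c p => by
        funext i
        fin_cases i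
        · rfl
        · change c * p.2 - c * p.1 = c * (p.2 - p.1)
          ring
      left_inv := fun p => by
        refine Prod.ext rfl ?_
        change p.1 + (p.2 - p.1) = p.2
        ring
      right_inv := fun v => by
        funext i
        fin_cases i
        · rfl
        · change v 0 + v 1 - v 0 = v 1
          ring }
  have he : ∀ p : F × F, e p = ![p.1, p.2 - p.1] := fun p => rfl
  refine (sg_hypForm (F := F)).congr e fun p => ?_
  rw [he, LieClassical.QuadForms.binForm_apply, hypForm_apply]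
  simp only [Matrix.cons_val_zero, Matrix.cons_val_one]
  ring

/-- Elements of order four in dimension four in characteristic two. -/
theorem elt_four (h2 : (2 : F) = 0) {ε : ℤ} (hε : ε = 1 ∨ ε = -1) : Elt F 2 ε 4 := by
  rcases hε with rfl | rfl
  · exact elt_four_aux h2 0 sg_binForm_zero
  · obtain ⟨ζ, hζ⟩ := exists_aniso F
    exact elt_four_aux h2 ζ (sg_binForm hζ)

end

end Cfsg.Agent.H182.Orth
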