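import Cfsg.Agent.H182.PGOrth
import Cfsg.Agent.S0293
import Cfsg.Agent.S0294

/-!
# The prime graph of `PΩ⁺(2m, q)` and `PΩ⁻(2m, q)`: at most two odd components (helper182)
-/

set_option autoImplicit false
set_option linter.unusedSectionVars false
set_option linter.style.haveILetI false

namespace Cfsg.Agent.H182.Orth

open QuadraticMap
open Cfsg.Agent.LieClassical.OrthCore Cfsg.Agent.LieClassical.OrthForms
open Cfsg.Agent.H182.Sign Cfsg.Agent.H403.Classify
open Cfsg.Agent.H94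

section

variable {F : Type*} [Field F] [Finite F]

theorem sign_mul {a b : ℤ} (ha : a = 1 ∨ a = -1) (hb : b = 1 ∨ b = -1) : a * b = 1 ∨ a * b = -1 := by
  rcases ha with rfl | rfl <;> rcases hb with rfl | rfl <;> simp

theorem sign_cancel {a b : ℤ} (ha : a = 1 ∨ a = -1) : a * (a * b) = b := by
  rcases ha with rfl | rfl <;> ring

/-- Extension by the identity. -/
theorem Elt.extend {n m : ℕ} {ε δ : ℤ} {N : ℕ} (h : Elt F n ε N) (hnm : n < m) (hε : ε = 1 ∨ ε = -1)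
    (hδ : δ = 1 ∨ δ = -1) : Elt F m δ N := by
  have h1 := h.prod (elt_one (F := F) (n := m - n) (by omega) (sign_mul hε hδ))
  rw [sign_cancel hε, Nat.lcm_one_right] at h1
  have h2 : n + (m - n) = m := by omega
  rwa [h2] at h1

theorem two_eq_zero_iff : (2 : F) = 0 ↔ Even (Nat.card F) := by
  letI := Fintype.ofFinite F
  rw [Nat.card_eq_fintype_card]
  constructor
  · intro h
    by_contra hodd
    rw [Nat.not_even_iff_odd] at hodd
    have : ringChar F = 2 := by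
      have : CharP F 2 := CharTwo.of_one_ne_zero_of_two_eq_zero one_ne_zero h
      exact ringChar.eq F 2
    have h2 := FiniteField.even_card_of_char_two this
    rw [Nat.odd_iff] at hodd
    omega
  · intro h
    by_contra hne
    have h1 : ringChar F ≠ 2 := by
      intro h2
      apply hne
      have := ringChar.of_eq h2
      exact CharTwo.two_eq_zero
    have h2 := FiniteField.odd_card_of_char_ne_two h1
    rw [Nat.even_iff] at h
    omega

/-- Elements of order four, `n ≥ 2`, any sign, any field. -/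
theorem elt_four' {n : ℕ} (hn : 2 ≤ n) {ε : ℤ} (hε : ε = 1 ∨ ε = -1) : Elt F n ε 4 := by
  have hq : 1 < Nat.card F := Finite.one_lt_card
  rcases Nat.even_or_odd (Nat.card F) with he | ho
  · have h2 := two_eq_zero_iff.2 he
    rcases Nat.lt_or_ge 2 n with h | h
    · exact (elt_four (F := F) h2 (Or.inl rfl)).extend h (Or.inl rfl) hε
    · obtain rfl : n = 2 := by omega
      exact elt_four h2 hε
  · have h4 : 4 ∣ Nat.card F - 1 ∨ 4 ∣ Nat.card F + 1 := by
      obtain ⟨k, hk⟩ := ho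
      rcases Nat.even_or_odd k with ⟨l, hl⟩ | ⟨l, hl⟩
      · left; exact ⟨l, by omega⟩
      · right; exact ⟨l + 1, by omega⟩
    rcases h4 with h4 | h4
    · exact (elt_hyp h4).extend (by omega) (Or.inl rfl) hε
    · exact (elt_ell h4).extend (by omega) (Or.inr rfl) hε

theorem odd_div_gcd {N : ℕ} (hN : Odd N) : N / N.gcd 2 = N := by
  rw [(Nat.coprime_two_right.2 hN : N.gcd 2 = 1), Nat.div_one]

theorem dvd_lcm_four {N : ℕ} (hN : Odd N) : N.lcm 4 / (N.lcm 4).gcd 2 = 2 * N := by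
  have h1 : N.lcm 4 = N * 4 := Nat.Coprime.lcm_eq_mul (by
    have := Nat.coprime_two_right.2 hN
    exact Nat.Coprime.pow_right 2 this)
  rw [h1]
  have h2 : (N * 4).gcd 2 = 2 := Nat.gcd_eq_right ⟨N * 2, by ring⟩
  rw [h2]
  omega

end

section

variable {F : Type*} [Field F] [Finite F] {ι : Type} [Fintype ι] [DecidableEq ι]
  {Q : QuadraticForm F (ι → F)} {m : ℕ} {ε₀ : ℤ}

theorem conn_odd (hQ : Sg Q m ε₀) (hm : 4 ≤ m) {n : ℕ} {ε : ℤ} (hε : ε = 1 ∨ ε = -1) {N : ℕ} (hN : Odd N)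
    (hn : n < m ∨ n = m ∧ ε = ε₀) (h : Elt F n ε N) {p r : ℕ} (hp : p.Prime) (hr : r.Prime)
    (hpN : p ∣ N) (hrN : r ∣ N) : PG.Conn (Cfsg.POmega F ⇑Q) p r := by
  have h1 : Elt F m ε₀ N := by
    rcases hn with hn | ⟨rfl, rfl⟩
    · exact h.extend hn hε hQ.eps
    · exact h
  exact conn_of_eltP hQ (by omega) (h1.odd hN (by omega)) hp hr (by rwa [odd_div_gcd hN]) (by rwa [odd_div_gcd hN])

theorem conn_of_four (hQ : Sg Q m ε₀) (hm : 4 ≤ m) {n : ℕ} {ε : ℤ} (hε : ε = 1 ∨ ε = -1) {N : ℕ} (hN : Odd N)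
    (hn1 : 1 ≤ n) (hn : n ≤ m) (h : Elt F n ε N) (h4 : Elt F (m - n) (ε * ε₀) 4) {p : ℕ} (hp : p.Prime)
    (hpN : p ∣ N) : PG.Conn (Cfsg.POmega F ⇑Q) 2 p := by
  have h1 := (h.odd hN hn1).prod h4
  rw [sign_cancel hε, Nat.add_sub_cancel' hn] at h1
  refine conn_of_eltP hQ (by omega) h1 Nat.prime_two hp ?_ ?_
  · rw [dvd_lcm_four hN]
    exact Dvd.intro _ rfl
  · rw [dvd_lcm_four hN]
    exact hpN.mul_left 2

/-- Elements of order dividing `q ^ i ± 1`, `i ≤ m - 2`. -/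
theorem conn_two (hQ : Sg Q m ε₀) (hm : 4 ≤ m) {n : ℕ} {ε : ℤ} (hε : ε = 1 ∨ ε = -1) {N : ℕ} (hN : Odd N)
    (hn1 : 1 ≤ n) (hn : n + 2 ≤ m) (h : Elt F n ε N) {p : ℕ} (hp : p.Prime) (hpN : p ∣ N) :
    PG.Conn (Cfsg.POmega F ⇑Q) 2 p :=
  conn_of_four hQ hm hε hN hn1 (by omega) h (elt_four' (by omega) (sign_mul hε hQ.eps)) hp hpN

theorem conn_two_pow_sub (hQ : Sg Q m ε₀) (hm : 4 ≤ m) {i : ℕ} (hi1 : 1 ≤ i) (hi : i + 2 ≤ m) {p : ℕ} (hp : p.Prime)
    (hp2 : p ≠ 2) (h : p ∣ Nat.card F ^ i - 1) : PG.Conn (Cfsg.POmega F ⇑Q) 2 p :=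
  conn_two hQ hm (Or.inl rfl) (hp.odd_of_ne_two hp2) hi1 hi (elt_tor_plus hi1 h) hp dvd_rfl

theorem conn_two_pow_add (hQ : Sg Q m ε₀) (hm : 4 ≤ m) {i : ℕ} (hi1 : 1 ≤ i) (hi : i + 2 ≤ m) {p : ℕ} (hp : p.Prime)
    (hp2 : p ≠ 2) (h : p ∣ Nat.card F ^ i + 1) : PG.Conn (Cfsg.POmega F ⇑Q) 2 p :=
  conn_two hQ hm (Or.inr rfl) (hp.odd_of_ne_two hp2) hi1 hi (elt_tor_minus hi1 h) hp dvd_rfl

/-- The characteristic. -/
theorem conn_two_char (hQ : Sg Q m ε₀) (hm : 4 ≤ m) (p : ℕ) [CharP F p] (hp2 : p ≠ 2) :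
    PG.Conn (Cfsg.POmega F ⇑Q) 2 p := by
  have hp : p.Prime := CharP.char_is_prime F p
  exact conn_two hQ hm (Or.inl rfl) (hp.odd_of_ne_two hp2) (by norm_num) (by omega) (elt_char p) hp dvd_rfl

/-- The torus of the complementary plane: `c = q - δ` is at least `3`. -/
theorem conn_two_compl (hQ : Sg Q m ε₀) (hm : 4 ≤ m) {δ : ℤ} (hδ : δ = 1 ∨ δ = -1) {p : ℕ} (hp : p.Prime)
    (hp2 : p ≠ 2) (h : Elt F (m - 1) (δ * ε₀) p) {c : ℕ} (hc : 3 ≤ c) (hpl : ∀ N, N ∣ c → Elt F 1 δ N) :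
    PG.Conn (Cfsg.POmega F ⇑Q) 2 p := by
  have hpo := hp.odd_of_ne_two hp2
  have hsg := sign_mul hδ hQ.eps
  have hsg2 : δ * ε₀ * ε₀ = δ := by
    rcases hQ.eps with h1 | h1 <;> rw [h1] <;> ring
  by_cases h4 : 4 ∣ c
  · refine conn_of_four hQ hm hsg hpo (by omega) (by omega) h ?_ hp dvd_rfl
    rw [hsg2]
    have h1 : m - (m - 1) = 1 := by omega
    rw [h1]
    exact hpl 4 h4
  · -- an odd prime divisor
    obtain ⟨z, hz, hz2, hzc⟩ : ∃ z : ℕ, z.Prime ∧ z ≠ 2 ∧ z ∣ c := by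
      by_contra hcon
      push Not at hcon
      have h1 : ∀ {q : ℕ}, q.Prime → q ∣ c → q = 2 := by
        intro q hq hqc
        by_contra hne
        exact hcon q hq hne hqc
      have h2 := Nat.eq_prime_pow_of_unique_prime_dvd (by omega) h1
      set k := c.primeFactorsList.length
      have hk : 2 ≤ k := by
        by_contra hlt
        have : k = 0 ∨ k = 1 := by omega
        rcases this with h | h <;> rw [h] at h2 <;> omega
      apply h4
      rw [h2]
      exact pow_dvd_pow 2 hk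
    have hzo := hz.odd_of_ne_two hz2
    have e1 := h.prod (hpl z hzc)
    have e2 : δ * ε₀ * δ = ε₀ := by
      rcases hδ with h1 | h1 <;> rw [h1] <;> ring
    have e3 : m - 1 + 1 = m := by omega
    rw [e2, e3] at e1
    have hodd : Odd (p.lcm z) := by
      rw [← Nat.not_even_iff_odd, even_iff_two_dvd]
      intro h2
      have h3 : 2 ∣ p * z := h2.trans (Nat.lcm_dvd_mul p z)
      rcases (Nat.Prime.dvd_mul Nat.prime_two).1 h3 with h4 | h4
      · exact hp2 ((Nat.prime_dvd_prime_iff_eq Nat.prime_two hp).1 h4).symm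
      · exact hz2 ((Nat.prime_dvd_prime_iff_eq Nat.prime_two hz).1 h4).symm
    have c1 : PG.Conn (Cfsg.POmega F ⇑Q) z p :=
      conn_odd hQ hm hQ.eps hodd (Or.inr ⟨rfl, rfl⟩) e1 hz hp (Nat.dvd_lcm_right _ _) (Nat.dvd_lcm_left _ _)
    have c2 : PG.Conn (Cfsg.POmega F ⇑Q) 2 z := conn_two hQ hm hδ hzo le_rfl (by omega) (hpl z hzc) hz dvd_rfl
    exact c2.trans c1


/-- odd prime divisors of an lcm -/
theorem odd_lcm {p z : ℕ} (hp : p.Prime) (hp2 : p ≠ 2) (hz : z.Prime) (hz2 : z ≠ 2) : Odd (p.lcm z) := by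
  rw [← Nat.not_even_iff_odd, even_iff_two_dvd]
  intro h2
  have h3 : 2 ∣ p * z := h2.trans (Nat.lcm_dvd_mul p z)
  rcases (Nat.Prime.dvd_mul Nat.prime_two).1 h3 with h4 | h4
  · exact hp2 ((Nat.prime_dvd_prime_iff_eq Nat.prime_two hp).1 h4).symm
  · exact hz2 ((Nat.prime_dvd_prime_iff_eq Nat.prime_two hz).1 h4).symm

/-- two odd primes dividing `q ^ j - 1` -/
theorem conn_pow_sub (hQ : Sg Q m ε₀) (hm : 4 ≤ m) {j : ℕ} (hj : 1 ≤ j) (hjm : j < m ∨ j = m ∧ (1 : ℤ) = ε₀)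
    {p r : ℕ} (hp : p.Prime) (hr : r.Prime) (hp2 : p ≠ 2) (hr2 : r ≠ 2) (h1 : p ∣ Nat.card F ^ j - 1)
    (h2 : r ∣ Nat.card F ^ j - 1) : PG.Conn (Cfsg.POmega F ⇑Q) p r :=
  conn_odd hQ hm (Or.inl rfl) (odd_lcm hp hp2 hr hr2) hjm (elt_tor_plus hj (Nat.lcm_dvd h1 h2)) hp hr
    (Nat.dvd_lcm_left _ _) (Nat.dvd_lcm_right _ _)

/-- two odd primes dividing `q ^ j + 1` -/
theorem conn_pow_add (hQ : Sg Q m ε₀) (hm : 4 ≤ m) {j : ℕ} (hj : 1 ≤ j) (hjm : j < m ∨ j = m ∧ (-1 : ℤ) = ε₀)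
    {p r : ℕ} (hp : p.Prime) (hr : r.Prime) (hp2 : p ≠ 2) (hr2 : r ≠ 2) (h1 : p ∣ Nat.card F ^ j + 1)
    (h2 : r ∣ Nat.card F ^ j + 1) : PG.Conn (Cfsg.POmega F ⇑Q) p r :=
  conn_odd hQ hm (Or.inr rfl) (odd_lcm hp hp2 hr hr2) hjm (elt_tor_minus hj (Nat.lcm_dvd h1 h2)) hp hr
    (Nat.dvd_lcm_left _ _) (Nat.dvd_lcm_right _ _)

theorem dvd_sq_sub {q p i : ℕ} (hp : p.Prime) (h : p ∣ q ^ (2 * i) - 1) : p ∣ q ^ i - 1 ∨ p ∣ q ^ i + 1 := by
  have e : q ^ (2 * i) - 1 = (q ^ i + 1) * (q ^ i - 1) := by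
    have := Nat.sq_sub_sq (q ^ i) 1
    rw [one_pow, ← pow_mul, mul_comm i 2] at this
    exact this
  rw [e] at h
  exact ((Nat.Prime.dvd_mul hp).1 h).symm

/-- The prime divisors of the order. -/
theorem prime_dvd_cases {q m u : ℕ} {c k : ℕ} (hu : u.Prime) (hm : 4 ≤ m) {n : ℕ}
    (h : n * k = q ^ (m * (m - 1)) * c * ∏ i ∈ Finset.range (m - 1), (q ^ (2 * (i + 1)) - 1)) (hd : u ∣ k) :
    u ∣ q ∨ u ∣ c ∨ ∃ i, 1 ≤ i ∧ i + 1 ≤ m ∧ (u ∣ q ^ i - 1 ∨ u ∣ q ^ i + 1) := by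
  have h1 : u ∣ q ^ (m * (m - 1)) * c * ∏ i ∈ Finset.range (m - 1), (q ^ (2 * (i + 1)) - 1) := by
    rw [← h]; exact hd.mul_left n
  rcases (Nat.Prime.dvd_mul hu).1 h1 with h2 | h2
  · rcases (Nat.Prime.dvd_mul hu).1 h2 with h3 | h3
    · exact Or.inl (hu.dvd_of_dvd_pow h3)
    · exact Or.inr (Or.inl h3)
  · obtain ⟨i, hi, h3⟩ := (Prime.dvd_finsetProd_iff hu.prime _).1 h2
    rw [Finset.mem_range] at hi
    exact Or.inr (Or.inr ⟨i + 1, by omega, by omega, dvd_sq_sub hu h3⟩)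

theorem conn_two_of_dvd_card (hQ : Sg Q m ε₀) (hm : 4 ≤ m) {u : ℕ} (hu : u.Prime) (hu2 : u ≠ 2)
    (h : u ∣ Nat.card F) : PG.Conn (Cfsg.POmega F ⇑Q) 2 u := by
  obtain ⟨p, hp⟩ := CharP.exists F
  have hpp : p.Prime := CharP.char_is_prime F p
  letI := Fintype.ofFinite F
  obtain ⟨n, -, hn⟩ := FiniteField.card F p
  rw [Nat.card_eq_fintype_card, hn] at h
  have h1 : u = p := (Nat.prime_dvd_prime_iff_eq hu hpp).1 (hu.dvd_of_dvd_pow h)
  subst h1
  exact conn_two_char hQ hm u hu2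

end

section plus

variable {F : Type*} [Field F] [Finite F] {ι : Type} [Fintype ι] [DecidableEq ι]
  {Q : QuadraticForm F (ι → F)} {m : ℕ}

/-- The odd primes not connected to 2 in plus type. -/
theorem plus_cases (hQ : Sg Q m 1) (hm : 4 ≤ m) {n k : ℕ}
    (hcard : n * k = Nat.card F ^ (m * (m - 1)) * (Nat.card F ^ m - 1) *
      ∏ i ∈ Finset.range (m - 1), (Nat.card F ^ (2 * (i + 1)) - 1))
    {u : ℕ} (hu : u.Prime) (hu2 : u ≠ 2) (hd : u ∣ k) :
    PG.Conn (Cfsg.POmega F ⇑Q) 2 u ∨ (Odd (m - 1) ∧ u ∣ Nat.card F ^ (m - 1) - 1 ∧ Nat.card F ≤ 3) ∨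
      (Odd m ∧ u ∣ Nat.card F ^ m - 1) := by
  have hq : 1 < Nat.card F := Finite.one_lt_card
  rcases prime_dvd_cases hu hm hcard hd with h | h | ⟨i, hi1, him, h⟩
  · exact Or.inl (conn_two_of_dvd_card hQ hm hu hu2 h)
  · rcases Nat.even_or_odd m with ⟨l, hl⟩ | ho
    · left
      have e : m = 2 * l := by omega
      rw [e] at h
      rcases dvd_sq_sub hu h with h | h
      · exact conn_two_pow_sub hQ hm (by omega) (by omega) hu hu2 h
      · exact conn_two_pow_add hQ hm (by omega) (by omega) hu hu2 h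
    · exact Or.inr (Or.inr ⟨ho, h⟩)
  · rcases Nat.lt_or_ge (i + 1) m with hlt | hge
    · left
      rcases h with h | h
      · exact conn_two_pow_sub hQ hm hi1 (by omega) hu hu2 h
      · exact conn_two_pow_add hQ hm hi1 (by omega) hu hu2 h
    · obtain rfl : i = m - 1 := by omega
      rcases h with h | h
      · -- `u ∣ q ^ (m-1) - 1`
        rcases Nat.even_or_odd (m - 1) with ⟨l, hl⟩ | ho
        · left
          have e : m - 1 = 2 * l := by omega
          rw [e] at h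
          rcases dvd_sq_sub hu h with h | h
          · exact conn_two_pow_sub hQ hm (by omega) (by omega) hu hu2 h
          · exact conn_two_pow_add hQ hm (by omega) (by omega) hu hu2 h
        · rcases Nat.lt_or_ge 3 (Nat.card F) with h3 | h3
          · left
            refine conn_two_compl hQ hm (δ := 1) (Or.inl rfl) hu hu2 ?_ (c := Nat.card F - 1) (by omega)
              (fun N hN => elt_hyp hN)
            rw [one_mul]
            exact elt_tor_plus (by omega) h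
          · exact Or.inr (Or.inl ⟨ho, h, h3⟩)
      · left
        refine conn_two_compl hQ hm (δ := -1) (Or.inr rfl) hu hu2 ?_ (c := Nat.card F + 1) (by omega)
          (fun N hN => elt_ell hN)
        rw [mul_one]
        exact elt_tor_minus (by omega) h

/-- **At most two components in plus type.** -/
theorem plus_three (hQ : Sg Q m 1) (hm : 4 ≤ m) {n k : ℕ}
    (hcard : n * k = Nat.card F ^ (m * (m - 1)) * (Nat.card F ^ m - 1) *
      ∏ i ∈ Finset.range (m - 1), (Nat.card F ^ (2 * (i + 1)) - 1))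
    {p r : ℕ} (hp : p.Prime) (hr : r.Prime) (hp2 : p ≠ 2) (hr2 : r ≠ 2) (hdp : p ∣ k) (hdr : r ∣ k) :
    PG.Conn (Cfsg.POmega F ⇑Q) 2 p ∨ PG.Conn (Cfsg.POmega F ⇑Q) 2 r ∨ PG.Conn (Cfsg.POmega F ⇑Q) p r := by
  rcases plus_cases hQ hm hcard hp hp2 hdp with h | ⟨o1, h1, -⟩ | ⟨o1, h1⟩
  · exact Or.inl h
  · rcases plus_cases hQ hm hcard hr hr2 hdr with h | ⟨o2, h2, -⟩ | ⟨o2, h2⟩
    · exact Or.inr (Or.inl h)
    · exact Or.inr (Or.inr (conn_pow_sub hQ hm (by omega) (Or.inl (by omega)) hp hr hp2 hr2 h1 h2))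
    · exfalso
      obtain ⟨a, ha⟩ := o1
      obtain ⟨b, hb⟩ := o2
      omega
  · rcases plus_cases hQ hm hcard hr hr2 hdr with h | ⟨o2, h2, -⟩ | ⟨o2, h2⟩
    · exact Or.inr (Or.inl h)
    · exfalso
      obtain ⟨a, ha⟩ := o1
      obtain ⟨b, hb⟩ := o2
      omega
    · exact Or.inr (Or.inr (conn_pow_sub hQ hm (by omega) (Or.inr ⟨rfl, rfl⟩) hp hr hp2 hr2 h1 h2))

end plus

section minus

variable {F : Type*} [Field F] [Finite F] {ι : Type} [Fintype ι] [DecidableEq ι]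
  {Q : QuadraticForm F (ι → F)} {m : ℕ}

/-- The odd primes not connected to 2 in minus type. -/
theorem minus_cases (hQ : Sg Q m (-1)) (hm : 4 ≤ m) {n k : ℕ}
    (hcard : n * k = Nat.card F ^ (m * (m - 1)) * (Nat.card F ^ m + 1) *
      ∏ i ∈ Finset.range (m - 1), (Nat.card F ^ (2 * (i + 1)) - 1))
    {u : ℕ} (hu : u.Prime) (hu2 : u ≠ 2) (hd : u ∣ k) :
    PG.Conn (Cfsg.POmega F ⇑Q) 2 u ∨ (u ∣ Nat.card F ^ (m - 1) + 1 ∧ Nat.card F ≤ 3) ∨
      u ∣ Nat.card F ^ m + 1 := by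
  have hq : 1 < Nat.card F := Finite.one_lt_card
  rcases prime_dvd_cases hu hm hcard hd with h | h | ⟨i, hi1, him, h⟩
  · exact Or.inl (conn_two_of_dvd_card hQ hm hu hu2 h)
  · exact Or.inr (Or.inr h)
  · rcases Nat.lt_or_ge (i + 1) m with hlt | hge
    · left
      rcases h with h | h
      · exact conn_two_pow_sub hQ hm hi1 (by omega) hu hu2 h
      · exact conn_two_pow_add hQ hm hi1 (by omega) hu hu2 h
    · obtain rfl : i = m - 1 := by omega
      rcases h with h | h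
      · left
        refine conn_two_compl hQ hm (δ := -1) (Or.inr rfl) hu hu2 ?_ (c := Nat.card F + 1) (by omega)
          (fun N hN => elt_ell hN)
        have e : (-1 : ℤ) * -1 = 1 := by norm_num
        rw [e]
        exact elt_tor_plus (by omega) h
      · rcases Nat.lt_or_ge 3 (Nat.card F) with h3 | h3
        · left
          refine conn_two_compl hQ hm (δ := 1) (Or.inl rfl) hu hu2 ?_ (c := Nat.card F - 1) (by omega)
            (fun N hN => elt_hyp hN)
          rw [one_mul]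
          exact elt_tor_minus (by omega) h
        · exact Or.inr (Or.inl ⟨h, h3⟩)


theorem three_pow_mod_eight (i : ℕ) : 3 ^ i % 8 = 1 ∨ 3 ^ i % 8 = 3 := by
  induction i with
  | zero => left; rfl
  | succ i ih =>
    rw [pow_succ]
    omega

theorem exists_odd_prime {i : ℕ} (hi : 2 ≤ i) : ∃ s : ℕ, s.Prime ∧ s ≠ 2 ∧ s ∣ 3 ^ i + 1 := by
  have h9 : 3 ^ 2 ≤ 3 ^ i := Nat.pow_le_pow_right (by norm_num) hi
  by_contra hcon
  push Not at hcon
  have h1 : ∀ {q : ℕ}, q.Prime → q ∣ 3 ^ i + 1 → q = 2 := by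
    intro q hq hqc
    by_contra hne
    exact hcon q hq hne hqc
  have h2 := Nat.eq_prime_pow_of_unique_prime_dvd (by omega) h1
  set k := (3 ^ i + 1).primeFactorsList.length
  have hk : 3 ≤ k := by
    by_contra hlt
    have : k = 0 ∨ k = 1 ∨ k = 2 := by omega
    rcases this with h | h | h <;> rw [h] at h2 <;> omega
  have h8 : 8 ∣ 3 ^ i + 1 := by
    rw [h2]
    exact pow_dvd_pow 2 hk
  have := three_pow_mod_eight i
  omega

theorem pow_add_dvd {q k i : ℕ} (hk : Odd k) : q ^ i + 1 ∣ q ^ (i * k) + 1 := by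
  have := Odd.nat_add_dvd_pow_add_pow (q ^ i) 1 hk
  rwa [one_pow, ← pow_mul] at this

theorem three_dvd {j : ℕ} (hj : Odd j) : 3 ∣ 2 ^ j + 1 := by
  have := pow_add_dvd (q := 2) (i := 1) hj
  rwa [pow_one, one_mul] at this

theorem four_dvd {j : ℕ} (hj : Odd j) : 4 ∣ 3 ^ j + 1 := by
  have := pow_add_dvd (q := 3) (i := 1) hj
  rwa [pow_one, one_mul] at this

theorem minus_factor (hQ : Sg Q m (-1)) (hm : 4 ≤ m) (h3 : Nat.card F = 3) {k i : ℕ} (hk : Odd k) (hk1 : k ≠ 1)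
    (hi : 2 ≤ i) (hm' : i * k ≤ m) {u : ℕ} (hu : u.Prime) (hu2 : u ≠ 2) (hd : u ∣ Nat.card F ^ (i * k) + 1) :
    PG.Conn (Cfsg.POmega F ⇑Q) 2 u := by
  obtain ⟨s, hs, hs2, hsi⟩ := exists_odd_prime hi
  rw [← h3] at hsi
  have hk3 : 3 ≤ k := by
    obtain ⟨l, hl⟩ := hk
    omega
  have hik : i * 3 ≤ i * k := Nat.mul_le_mul_left i hk3
  have c1 : PG.Conn (Cfsg.POmega F ⇑Q) 2 s := conn_two_pow_add hQ hm (by omega) (by omega) hs hs2 hsi
  have c2 : PG.Conn (Cfsg.POmega F ⇑Q) s u := by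
    refine conn_pow_add hQ hm (by omega) ?_ hs hu hs2 hu2 (hsi.trans (pow_add_dvd hk)) hd
    rcases Nat.lt_or_ge (i * k) m with h | h
    · exact Or.inl h
    · exact Or.inr ⟨by omega, rfl⟩
  exact c1.trans c2

/-- **At most two components in minus type**, except `q = 3`, `m = 2 ^ t + 1` prime. -/
theorem minus_three (hQ : Sg Q m (-1)) (hm : 4 ≤ m) {n k : ℕ}
    (hcard : n * k = Nat.card F ^ (m * (m - 1)) * (Nat.card F ^ m + 1) *
      ∏ i ∈ Finset.range (m - 1), (Nat.card F ^ (2 * (i + 1)) - 1))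
    {p r : ℕ} (hp : p.Prime) (hr : r.Prime) (hp2 : p ≠ 2) (hr2 : r ≠ 2) (hdp : p ∣ k) (hdr : r ∣ k) :
    PG.Conn (Cfsg.POmega F ⇑Q) 2 p ∨ PG.Conn (Cfsg.POmega F ⇑Q) 2 r ∨ PG.Conn (Cfsg.POmega F ⇑Q) p r ∨
      (Nat.card F = 3 ∧ m.Prime ∧ ∃ t, m = 2 ^ t + 1) := by
  have hq : 1 < Nat.card F := Finite.one_lt_card
  -- the mixed case
  have mixed : ∀ {a b : ℕ}, a.Prime → b.Prime → a ≠ 2 → b ≠ 2 → a ∣ Nat.card F ^ (m - 1) + 1 → Nat.card F ≤ 3 →
      b ∣ Nat.card F ^ m + 1 → PG.Conn (Cfsg.POmega F ⇑Q) 2 a ∨ PG.Conn (Cfsg.POmega F ⇑Q) 2 b ∨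
        (Nat.card F = 3 ∧ m.Prime ∧ ∃ t, m = 2 ^ t + 1) := by
    intro a b ha hb ha2 hb2 h1 h3 h2
    rcases (by omega : Nat.card F = 2 ∨ Nat.card F = 3) with hF | hF
    · -- `q = 2`
      have c3 : PG.Conn (Cfsg.POmega F ⇑Q) 2 3 :=
        conn_two_pow_add hQ hm (i := 1) le_rfl (by omega) Nat.prime_three (by norm_num) (by rw [hF]; norm_num)
      rcases Nat.even_or_odd m with he | ho
      · left
        have ho1 : Odd (m - 1) := Nat.Even.sub_odd (by omega) he odd_one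
        refine c3.trans (conn_pow_add hQ hm (by omega) (Or.inl (by omega)) Nat.prime_three ha (by norm_num) ha2 ?_ h1)
        rw [hF]
        exact three_dvd ho1
      · right; left
        refine c3.trans (conn_pow_add hQ hm (by omega) (Or.inr ⟨rfl, rfl⟩) Nat.prime_three hb (by norm_num) hb2 ?_ h2)
        rw [hF]
        exact three_dvd ho
    · -- `q = 3`
      rcases Nat.even_or_odd m with he | ho
      · left
        have ho1 : Odd (m - 1) := Nat.Even.sub_odd (by omega) he odd_one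
        have hao := ha.odd_of_ne_two ha2
        have e1 : Elt F (m - 1) (-1) (a.lcm 4) := elt_tor_minus (by omega) (Nat.lcm_dvd h1 (by
          rw [hF]
          exact four_dvd ho1))
        have e2 := ((elt_one (F := F) (n := 1) le_rfl (Or.inl rfl)).odd odd_one le_rfl).prod e1
        rw [one_mul, Nat.lcm_one_left] at e2
        have e3 : 1 + (m - 1) = m := by omega
        rw [e3] at e2
        refine conn_of_eltP hQ (by omega) e2 Nat.prime_two ha ?_ ?_
        · rw [dvd_lcm_four hao]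
          exact Dvd.intro _ rfl
        · rw [dvd_lcm_four hao]
          exact Dvd.intro_left _ rfl
      · -- `m` odd
        by_cases hmp : m.Prime
        · by_cases ht : ∃ t, m = 2 ^ t + 1
          · exact Or.inr (Or.inr ⟨hF, hmp, ht⟩)
          · left
            obtain ⟨z, hz, hz2, hzm⟩ : ∃ z : ℕ, z.Prime ∧ z ≠ 2 ∧ z ∣ m - 1 := by
              by_contra hcon
              push Not at hcon
              have h4 : ∀ {q : ℕ}, q.Prime → q ∣ m - 1 → q = 2 := by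
                intro q hq hqc
                by_contra hne
                exact hcon q hq hne hqc
              have h5 := Nat.eq_prime_pow_of_unique_prime_dvd (by omega) h4
              exact ht ⟨(m - 1).primeFactorsList.length, by omega⟩
            obtain ⟨i, hi⟩ := hzm
            have hzo := hz.odd_of_ne_two hz2
            have hi2 : 2 ≤ i := by
              obtain ⟨l, hl⟩ := ho
              have hi0 : i ≠ 0 := by
                rintro rfl
                omega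
              have hi1 : i ≠ 1 := by
                rintro rfl
                obtain ⟨l', hl'⟩ := hzo
                omega
              omega
            have e : m - 1 = i * z := by rw [hi, mul_comm]
            rw [e] at h1
            exact minus_factor hQ hm hF hzo (by
              rintro rfl
              exact Nat.not_prime_one hz) hi2 (by omega) ha ha2 h1
        · right; left
          have hmf := Nat.minFac_prime (n := m) (by omega)
          obtain ⟨i, hi⟩ := Nat.minFac_dvd m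
          have hfo : Odd m.minFac := by
            rw [← Nat.not_even_iff_odd, even_iff_two_dvd]
            intro h4
            have h5 : 2 ∣ m := h4.trans (Nat.minFac_dvd m)
            obtain ⟨l, hl⟩ := ho
            omega
          have hi2 : 2 ≤ i := by
            have hi0 : i ≠ 0 := by
              rintro rfl
              omega
            have hi1 : i ≠ 1 := by
              rintro rfl
              rw [mul_one] at hi
              exact hmp (hi ▸ hmf)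
            omega
          have e : m = i * m.minFac := by rw [mul_comm]; exact hi
          have h2' : b ∣ Nat.card F ^ (i * m.minFac) + 1 := by rwa [← e]
          exact minus_factor hQ hm hF hfo hmf.one_lt.ne' hi2 e.ge hb hb2 h2'
  rcases minus_cases hQ hm hcard hp hp2 hdp with h | ⟨h1, h3⟩ | h1
  · exact Or.inl h
  · rcases minus_cases hQ hm hcard hr hr2 hdr with h | ⟨h2, -⟩ | h2
    · exact Or.inr (Or.inl h)
    · exact Or.inr (Or.inr (Or.inl (conn_pow_add hQ hm (by omega) (Or.inl (by omega)) hp hr hp2 hr2 h1 h2)))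
    · rcases mixed hp hr hp2 hr2 h1 h3 h2 with h | h | h
      · exact Or.inl h
      · exact Or.inr (Or.inl h)
      · exact Or.inr (Or.inr (Or.inr h))
  · rcases minus_cases hQ hm hcard hr hr2 hdr with h | ⟨h2, h3⟩ | h2
    · exact Or.inr (Or.inl h)
    · rcases mixed hr hp hr2 hp2 h2 h3 h1 with h | h | h
      · exact Or.inr (Or.inl h)
      · exact Or.inl h
      · exact Or.inr (Or.inr (Or.inr h))
    · exact Or.inr (Or.inr (Or.inl (conn_pow_add hQ hm (by omega) (Or.inr ⟨rfl, rfl⟩) hp hr hp2 hr2 h1 h2)))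

end minus

/-! ### The two families -/

/-- **`PΩ⁺(2m, q)`, `m ≥ 4`: the primes `2, p, r` do not lie in three different components.** -/
theorem conn_of_isPOmegaPlus {S : Type*} [Group S] (h : Cfsg.IsPOmegaPlus S) {p r : ℕ} (hp : p.Prime) (hr : r.Prime)
    (hp2 : p ≠ 2) (hr2 : r ≠ 2) (hdp : p ∣ Nat.card S) (hdr : r ∣ Nat.card S) :
    PG.Conn S 2 p ∨ PG.Conn S 2 r ∨ PG.Conn S p r := by
  obtain ⟨F, _, _, m, hm, ⟨e⟩⟩ := h
  rw [Nat.card_congr e.toEquiv] at hdp hdr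
  have hcard := Cfsg.Agent.S0293.result (F := F) rfl m hm
  simp only [← Nat.card_eq_fintype_card] at hcard
  have h1 := plus_three (sg_plusForm (F := F) m) hm hcard hp hr hp2 hr2 hdp hdr
  rw [coe_plusForm] at h1
  rwa [PG.conn_congr e, PG.conn_congr e, PG.conn_congr e]

/-- **`PΩ⁻(2m, q)`, `m ≥ 4`: the primes `2, p, r` do not lie in three different components**, unless `q = 3` and
`m = 2 ^ t + 1` is a prime. -/
theorem conn_of_isPOmegaMinus {S : Type*} [Group S] (h : Cfsg.IsPOmegaMinus S) :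
    (∀ {p r : ℕ}, p.Prime → r.Prime → p ≠ 2 → r ≠ 2 → p ∣ Nat.card S → r ∣ Nat.card S →
      PG.Conn S 2 p ∨ PG.Conn S 2 r ∨ PG.Conn S p r) ∨
    ∃ (F : Type) (_ : Field F) (_ : Fintype F) (m : ℕ) (a b : F), Fintype.card F = 3 ∧ m.Prime ∧ (∃ t, m = 2 ^ t + 1) ∧
      4 ≤ m ∧ (∀ z₁ z₂ : F, z₁ ^ 2 + a * z₁ * z₂ + b * z₂ ^ 2 = 0 → z₁ = 0 ∧ z₂ = 0) ∧
      Nonempty (S ≃* Cfsg.POmega F (Cfsg.quadFormMinus (m - 1) F a b)) := by
  obtain ⟨F, iF, iF', m, a, b, hm, hab, ⟨e⟩⟩ := h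
  by_cases hex : Nat.card F = 3 ∧ m.Prime ∧ ∃ t, m = 2 ^ t + 1
  · exact Or.inr ⟨F, iF, iF', m, a, b, by rw [← Nat.card_eq_fintype_card]; exact hex.1, hex.2.1, hex.2.2, hm, hab, ⟨e⟩⟩
  · left
    intro p r hp hr hp2 hr2 hdp hdr
    rw [Nat.card_congr e.toEquiv] at hdp hdr
    have hcard := Cfsg.Agent.S0294.result (F := F) rfl m hm a b hab
    simp only [← Nat.card_eq_fintype_card] at hcard
    have hs := sg_minusForm (F := F) (m - 1) hab
    rw [Nat.sub_add_cancel (by omega)] at hs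
    have h1 := minus_three hs hm hcard hp hr hp2 hr2 hdp hdr
    rw [coe_minusForm] at h1
    rw [PG.conn_congr e, PG.conn_congr e, PG.conn_congr e]
    rcases h1 with h1 | h1 | h1 | h1
    · exact Or.inl h1
    · exact Or.inr (Or.inl h1)
    · exact Or.inr (Or.inr h1)
    · exact absurd h1 hex

end Cfsg.Agent.H182.Orth
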