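import Cfsg.Agent.H403.ClassifyEven
import Cfsg.Agent.H183.Disc

/-!
# The sign of a quadratic form over a finite field, all characteristics (helper182)

`HasSign Q n ε` : for every nontrivial additive character `ψ : F → ℂ` the sum of `ψ (Q v)` is `ε * q ^ n`.
Multiplicative for orthogonal sums and invariant under restriction of scalars; `ε = 1` for plus type, `-1` for minus
type.  (The characteristic two version, with characters in `ℤ`, is `Cfsg.Agent.H403.GaussSum`.)
-/

set_option autoImplicit false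
set_option linter.unusedSectionVars false
set_option linter.style.haveILetI false

namespace Cfsg.Agent.H182.Sign

open QuadraticMap
open Cfsg.Agent.LieClassical.OrthCore Cfsg.Agent.LieClassical.OrthForms
open Cfsg.Agent.H403.Classify

section Def

variable {F : Type*} [Field F] [Finite F]

/-- The Gauss sum of a function with values in `F`. -/
noncomputable def gs {V : Type*} [Finite V] (ψ : AddChar F ℂ) (Q : V → F) : ℂ :=
  letI := Fintype.ofFinite V
  ∑ v, ψ (Q v)

theorem gs_eq {V : Type*} [Fintype V] (ψ : AddChar F ℂ) (Q : V → F) : gs ψ Q = ∑ v, ψ (Q v) := by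
  rw [gs]
  congr!

theorem gs_congr {V W : Type*} [Finite V] [Finite W] (ψ : AddChar F ℂ) {Q : V → F} {Q' : W → F} (e : V ≃ W)
    (h : ∀ v, Q' (e v) = Q v) : gs ψ Q = gs ψ Q' := by
  classical
  letI := Fintype.ofFinite V
  letI := Fintype.ofFinite W
  rw [gs_eq, gs_eq]
  exact Fintype.sum_equiv e _ _ fun v => by rw [h]

theorem gs_prod {V W : Type*} [Finite V] [Finite W] (ψ : AddChar F ℂ) (Q : V → F) (Q' : W → F) :
    gs ψ (fun p : V × W => Q p.1 + Q' p.2) = gs ψ Q * gs ψ Q' := by
  letI := Fintype.ofFinite V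
  letI := Fintype.ofFinite W
  rw [gs_eq, gs_eq, gs_eq, Fintype.sum_prod_type, Finset.sum_mul_sum]
  simp only [AddChar.map_add_eq_mul]

/-- The sign of a form. -/
def HasSign {V : Type*} [Finite V] (Q : V → F) (n : ℕ) (ε : ℤ) : Prop :=
  ∀ ψ : AddChar F ℂ, ψ ≠ 1 → gs ψ Q = (ε : ℂ) * (Nat.card F : ℂ) ^ n

theorem HasSign.congr {V W : Type*} [Finite V] [Finite W] {Q : V → F} {Q' : W → F} {n : ℕ} {ε : ℤ} (h : HasSign Q n ε)
    (e : V ≃ W) (he : ∀ v, Q' (e v) = Q v) : HasSign Q' n ε := fun ψ hψ => by
  rw [← gs_congr ψ e he]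
  exact h ψ hψ

theorem HasSign.prod {V W : Type*} [Finite V] [Finite W] {Q : V → F} {Q' : W → F} {n n' : ℕ} {ε ε' : ℤ}
    (h : HasSign Q n ε) (h' : HasSign Q' n' ε') : HasSign (fun p : V × W => Q p.1 + Q' p.2) (n + n') (ε * ε') :=
  fun ψ hψ => by
    rw [gs_prod, h ψ hψ, h' ψ hψ, pow_add]
    push_cast
    ring

theorem hasSign_mul : HasSign (fun p : F × F => p.1 * p.2) 1 1 := by
  classical
  intro ψ hψ
  letI := Fintype.ofFinite F
  have hp : ψ.IsPrimitive := AddChar.IsPrimitive.of_ne_one hψ
  rw [gs_eq, Fintype.sum_prod_type_right]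
  simp only [AddChar.sum_mulShift _ hp]
  simp

theorem hasSign_zero {V : Type*} [Finite V] [Subsingleton V] [Nonempty V] (Q : V → F) (hQ : ∀ v, Q v = 0) :
    HasSign Q 0 1 := by
  intro ψ _
  letI := Fintype.ofFinite V
  rw [gs_eq]
  have h1 : Fintype.card V = 1 :=
    le_antisymm (Fintype.card_le_one_iff_subsingleton.2 inferInstance) Fintype.card_pos
  simp [hQ, h1]

/-- Restriction of scalars. -/
theorem HasSign.res {K : Type*} [Field K] [Finite K] [Algebra F K] {V : Type*} [Finite V] {Q : V → K} {n : ℕ} {ε : ℤ}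
    (h : HasSign Q n ε) : HasSign (fun v => Algebra.trace F K (Q v)) (Module.finrank F K * n) ε := by
  intro ψ hψ
  let ψ' : AddChar K ℂ := ψ.compAddMonoidHom (Algebra.trace F K).toAddMonoidHom
  have hψ' : ψ' ≠ 1 := by
    intro h1
    apply hψ
    ext x
    obtain ⟨y, rfl⟩ := Algebra.trace_surjective F K x
    have := DFunLike.congr_fun h1 y
    exact this
  have h2 := h ψ' hψ'
  have h3 : gs ψ' Q = gs ψ (fun v => Algebra.trace F K (Q v)) := rfl
  rw [← h3, h2]
  congr 1
  rw [pow_mul]
  congr 1
  rw [Module.natCard_eq_pow_finrank (K := F) (V := K), Nat.cast_pow]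

/-- A nontrivial additive character. -/
theorem exists_addChar (F : Type*) [Field F] [Finite F] : ∃ ψ : AddChar F ℂ, ψ ≠ 1 := by
  obtain ⟨ψ, hψ⟩ := (AddChar.exists_apply_ne_zero (a := (1 : F))).2 one_ne_zero
  exact ⟨ψ, fun h => hψ (by rw [h]; rfl)⟩

/-- The sign and the dimension are determined by the form. -/
theorem HasSign.unique {V : Type*} [Finite V] {Q : V → F} {n n' : ℕ} {ε ε' : ℤ} (h : HasSign Q n ε)
    (h' : HasSign Q n' ε') (hε : ε = 1 ∨ ε = -1) (hε' : ε' = 1 ∨ ε' = -1) : n = n' ∧ ε = ε' := by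
  obtain ⟨ψ, hψ⟩ := exists_addChar F
  have h1 : (ε : ℂ) * (Nat.card F : ℂ) ^ n = (ε' : ℂ) * (Nat.card F : ℂ) ^ n' := by
    rw [← h ψ hψ, ← h' ψ hψ]
  have h2 : ε * (Nat.card F : ℤ) ^ n = ε' * (Nat.card F : ℤ) ^ n' := by exact_mod_cast h1
  have hq : 1 < Nat.card F := Finite.one_lt_card
  have hpos : ∀ k : ℕ, (0 : ℤ) < (Nat.card F : ℤ) ^ k := fun k => by positivity
  have hsame : ∀ k l : ℕ, (Nat.card F : ℤ) ^ k = (Nat.card F : ℤ) ^ l → k = l := fun k l hkl =>
    Nat.pow_right_injective hq (by exact_mod_cast hkl)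
  have p1 := hpos n
  have p2 := hpos n'
  rcases hε with rfl | rfl <;> rcases hε' with rfl | rfl
  · exact ⟨hsame _ _ (by linarith), rfl⟩
  · exfalso; linarith
  · exfalso; linarith
  · exact ⟨hsame _ _ (by linarith), rfl⟩

end Def

section Binary

variable {F : Type*} [Field F] [Finite F]

theorem bin_eq (a b : F) (z : Fin 2 → F) : bin a b z = LieClassical.QuadForms.binForm F a b z := by
  rw [LieClassical.QuadForms.binForm_apply, bin]

theorem nondegenerate_iff_nondeg {V : Type*} [AddCommGroup V] [Module F V] {Q : QuadraticForm F V} :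
    (polarBilin Q).Nondegenerate ↔ Nondeg Q := by
  refine ⟨nondeg_of_nondegenerate, fun h => ⟨fun x hx => h x hx, fun x hx => h x fun y => ?_⟩⟩
  rw [polar_comm]
  exact hx y

theorem binForm_nondegenerate {a b : F} (hab : Aniso a b) :
    (polarBilin (LieClassical.QuadForms.binForm F a b)).Nondegenerate := by
  rw [nondegenerate_iff_nondeg]
  intro x hx
  have h1 := hx (Pi.single 0 1)
  have h2 := hx (Pi.single 1 1)
  rw [LieClassical.QuadForms.polar_binForm] at h1 h2
  have h01 : (0 : Fin 2) ≠ 1 := by decide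
  obtain ⟨h3, h4⟩ := binary_nondeg F a b hab (z := x 0) (w := x 1)
    (by simpa [Pi.single_apply] using h1) (by simpa [Pi.single_apply] using h2)
  funext i
  fin_cases i
  · exact h3
  · exact h4


/-- The Gram determinant of an anisotropic binary form is minus a nonsquare. -/
theorem gram_bin (a b : F) :
    (Matrix.of (fun i j : Fin 2 => polar ⇑(LieClassical.QuadForms.binForm F a b) (Pi.single i 1) (Pi.single j 1))).det
      = 4 * b - a ^ 2 := by
  rw [Matrix.det_fin_two]
  simp only [Matrix.of_apply, LieClassical.QuadForms.polar_binForm]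
  simp
  ring

theorem not_isSquare_disc (h2 : (2 : F) ≠ 0) {a b : F} (hab : Aniso a b) : ¬ IsSquare (a ^ 2 - 4 * b) := by
  rintro ⟨s, hs⟩
  have h := hab ((s - a) / 2) 1 (by
    field_simp
    linear_combination -hs)
  exact one_ne_zero h.2

theorem isSquare_mul_of_not {x y : F} (hx : ¬ IsSquare x) (hy : ¬ IsSquare y) : IsSquare (x * y) := by
  classical
  letI := Fintype.ofFinite F
  by_cases hF : ringChar F = 2
  · exact absurd (FiniteField.isSquare_of_char_two hF x) hx
  · have hx0 : x ≠ 0 := fun h => hx (h ▸ IsSquare.zero)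
    have hy0 : y ≠ 0 := fun h => hy (h ▸ IsSquare.zero)
    rw [FiniteField.isSquare_iff hF (mul_ne_zero hx0 hy0), mul_pow]
    have h1 := FiniteField.pow_dichotomy hF hx0
    have h2 := FiniteField.pow_dichotomy hF hy0
    rw [FiniteField.isSquare_iff hF hx0] at hx
    rw [FiniteField.isSquare_iff hF hy0] at hy
    rw [h1.resolve_left hx, h2.resolve_left hy]
    ring

/-- Any two anisotropic binary forms `z₁² + a z₁ z₂ + b z₂²` are isometric. -/
theorem bin_congr' {a b a' b' : F} (h : Aniso a b) (h' : Aniso a' b') :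
    ∃ e : (Fin 2 → F) ≃ₗ[F] (Fin 2 → F), ∀ z, bin a b (e z) = bin a' b' z := by
  by_cases h2 : (2 : F) = 0
  · haveI : CharP F 2 := CharTwo.of_one_ne_zero_of_two_eq_zero one_ne_zero h2
    exact bin_congr h h'
  · obtain ⟨g, hg⟩ := H183.isometric_of_isSquare h2 (LieClassical.QuadForms.binForm F a' b')
      (LieClassical.QuadForms.binForm F a b) (binForm_nondegenerate h') (binForm_nondegenerate h) (by
        rw [gram_bin, gram_bin]
        have := isSquare_mul_of_not (not_isSquare_disc h2 h') (not_isSquare_disc h2 h)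
        convert this using 1
        ring)
    refine ⟨g, fun z => ?_⟩
    rw [bin_eq, bin_eq]
    exact hg z

theorem hasSign_bin {a b : F} (hab : Aniso a b) : HasSign (bin a b) 1 (-1) := by
  classical
  intro ψ hψ
  letI := Fintype.ofFinite F
  have hp : ψ.IsPrimitive := AddChar.IsPrimitive.of_ne_one hψ
  rw [gs_eq]
  have h1 : ∀ c : F, ∑ z : Fin 2 → F, ψ (c * bin a b z) = if c = 0 then ((Fintype.card F : ℂ)) ^ 2 else
      ∑ z : Fin 2 → F, ψ (bin a b z) := by
    intro c
    split_ifs with hc
    · simp [hc]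
    · obtain ⟨g, hg⟩ := H183.similar_of_even (n := 2) ⟨1, rfl⟩ (LieClassical.QuadForms.binForm F a b)
        (binForm_nondegenerate hab) c hc
      refine Fintype.sum_equiv g.toEquiv _ _ fun z => ?_
      congr 1
      rw [bin_eq, bin_eq]
      exact (hg z).symm
  have h2 : ∑ c : F, ∑ z : Fin 2 → F, ψ (c * bin a b z) = (Fintype.card F : ℂ) := by
    rw [Finset.sum_comm]
    have h3 : ∀ z : Fin 2 → F, ∑ c : F, ψ (c * bin a b z) = if z = 0 then (Fintype.card F : ℂ) else 0 := by
      intro z
      rw [AddChar.sum_mulShift _ hp]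
      have h4 : bin a b z = 0 ↔ z = 0 := by
        constructor
        · intro h
          obtain ⟨h5, h6⟩ := hab _ _ h
          funext i
          fin_cases i
          · exact h5
          · exact h6
        · rintro rfl
          simp [bin]
      simp only [h4]
      split_ifs <;> simp
    simp only [h3]
    simp
  rw [Finset.sum_congr rfl fun c _ => h1 c] at h2
  rw [← Finset.add_sum_erase _ _ (Finset.mem_univ (0 : F)), if_pos rfl] at h2
  rw [Finset.sum_congr rfl (fun c hc => if_neg (Finset.ne_of_mem_erase hc))] at h2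
  rw [Finset.sum_const, Finset.card_erase_of_mem (Finset.mem_univ _), Finset.card_univ, nsmul_eq_mul,
    Nat.cast_sub Fintype.card_pos, Nat.cast_one] at h2
  have hq : 1 < Fintype.card F := Fintype.one_lt_card
  have hq' : ((Fintype.card F : ℂ) - 1) ≠ 0 := by
    intro h
    have h3 : (Fintype.card F : ℂ) = 1 := by linear_combination h
    have h4 : Fintype.card F = 1 := by exact_mod_cast h3
    omega
  rw [Nat.card_eq_fintype_card, pow_one]
  apply mul_left_cancel₀ hq'
  push_cast
  linear_combination h2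

theorem hasSign_minusForm (m : ℕ) {a b : F} (hab : Aniso a b) :
    HasSign (⇑(minusForm m F a b)) (m + 1) (-1) := by
  induction m with
  | zero =>
    rw [zero_add]
    refine (hasSign_bin hab).congr (Equiv.arrowCongr (Equiv.emptySum (Fin 0 ⊕ Fin 0) (Fin 2)).symm (Equiv.refl F))
      fun v => ?_
    rw [coe_minusForm, quadFormMinus_apply]
    simp [bin]
  | succ m ih =>
    have h := ih.prod (hasSign_mul (F := F))
    rw [mul_one] at h
    refine h.congr (Cfsg.Agent.LieClassical.QuadForms.minusStep m F).toEquiv fun v => ?_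
    rw [minusForm_eq, minusForm_eq]
    exact Cfsg.Agent.LieClassical.QuadForms.minusForm_minusStep m a b v.1 v.2.1 v.2.2

theorem hasSign_plusForm (m : ℕ) : HasSign (⇑(plusForm m F)) m 1 := by
  induction m with
  | zero =>
    exact hasSign_zero _ fun v => by
      rw [Subsingleton.elim v 0, QuadraticMap.map_zero]
  | succ m ih =>
    have h := ih.prod (hasSign_mul (F := F))
    rw [one_mul] at h
    refine h.congr (Cfsg.Agent.LieClassical.QuadForms.plusStep m F).toEquiv fun v => ?_
    rw [plusForm_eq, plusForm_eq]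
    exact Cfsg.Agent.LieClassical.QuadForms.plusForm_plusStep m v.1 v.2.1 v.2.2

/-- An anisotropic pair `1, ζ` exists over every finite field. -/
theorem exists_aniso (F : Type*) [Field F] [Finite F] : ∃ ζ : F, Aniso 1 ζ := by
  obtain ⟨ζ, hζ⟩ : ∃ ζ : F, ∀ t : F, t ^ 2 + t + ζ ≠ 0 := by
    by_contra hcon
    push Not at hcon
    have hs : Function.Surjective fun t : F => t ^ 2 + t := by
      intro y
      obtain ⟨t, ht⟩ := hcon (-y)
      exact ⟨t, by simp only; linear_combination ht⟩
    have hi := Finite.injective_iff_surjective.2 hs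
    have h1 : (0 : F) = -1 := hi (by simp)
    exact one_ne_zero (α := F) (by linear_combination h1)
  refine ⟨ζ, fun z₁ z₂ h => ?_⟩
  by_cases hz : z₂ = 0
  · rw [hz] at h
    refine ⟨?_, hz⟩
    have : z₁ ^ 2 = 0 := by linear_combination h
    exact (pow_eq_zero_iff two_ne_zero).1 this
  · exfalso
    apply hζ (z₁ / z₂)
    field_simp
    linear_combination h

theorem aniso_of_root {ζ : F} (hζ : ∀ t : F, t ^ 2 + t + ζ ≠ 0) : Aniso 1 ζ := by
  intro z₁ z₂ h
  by_cases hz : z₂ = 0
  · rw [hz] at h
    refine ⟨?_, hz⟩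
    have : z₁ ^ 2 = 0 := by linear_combination h
    exact (pow_eq_zero_iff two_ne_zero).1 this
  · exfalso
    apply hζ (z₁ / z₂)
    field_simp
    linear_combination h

end Binary

end Cfsg.Agent.H182.Sign
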