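import Mathlib

/-!
# Isometries commuting with an isometry of odd prime order (helper182)

`SForm σ B` : `B` is a reflexive sesquilinear form (given as a function).  `x` an isometry of odd prime order `p`
different from the characteristic without nonzero fixed vectors, such that there is no proper nonzero `x`-invariant
nondegenerate subspace.  Then the isometries commuting with `x` form a cyclic group (`isCyclic_of_block`), and such an
isometry `y ≠ 1` has no nonzero fixed vector (`eq_one_of_fixed`).
-/

set_option autoImplicit false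
set_option linter.unusedSectionVars false
set_option linter.style.haveILetI false

namespace Cfsg.Agent.H182.Cent

open Module

/-- Finite groups in the centraliser of an irreducible endomorphism are cyclic. -/
theorem isCyclic_of_irreducible {F V : Type*} [Field F] [AddCommGroup V] [Module F V] [Finite V] [Nontrivial V]
    (g : Module.End F V) (hirr : ∀ W : Submodule F V, (∀ w ∈ W, g w ∈ W) → W = ⊥ ∨ W = ⊤)
    {C : Type*} [Group C] (f : C →* Module.End F V) (hf : Function.Injective f)
    (hfg : ∀ c, Commute (f c) g) : IsCyclic C := by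
  have hE : Finite (Module.End F V) := Finite.of_injective (fun a : Module.End F V => (a : V → V))
    DFunLike.coe_injective
  have : Finite C := Finite.of_injective f hf
  let R := Subalgebra.centralizer F ({g} : Set (Module.End F V))
  have hcomm : ∀ x : R, Commute (x : Module.End F V) g := fun x =>
    (((Subalgebra.mem_centralizer_iff F).1 x.2) g rfl).symm
  have hinj : ∀ a : Module.End F V, Commute a g → a ≠ 0 → Function.Injective a := by
    intro a ha ha0
    rw [← LinearMap.ker_eq_bot]
    rcases hirr (LinearMap.ker a) (fun w hw => by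
      rw [LinearMap.mem_ker] at hw ⊢
      have : (a * g) w = (g * a) w := by rw [ha.eq]
      rw [Module.End.mul_apply, Module.End.mul_apply, hw, map_zero] at this
      exact this) with h | h
    · exact h
    · exact absurd (LinearMap.ker_eq_top.1 h) ha0
  have hnt : Nontrivial R := by
    refine ⟨0, 1, fun h => ?_⟩
    have h1 : (0 : Module.End F V) = 1 := congrArg Subtype.val h
    exact zero_ne_one h1
  have hnz : NoZeroDivisors R := by
    refine ⟨fun {a b} hab => ?_⟩
    by_cases ha0 : a = 0
    · exact Or.inl ha0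
    · right
      have ha : (a : Module.End F V) ≠ 0 := fun h => ha0 (Subtype.ext h)
      have hi := hinj a (hcomm a) ha
      apply Subtype.ext
      apply LinearMap.ext
      intro v
      apply hi
      have h1 : (a : Module.End F V) * (b : Module.End F V) = 0 := congrArg Subtype.val hab
      have h2 := congrArg (fun z : Module.End F V => z v) h1
      simpa using h2
  have hdom : IsDomain R := NoZeroDivisors.to_isDomain _
  have hfin : Finite R := Finite.of_injective _ Subtype.val_injective
  have hfield := Finite.isDomain_to_isField R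
  let _ : CommRing R :=
    { (inferInstance : Ring R) with mul_comm := hfield.mul_comm }
  have : IsDomain R := hdom
  let f' : C →* R :=
    { toFun := fun c => ⟨f c, (Subalgebra.mem_centralizer_iff F).2 (fun x hx => by
        rw [Set.mem_singleton_iff.1 hx]; exact (hfg c).symm)⟩
      map_one' := Subtype.ext (map_one f)
      map_mul' := fun x y => Subtype.ext (map_mul f x y) }
  exact isCyclic_of_injective_ringHom f' (fun x y h => hf (congrArg Subtype.val h))

/-- A reflexive sesquilinear form. -/
structure SForm {F V : Type*} [Field F] [AddCommGroup V] [Module F V] (σ : F →+* F) (B : V → V → F) : Prop where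
  add_left : ∀ u v w, B (u + v) w = B u w + B v w
  smul_left : ∀ (c : F) v w, B (c • v) w = c * B v w
  add_right : ∀ u v w, B u (v + w) = B u v + B u w
  smul_right : ∀ (c : F) v w, B v (c • w) = σ c * B v w
  refl : ∀ v w, B v w = 0 → B w v = 0

section

variable {F V : Type*} [Field F] [AddCommGroup V] [Module F V] {σ : F →+* F} {B : V → V → F}

theorem SForm.zero_left (hB : SForm σ B) (w : V) : B 0 w = 0 := by
  have := hB.smul_left 0 0 w
  rwa [zero_smul, zero_mul] at this

theorem SForm.zero_right (hB : SForm σ B) (w : V) : B w 0 = 0 := hB.refl _ _ (hB.zero_left w)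

theorem SForm.sub_left (hB : SForm σ B) (u v w : V) : B (u - v) w = B u w - B v w := by
  have := hB.add_left (u - v) v w
  rw [sub_add_cancel] at this
  rw [this]
  ring

theorem SForm.sub_right (hB : SForm σ B) (u v w : V) : B u (v - w) = B u v - B u w := by
  have := hB.add_right u (v - w) w
  rw [sub_add_cancel] at this
  rw [this]
  ring

/-- The orthogonal complement. -/
def perp (hB : SForm σ B) (W : Submodule F V) : Submodule F V where
  carrier := {v | ∀ w ∈ W, B v w = 0}
  zero_mem' := fun w _ => hB.zero_left w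
  add_mem' := fun {a b} ha hb w hw => by rw [hB.add_left, ha w hw, hb w hw, add_zero]
  smul_mem' := fun c v hv w hw => by rw [hB.smul_left, hv w hw, mul_zero]

theorem mem_perp (hB : SForm σ B) {W : Submodule F V} {v : V} : v ∈ perp hB W ↔ ∀ w ∈ W, B v w = 0 := Iff.rfl

theorem mem_perp' (hB : SForm σ B) {W : Submodule F V} {v : V} : v ∈ perp hB W ↔ ∀ w ∈ W, B w v = 0 :=
  ⟨fun h w hw => hB.refl _ _ (h w hw), fun h w hw => hB.refl _ _ (h w hw)⟩

/-- invariant subspaces -/
def Inv (x : Module.End F V) (W : Submodule F V) : Prop := ∀ w ∈ W, x w ∈ W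

/-- minimal invariant subspaces -/
def Min (x : Module.End F V) (P : Submodule F V) : Prop :=
  Inv x P ∧ P ≠ ⊥ ∧ ∀ R : Submodule F V, Inv x R → R ≤ P → R = ⊥ ∨ R = P

variable {x : Module.End F V}

theorem Inv.inf {W W' : Submodule F V} (h : Inv x W) (h' : Inv x W') : Inv x (W ⊓ W') :=
  fun w hw => ⟨h w hw.1, h' w hw.2⟩

theorem Inv.sup {W W' : Submodule F V} (h : Inv x W) (h' : Inv x W') : Inv x (W ⊔ W') := by
  intro w hw
  obtain ⟨a, ha, b, hb, rfl⟩ := Submodule.mem_sup.1 hw
  rw [map_add]
  exact Submodule.add_mem_sup (h a ha) (h' b hb)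

theorem Inv.pow {W : Submodule F V} (h : Inv x W) (k : ℕ) : ∀ w ∈ W, (x ^ k) w ∈ W := by
  induction k with
  | zero => exact fun w hw => hw
  | succ k ih =>
    intro w hw
    rw [pow_succ', Module.End.mul_apply]
    exact h _ (ih w hw)

theorem inv_ker {y : Module.End F V} (hy : Commute y x) : Inv x (LinearMap.ker y) := by
  intro w hw
  rw [LinearMap.mem_ker] at hw ⊢
  have : (y * x) w = (x * y) w := by rw [hy.eq]
  rw [Module.End.mul_apply, Module.End.mul_apply, hw, map_zero] at this
  exact this

theorem Inv.map {W : Submodule F V} (h : Inv x W) {y : Module.End F V} (hy : Commute y x) : Inv x (W.map y) := by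
  rintro _ ⟨w, hw, rfl⟩
  refine ⟨x w, h w hw, ?_⟩
  have : (y * x) w = (x * y) w := by rw [hy.eq]
  exact this

theorem inv_perp (hB : SForm σ B) (hxB : ∀ v w, B (x v) (x w) = B v w) {p : ℕ} (hp : 0 < p) (hxp : x ^ p = 1)
    {W : Submodule F V} (h : Inv x W) : Inv x (perp hB W) := by
  intro v hv w hw
  have h1 : x ((x ^ (p - 1)) w) = w := by
    rw [← Module.End.mul_apply, ← pow_succ', Nat.sub_add_cancel hp, hxp]
    rfl
  rw [← h1, hxB]
  exact hv _ (h.pow _ w hw)

theorem Min.map {P : Submodule F V} (h : Min x P) {y : Module.End F V} (hy : Commute y x)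
    (hinj : ∀ v ∈ P, y v = 0 → v = 0) : Min x (P.map y) := by
  refine ⟨h.1.map hy, ?_, ?_⟩
  · intro h0
    apply h.2.1
    rw [Submodule.eq_bot_iff]
    intro v hv
    apply hinj v hv
    have : y v ∈ P.map y := ⟨v, hv, rfl⟩
    rw [h0] at this
    exact (Submodule.mem_bot F).1 this
  · intro R hR hRP
    let R' : Submodule F V := P ⊓ R.comap y
    have hR' : Inv x R' := by
      intro w hw
      refine ⟨h.1 w hw.1, ?_⟩
      have : (y * x) w = (x * y) w := by rw [hy.eq]
      change y (x w) ∈ R
      change (y * x) w ∈ R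
      rw [this]
      exact hR _ hw.2
    rcases h.2.2 R' hR' inf_le_left with h1 | h1
    · left
      rw [Submodule.eq_bot_iff]
      intro r hr
      obtain ⟨v, hv, rfl⟩ := hRP hr
      have : v ∈ R' := ⟨hv, hr⟩
      rw [h1] at this
      rw [(Submodule.mem_bot F).1 this, map_zero]
    · right
      apply le_antisymm hRP
      rintro _ ⟨v, hv, rfl⟩
      rw [← h1] at hv
      exact hv.2

theorem exists_min [Finite V] {W : Submodule F V} (hW : Inv x W) (h0 : W ≠ ⊥) : ∃ P ≤ W, Min x P := by
  obtain ⟨n, hn⟩ : ∃ n, Nat.card W = n := ⟨_, rfl⟩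
  induction n using Nat.strong_induction_on generalizing W with
  | _ n ih =>
    by_cases hmin : ∀ R : Submodule F V, Inv x R → R ≤ W → R = ⊥ ∨ R = W
    · exact ⟨W, le_rfl, hW, h0, hmin⟩
    · push Not at hmin
      obtain ⟨R, hR, hRW, hR0, hR1⟩ := hmin
      have hlt : Nat.card R < n := by
        rw [← hn]
        exact Set.Finite.card_lt_card (Set.toFinite _) (SetLike.coe_ssubset_coe.2 (lt_of_le_of_ne hRW hR1))
      obtain ⟨P, hP, hP'⟩ := ih _ hlt hR hR0 rfl
      exact ⟨P, hP.trans hRW, hP'⟩

/-- Maschke. -/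
theorem exists_compl [Finite V] {p : ℕ} (hpF : (p : F) ≠ 0) (hxp : x ^ p = 1) {W : Submodule F V} (hW : Inv x W) :
    ∃ W' : Submodule F V, Inv x W' ∧ IsCompl W W' := by
  haveI : FiniteDimensional F V := Module.Finite.of_finite
  have hs : x.IsSemisimple := by
    have hsep : (Polynomial.X ^ p - 1 : Polynomial F).Separable := by
      have := Polynomial.separable_X_pow_sub_C (1 : F) hpF one_ne_zero
      simpa using this
    refine Module.End.isSemisimple_of_squarefree_aeval_eq_zero hsep.squarefree ?_
    simp [hxp]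
  obtain ⟨q, hq, hc⟩ := (Module.End.isSemisimple_iff.1 hs) W (fun w hw => hW w hw)
  exact ⟨q, fun w hw => hq hw, hc⟩

end

/-- The hypotheses of the block lemma. -/
structure Block {F V : Type*} [Field F] [AddCommGroup V] [Module F V] {σ : F →+* F} {B : V → V → F}
    (hB : SForm σ B) (x : Module.End F V) (p : ℕ) : Prop where
  nondeg : ∀ v, (∀ w, B v w = 0) → v = 0
  isom : ∀ v w, B (x v) (x w) = B v w
  prime : p.Prime
  ne_two : p ≠ 2
  pow : x ^ p = 1
  char : (p : F) ≠ 0
  fix : ∀ v, x v = v → v = 0
  min : ∀ Z : Submodule F V, Inv x Z → Z ≠ ⊥ → (∀ z ∈ Z, (∀ w ∈ Z, B z w = 0) → z = 0) → Z = ⊤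

section

variable {F V : Type*} [Field F] [AddCommGroup V] [Module F V] [Finite V] {σ : F →+* F} {B : V → V → F}
  {hB : SForm σ B} {x : Module.End F V} {p : ℕ}

theorem Block.min_cases (hX : Block hB x p) {P : Submodule F V} (hP : Min x P) : P ≤ perp hB P ∨ P = ⊤ := by
  have h1 : Inv x (P ⊓ perp hB P) := hP.1.inf (inv_perp hB hX.isom hX.prime.pos hX.pow hP.1)
  rcases hP.2.2 _ h1 inf_le_left with h | h
  · right
    refine hX.min P hP.1 hP.2.1 fun z hz hz' => ?_
    have : z ∈ P ⊓ perp hB P := ⟨hz, hz'⟩
    rw [h] at this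
    exact (Submodule.mem_bot F).1 this
  · left
    rw [← h]
    exact fun v hv => by
      have h2 := hv.2
      rw [h]
      exact h2

/-- A minimal isotropic invariant subspace is its own orthogonal complement. -/
theorem Block.perp_eq (hX : Block hB x p) {P : Submodule F V} (hP : Min x P) (hiso : P ≤ perp hB P) :
    perp hB P = P := by
  obtain ⟨U', hU', hc⟩ := exists_compl hX.char hX.pow (inv_perp hB hX.isom hX.prime.pos hX.pow hP.1)
  have hZ : P ⊔ U' = ⊤ := by
    refine hX.min _ (hP.1.sup hU') ?_ ?_
    · intro h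
      exact hP.2.1 (le_bot_iff.1 (le_sup_left.trans h.le))
    · intro z hz hz'
      obtain ⟨a, ha, b, hb, rfl⟩ := Submodule.mem_sup.1 hz
      have hb0 : b = 0 := by
        have h1 : b ∈ perp hB P := by
          intro w hw
          have h2 := hz' w (Submodule.mem_sup_left hw)
          rwa [hB.add_left, hiso ha w hw, zero_add] at h2
        have h3 : b ∈ perp hB P ⊓ U' := ⟨h1, hb⟩
        rw [hc.inf_eq_bot] at h3
        exact (Submodule.mem_bot F).1 h3
      subst hb0
      rw [add_zero] at hz' ⊢
      apply hX.nondeg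
      intro w
      have hw : w ∈ perp hB P ⊔ U' := by rw [hc.sup_eq_top]; exact Submodule.mem_top
      obtain ⟨c, hc', d, hd, rfl⟩ := Submodule.mem_sup.1 hw
      rw [hB.add_right, hz' d (Submodule.mem_sup_right hd), add_zero]
      exact hB.refl _ _ (hc' a ha)
  apply le_antisymm _ hiso
  intro v hv
  have hv' : v ∈ P ⊔ U' := by rw [hZ]; exact Submodule.mem_top
  obtain ⟨a, ha, b, hb, rfl⟩ := Submodule.mem_sup.1 hv'
  have h1 : b ∈ perp hB P := by
    have := (perp hB P).sub_mem hv (hiso ha)
    rwa [add_sub_cancel_left] at this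
  have h3 : b ∈ perp hB P ⊓ U' := ⟨h1, hb⟩
  rw [hc.inf_eq_bot] at h3
  rw [(Submodule.mem_bot F).1 h3, add_zero]
  exact ha

theorem Block.fix_sq (hX : Block hB x p) {v : V} (h : x (x v) = v) : v = 0 := by
  obtain ⟨k, hk⟩ := hX.prime.odd_of_ne_two hX.ne_two
  have h1 : ∀ j : ℕ, (x ^ (2 * j)) v = v := by
    intro j
    induction j with
    | zero => rfl
    | succ j ih =>
      rw [show 2 * (j + 1) = 2 * j + 1 + 1 by ring, pow_succ, pow_succ, Module.End.mul_apply,
        Module.End.mul_apply, h, ih]
  apply hX.fix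
  have h2 : (x ^ p) v = x v := by
    rw [hk, pow_succ', Module.End.mul_apply, h1]
  rw [← h2, hX.pow]
  rfl

/-- The key contradiction. -/
theorem Block.key (hX : Block hB x p) (hall : ∀ P : Submodule F V, Min x P → P ≤ perp hB P) {P : Submodule F V}
    (hP : Min x P) {φ : Module.End F V} (hφ : Commute φ x) (hinj : ∀ v ∈ P, φ v = 0 → v = 0)
    (hdis : P.map φ ⊓ P = ⊥) : False := by
  have hφP := hP.map hφ hinj
  have hd : ∀ v ∈ P, ∀ w ∈ P, v + φ w = 0 → v = 0 ∧ w = 0 := by
    intro v hv w hw h
    have h1 : φ w ∈ P.map φ ⊓ P := ⟨⟨w, hw, rfl⟩, by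
      rw [eq_neg_of_add_eq_zero_right h]
      exact P.neg_mem hv⟩
    rw [hdis] at h1
    have h2 := (Submodule.mem_bot F).1 h1
    rw [h2, add_zero] at h
    exact ⟨h, hinj w hw h2⟩
  have h1x : Commute (1 + φ) x := (Commute.one_left x).add_left hφ
  have h2x : Commute (1 + φ * x) x := (Commute.one_left x).add_left (hφ.mul_left (Commute.refl x))
  have hm1 : Min x (P.map (1 + φ)) := hP.map h1x fun v hv h => (hd v hv v hv h).1
  have hm2 : Min x (P.map (1 + φ * x)) := hP.map h2x fun v hv h => (hd v hv (x v) (hP.1 v hv) h).1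
  have i0 := hall P hP
  have i1 := hall _ hφP
  have i2 := hall _ hm1
  have i3 := hall _ hm2
  have e1 : ∀ u ∈ P, ∀ v ∈ P, B u (φ v) + B (φ u) v = 0 := by
    intro u hu v hv
    have h := i2 ⟨u, hu, rfl⟩ _ ⟨v, hv, rfl⟩
    change B (u + φ u) (v + φ v) = 0 at h
    rw [hB.add_left, hB.add_right, hB.add_right, i0 hu v hv, i1 ⟨u, hu, rfl⟩ (φ v) ⟨v, hv, rfl⟩, zero_add,
      add_zero] at h
    exact h
  have e2 : ∀ u ∈ P, ∀ v ∈ P, B u (φ (x v)) + B (φ (x u)) v = 0 := by
    intro u hu v hv
    have h := i3 ⟨u, hu, rfl⟩ _ ⟨v, hv, rfl⟩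
    change B (u + φ (x u)) (v + φ (x v)) = 0 at h
    rw [hB.add_left, hB.add_right, hB.add_right, i0 hu v hv, i1 ⟨x u, hP.1 u hu, rfl⟩ (φ (x v))
      ⟨x v, hP.1 v hv, rfl⟩, zero_add, add_zero] at h
    exact h
  have hφx : ∀ v, φ (x v) = x (φ v) := by
    intro v
    have : (φ * x) v = (x * φ) v := by rw [hφ.eq]
    exact this
  have e3 : ∀ u ∈ P, ∀ v ∈ P, B (x (x u) - u) (φ v) = 0 := by
    intro u hu v hv
    have h1 := e2 (x u) (hP.1 u hu) v hv
    have h2 := e1 (x (x u)) (hP.1 _ (hP.1 u hu)) v hv
    rw [hφx v, hX.isom] at h1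
    rw [hB.sub_left]
    linear_combination h2 - h1
  have hPe := hX.perp_eq hφP i1
  apply hP.2.1
  rw [Submodule.eq_bot_iff]
  intro u hu
  have h1 : x (x u) - u ∈ perp hB (P.map φ) := by
    rintro _ ⟨v, hv, rfl⟩
    exact e3 u hu v hv
  rw [hPe] at h1
  have h2 : x (x u) - u ∈ P.map φ ⊓ P := ⟨h1, P.sub_mem (hP.1 _ (hP.1 u hu)) hu⟩
  rw [hdis] at h2
  exact hX.fix_sq (sub_eq_zero.1 ((Submodule.mem_bot F).1 h2))

/-- **The block lemma.** -/
theorem Block.main (hX : Block hB x p) {U : Submodule F V} (hU : Min x U) {y : Module.End F V}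
    (hyB : ∀ v w, B (y v) (y w) = B v w) (hyx : Commute y x) :
    (∀ u ∈ U, y u ∈ U) ∧ ((∀ u ∈ U, y u = u) → y = 1) := by
  rcases hX.min_cases hU with hiso | htop
  · -- all minimal subspaces are isotropic
    have hall : ∀ P : Submodule F V, Min x P → P ≤ perp hB P := by
      intro P hP
      rcases hX.min_cases hP with h | h
      · exact h
      · exfalso
        subst h
        rcases hP.2.2 U hU.1 le_top with h1 | h1
        · exact hU.2.1 h1
        · subst h1
          apply hU.2.1
          rw [Submodule.eq_bot_iff]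
          intro v hv
          exact hX.nondeg v fun w => hiso hv w Submodule.mem_top
    have hinj : ∀ v, y v = 0 → v = 0 := by
      intro v hv
      apply hX.nondeg
      intro w
      rw [← hyB, hv, hB.zero_left]
    constructor
    · have hyU := hU.map hyx (fun v _ => hinj v)
      have h1 : Inv x (U.map y ⊓ U) := hyU.1.inf hU.1
      rcases hU.2.2 _ h1 inf_le_right with h | h
      · exact (hX.key hall hU hyx (fun v _ => hinj v) h).elim
      · have h2 : U ≤ U.map y := inf_eq_right.1 h
        rcases hyU.2.2 U hU.1 h2 with h3 | h3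
        · exact absurd h3 hU.2.1
        · intro u hu
          rw [h3]
          exact ⟨u, hu, rfl⟩
    · intro hfix
      by_contra hne
      have hPe := hX.perp_eq hU hiso
      have hn : Commute (y - 1) x := hyx.sub_left (Commute.one_left x)
      have hker : LinearMap.ker (y - 1) ≠ ⊤ := by
        intro h
        exact hne (sub_eq_zero.1 (LinearMap.ker_eq_top.1 h))
      obtain ⟨P', hP', hc⟩ := exists_compl hX.char hX.pow (inv_ker hn)
      have hP0 : P' ≠ ⊥ := by
        rintro rfl
        exact hker (by simpa using hc.sup_eq_top)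
      obtain ⟨P, hPP', hP⟩ := exists_min hP' hP0
      have hdisj : ∀ v ∈ P, (y - 1) v = 0 → v = 0 := by
        intro v hv h
        have h1 : v ∈ LinearMap.ker (y - 1) ⊓ P' := ⟨h, hPP' hv⟩
        rw [hc.inf_eq_bot] at h1
        exact (Submodule.mem_bot F).1 h1
      have hUk : ∀ u ∈ U, (y - 1) u = 0 := by
        intro u hu
        rw [LinearMap.sub_apply, hfix u hu]
        exact sub_self u
      have hrange : ∀ v, (y - 1) v ∈ U := by
        intro v
        rw [← hPe]
        intro u hu
        rw [LinearMap.sub_apply, Module.End.one_apply, hB.sub_left]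
        have := hyB v u
        rw [hfix u hu] at this
        rw [this, sub_self]
      refine hX.key hall hP hn hdisj ?_
      rw [Submodule.eq_bot_iff]
      rintro v ⟨⟨w, hw, rfl⟩, hv⟩
      exact hdisj _ hv (hUk _ (hrange w))
  · subst htop
    exact ⟨fun u _ => Submodule.mem_top, fun h => LinearMap.ext fun v => h v Submodule.mem_top⟩

theorem Block.eq_one_of_fixed (hX : Block hB x p) {y : Module.End F V} (hyB : ∀ v w, B (y v) (y w) = B v w)
    (hyx : Commute y x) {v : V} (hv : v ≠ 0) (h : y v = v) : y = 1 := by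
  have hn : Commute (y - 1) x := hyx.sub_left (Commute.one_left x)
  have h0 : LinearMap.ker (y - 1) ≠ ⊥ := by
    intro h0
    apply hv
    have : v ∈ LinearMap.ker (y - 1) := by
      rw [LinearMap.mem_ker, LinearMap.sub_apply, h]
      exact sub_self v
    rw [h0] at this
    exact (Submodule.mem_bot F).1 this
  obtain ⟨P, hPk, hP⟩ := exists_min (inv_ker hn) h0
  refine (hX.main hP hyB hyx).2 fun u hu => ?_
  have h1 := hPk hu
  rw [LinearMap.mem_ker, LinearMap.sub_apply, sub_eq_zero] at h1
  exact h1

/-- A group of isometries commuting with `x` is cyclic. -/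
theorem Block.isCyclic [Nontrivial V] (hX : Block hB x p) {C : Type*} [Group C] (f : C →* Module.End F V)
    (hf : Function.Injective f) (hfB : ∀ c v w, B (f c v) (f c w) = B v w) (hfx : ∀ c, Commute (f c) x) :
    IsCyclic C := by
  obtain ⟨U, -, hU⟩ := exists_min (x := x) (W := ⊤) (fun w _ => Submodule.mem_top) (by
    intro h
    obtain ⟨v, hv⟩ := exists_ne (0 : V)
    apply hv
    have : v ∈ (⊤ : Submodule F V) := Submodule.mem_top
    rw [h] at this
    exact (Submodule.mem_bot F).1 this)
  have hmem : ∀ c, ∀ u ∈ U, f c u ∈ U := fun c => (hX.main hU (hfB c) (hfx c)).1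
  haveI : Nontrivial U := by
    rw [Submodule.nontrivial_iff_ne_bot]
    exact hU.2.1
  let g : Module.End F U := x.restrict hU.1
  let f' : C →* Module.End F U :=
    { toFun := fun c => (f c).restrict (hmem c)
      map_one' := by
        ext u
        simp
      map_mul' := fun a b => by
        ext u
        simp [LinearMap.restrict_apply] }
  refine isCyclic_of_irreducible g ?_ f' ?_ ?_
  · intro W hW
    rcases hU.2.2 (W.map U.subtype) (by
      rintro _ ⟨w, hw, rfl⟩
      exact ⟨g w, hW w hw, rfl⟩) (Submodule.map_subtype_le U W) with h | h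
    · left
      rw [Submodule.eq_bot_iff]
      intro w hw
      have h1 : (w : V) ∈ W.map U.subtype := ⟨w, hw, rfl⟩
      rw [h] at h1
      exact Subtype.ext ((Submodule.mem_bot F).1 h1)
    · right
      apply Submodule.map_injective_of_injective U.injective_subtype
      rw [h, Submodule.map_top, Submodule.range_subtype]
  · rw [injective_iff_map_eq_one]
    intro c hc
    apply hf
    rw [map_one]
    refine (hX.main hU (hfB c) (hfx c)).2 fun u hu => ?_
    have := LinearMap.congr_fun hc ⟨u, hu⟩
    exact congrArg Subtype.val this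
  · intro c
    apply LinearMap.ext
    intro u
    apply Subtype.ext
    have : (f c * x) (u : V) = (x * f c) (u : V) := by rw [(hfx c).eq]
    exact this


/-- Two isometries commuting with `x` commute. -/
theorem Block.commute [Nontrivial V] (hX : Block hB x p) {y z : Module.End F V}
    (hyB : ∀ v w, B (y v) (y w) = B v w) (hyx : Commute y x) (hzB : ∀ v w, B (z v) (z w) = B v w)
    (hzx : Commute z x) : Commute y z := by
  let C : Subgroup (Module.End F V)ˣ :=
    { carrier := {u | (∀ v w, B ((u : Module.End F V) v) ((u : Module.End F V) w) = B v w) ∧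
        Commute (u : Module.End F V) x}
      one_mem' := ⟨fun v w => rfl, Commute.one_left x⟩
      mul_mem' := by
        rintro a b ⟨ha, ha'⟩ ⟨hb, hb'⟩
        exact ⟨fun v w => (ha _ _).trans (hb v w), ha'.mul_left hb'⟩
      inv_mem' := by
        rintro a ⟨ha, ha'⟩
        refine ⟨fun v w => ?_, ha'.units_inv_left⟩
        have h1 : ∀ v, (a : Module.End F V) (((a⁻¹ : (Module.End F V)ˣ) : Module.End F V) v) = v := by
          intro v
          rw [← Module.End.mul_apply, Units.mul_inv]
          rfl
        rw [← ha, h1, h1] }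
  have hcyc : IsCyclic C := hX.isCyclic ((Units.coeHom _).comp C.subtype)
    (Units.val_injective.comp (Subgroup.subtype_injective C)) (fun c => c.2.1) (fun c => c.2.2)
  have hunit : ∀ y : Module.End F V, (∀ v w, B (y v) (y w) = B v w) → IsUnit y := by
    intro y hy
    have hinj : Function.Injective y := by
      rw [injective_iff_map_eq_zero]
      intro v hv
      apply hX.nondeg
      intro w
      rw [← hy, hv, hB.zero_left]
    exact (Module.End.isUnit_iff _).2 (Finite.injective_iff_bijective.1 hinj)
  obtain ⟨y', rfl⟩ := hunit y hyB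
  obtain ⟨z', rfl⟩ := hunit z hzB
  have h := (IsCyclic.commGroup (α := C)).mul_comm ⟨y', hyB, hyx⟩ ⟨z', hzB, hzx⟩
  have h1 : y' * z' = z' * y' := congrArg Subtype.val h
  exact congrArg Units.val h1

end

end Cfsg.Agent.H182.Cent
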