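import Cfsg.Agent.H182.CentRow

/-!
# Isolated cyclic subgroups in the odd components of the prime graph of a unitary group: the abstract row (helper182)

`URow hB ρ N` : a group `G` of isometries of determinant one, with centre of exponent dividing `N`, in which every
element of odd prime order `r ∤ N` not adjacent to `2` in `G ⧸ Z(G)` has only blocks of codimension at most one.
`URow.hasCyc` : every prime which is not `Near` has `HasCyc`.
-/

set_option autoImplicit false
set_option linter.unusedSectionVars false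
set_option linter.style.haveILetI false

namespace Cfsg.Agent.H182.Cent

open Module Subgroup
open Cfsg.Agent.H94.PG Cfsg.Agent.H564.NearTwo

section

variable {G : Type*} [Group G] {N : ℕ}

theorem eq_one_of_pow_pow' {z : G} {a b : ℕ} (h1 : z ^ a = 1) (h2 : z ^ b = 1) (hab : a.Coprime b) : z = 1 := by
  have h3 : orderOf z ∣ Nat.gcd a b :=
    Nat.dvd_gcd (orderOf_dvd_of_pow_eq_one h1) (orderOf_dvd_of_pow_eq_one h2)
  rw [hab] at h3
  exact orderOf_eq_one_iff.1 (Nat.dvd_one.1 h3)

/-- Lifting elements of prime order through a centre of coprime exponent. -/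
theorem exists_lift' (hZ : ∀ z ∈ center G, z ^ N = 1) {r : ℕ} (hrN : r.Coprime N) (s : G ⧸ center G)
    (hs : s ^ r = 1) : ∃ x : G, (x : G ⧸ center G) = s ∧ x ^ r = 1 := by
  obtain ⟨x, rfl⟩ := QuotientGroup.mk_surjective s
  have h1 : x ^ r ∈ center G := by
    rw [← QuotientGroup.eq_one_iff]
    exact hs
  set c := x ^ r with hc
  have hcop : (orderOf c).Coprime r := by
    exact (Nat.Coprime.coprime_dvd_left (orderOf_dvd_of_pow_eq_one (hZ c h1)) hrN.symm)
  obtain ⟨u, hu⟩ := exists_pow_eq_self_of_coprime (x := c) hcop.symm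
  -- `(c ^ r) ^ u = c`
  refine ⟨x * (c ^ u)⁻¹, ?_, ?_⟩
  · rw [QuotientGroup.mk_mul, (QuotientGroup.eq_one_iff ((c ^ u)⁻¹)).2 (inv_mem (pow_mem h1 u)), mul_one]
  · have hcom : Commute x (c ^ u)⁻¹ := ((Commute.pow_right (mem_center_iff.1 h1 x).symm.symm u)).inv_right
    rw [hcom.mul_pow, inv_pow, ← pow_mul, mul_comm u r, pow_mul, hu, ← hc]
    exact mul_inv_cancel c

theorem commute_lift' (hZ : ∀ z ∈ center G, z ^ N = 1) {r : ℕ} (hrN : r.Coprime N) {x a : G}
    (hx : x ^ r = 1) (h : Commute (a : G ⧸ center G) (x : G ⧸ center G)) : Commute a x := by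
  have h1 : a * x * a⁻¹ * x⁻¹ ∈ center G := by
    rw [← QuotientGroup.eq_one_iff]
    change (a : G ⧸ center G) * (x : G ⧸ center G) * (a : G ⧸ center G)⁻¹ * (x : G ⧸ center G)⁻¹ = 1
    rw [h.eq]
    group
  set z := a * x * a⁻¹ * x⁻¹ with hz
  have h2 : a * x * a⁻¹ = z * x := by rw [hz]; group
  have hzx : Commute z x := (mem_center_iff.1 h1 x).symm
  have h3 : z ^ r = 1 := by
    have h4 : (a * x * a⁻¹) ^ r = 1 := by rw [conj_pow, hx]; group
    rw [h2, hzx.mul_pow, hx, mul_one] at h4
    exact h4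
  have h5 : z = 1 := eq_one_of_pow_pow' h3 (hZ _ h1) hrN
  rw [h5, one_mul, mul_inv_eq_iff_eq_mul] at h2
  exact h2

end

section

variable {F V : Type*} [Field F] [AddCommGroup V] [Module F V] {σ : F →+* F} {B : V → V → F}

/-- Only blocks of codimension at most one. -/
def Huge (B : V → V → F) (x : Module.End F V) : Prop :=
  ∀ Z : Submodule F V, Inv x Z → Z ≠ ⊥ → NonDeg B Z → (∀ z ∈ Z, x z = z → z = 0) →
    finrank F V < 2 * finrank F Z ∧ finrank F V ≤ finrank F Z + 1

theorem Huge.large {x : Module.End F V} (h : Huge B x) : Large B x := fun Z h1 h2 h3 h4 =>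
  ⟨(h Z h1 h2 h3 h4).1, by have := (h Z h1 h2 h3 h4).2; omega⟩

variable [Finite V] {hB : SForm σ B} {x : Module.End F V} {p : ℕ}

theorem IsoP.fix_le' {y : Module.End F V} {s : ℕ} (hX : IsoP hB x p) (hL : Large B x) (hY : IsoP hB y s)
    (hL' : Large B y) (hxy : Commute x y) : fixS x ≤ fixS y := by
  haveI : FiniteDimensional F V := Module.Finite.of_finite
  -- `x` has no fixed vectors on `Y y`
  have hxY : Inv x (IsoP.Y hB y) := hY.inv_Y hxy hX.isom
  have key : ∀ v ∈ IsoP.Y hB y, x v = v → v = 0 := by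
    intro v hv hxv
    by_contra hne
    have h1 : resE x hxY = 1 := by
      refine (hY.block hL').eq_one_of_fixed (v := ⟨v, hv⟩) (fun a b => hX.isom _ _) ?_
        (fun h => hne (congrArg Subtype.val h)) (Subtype.ext hxv)
      ext a
      change x (y (a : V)) = y (x (a : V))
      have : (x * y) (a : V) = (y * x) (a : V) := by rw [hxy.eq]
      exact this
    have h2 : IsoP.Y hB y ≤ fixS x := by
      intro w hw
      rw [mem_fixS]
      exact congrArg Subtype.val (LinearMap.congr_fun h1 ⟨w, hw⟩)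
    have h3 := Submodule.finrank_mono h2
    have h5 := (hX.finrank_fix_le hL).2
    have h6 := (hY.finrank_fix_le hL').2
    have h7 := hX.finrank_add
    omega
  intro v hv
  rw [mem_fixS] at hv
  have hc := hY.compl.2
  have hv' : v ∈ fixS y ⊔ IsoP.Y hB y := by rw [hc.sup_eq_top]; exact Submodule.mem_top
  obtain ⟨a, ha, b, hb, rfl⟩ := Submodule.mem_sup.1 hv'
  have hxa : x a ∈ fixS y := by
    rw [mem_fixS] at ha ⊢
    have : (x * y) a = (y * x) a := by rw [hxy.eq]
    rw [Module.End.mul_apply, Module.End.mul_apply, ha] at this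
    exact this.symm
  have hxb := hxY b hb
  rw [map_add] at hv
  have h1 : x a - a = b - x b := by
    rw [sub_eq_sub_iff_add_eq_add, hv, add_comm]
  have h2 : b - x b ∈ fixS y ⊓ IsoP.Y hB y :=
    ⟨h1 ▸ Submodule.sub_mem _ hxa ha, Submodule.sub_mem _ hb hxb⟩
  rw [hc.inf_eq_bot] at h2
  have h3 : b = 0 := key b hb (sub_eq_zero.1 ((Submodule.mem_bot F).1 h2)).symm
  rw [h3, add_zero]
  exact ha

/-- **Commuting isometries of odd prime order with only large blocks have the same centralizer.** -/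
theorem IsoP.commute_of_commute' {y : Module.End F V} {s : ℕ} (hX : IsoP hB x p) (hL : Large B x) (hY : IsoP hB y s)
    (hL' : Large B y) (hxy : Commute x y) {g : Module.End F V}
    (hgB : ∀ v w, B (g v) (g w) = B v w) (hg : Commute g y) : Commute g x := by
  have hfix : fixS x = fixS y :=
    le_antisymm (hX.fix_le' hL hY hL' hxy) (hY.fix_le' hL' hX hL hxy.symm)
  have hxY : Inv x (IsoP.Y hB y) := hY.inv_Y hxy hX.isom
  have hgY : Inv g (IsoP.Y hB y) := hY.inv_Y hg hgB
  haveI : Nontrivial (IsoP.Y hB y) := (Submodule.nontrivial_iff_ne_bot).2 hY.Y_ne_bot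
  have hc1 : Commute (resE g hgY) (resE x hxY) := by
    refine (hY.block hL').commute (fun a b => hgB _ _) ?_ (fun a b => hX.isom _ _) ?_
    · ext a
      have : (g * y) (a : V) = (y * g) (a : V) := by rw [hg.eq]
      exact this
    · ext a
      have : (x * y) (a : V) = (y * x) (a : V) := by rw [hxy.eq]
      exact this
  apply LinearMap.ext
  intro v
  have hc := hY.compl.2
  have hv' : v ∈ fixS y ⊔ IsoP.Y hB y := by rw [hc.sup_eq_top]; exact Submodule.mem_top
  obtain ⟨a, ha, b, hb, rfl⟩ := Submodule.mem_sup.1 hv'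
  rw [map_add, map_add]
  congr 1
  · have hga : g a ∈ fixS y := by
      rw [mem_fixS] at ha ⊢
      have : (g * y) a = (y * g) a := by rw [hg.eq]
      rw [Module.End.mul_apply, Module.End.mul_apply, ha] at this
      exact this.symm
    rw [← hfix, mem_fixS] at ha hga
    rw [Module.End.mul_apply, Module.End.mul_apply, ha, hga]
  · have h1 : (resE g hgY * resE x hxY) ⟨b, hb⟩ = (resE x hxY * resE g hgY) ⟨b, hb⟩ := by rw [hc1.eq]
    exact congrArg Subtype.val h1

/-- an endomorphism of determinant one which is trivial on the moved space is trivial -/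
theorem IsoP.eq_one_of_det (hX : IsoP hB x p) (hfx : finrank F (fixS x) ≤ 1) {c : Module.End F V}
    (hcx : Commute c x) (hdet : LinearMap.det c = 1) (hc : ∀ v ∈ IsoP.Y hB x, c v = v) : c = 1 := by
  haveI : FiniteDimensional F V := Module.Finite.of_finite
  have hcN : Inv c (fixS x) := inv_ker ((hcx.symm.sub_left (Commute.one_left c)))
  have hcompl := hX.compl.2
  have hres : resE c hcN = 1 := by
    -- the determinant
    have hdY : Inv c (IsoP.Y hB x) := fun v hv => by rw [hc v hv]; exact hv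
    have h1 : resE c hdY = 1 := by
      ext v
      exact hc v v.2
    let e := Submodule.prodEquivOfIsCompl (fixS x) (IsoP.Y hB x) hcompl
    have h2 : c = e.toLinearMap ∘ₗ ((resE c hcN).prodMap (resE c hdY)) ∘ₗ e.symm.toLinearMap := by
      apply LinearMap.ext
      intro v
      obtain ⟨w, rfl⟩ := e.surjective v
      rw [LinearMap.comp_apply, LinearMap.comp_apply]
      change c (e w) = e (((resE c hcN).prodMap (resE c hdY)) (e.symm (e w)))
      rw [LinearEquiv.symm_apply_apply, Submodule.coe_prodEquivOfIsCompl', Submodule.coe_prodEquivOfIsCompl',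
        map_add]
      rfl
    have h3 : LinearMap.det c = LinearMap.det (resE c hcN) := by
      refine (congrArg LinearMap.det h2).trans ?_
      rw [LinearMap.det_conj, LinearMap.det_prodMap, h1, map_one, mul_one]
    rw [hdet] at h3
    rcases Nat.lt_or_ge (finrank F (fixS x)) 1 with h4 | h4
    · have h5 : fixS x = ⊥ := Submodule.finrank_eq_zero.1 (by omega)
      ext v
      have h6 : (v : V) = 0 := by
        have h7 : (v : V) ∈ (⊥ : Submodule F V) := h5.le v.2
        exact (Submodule.mem_bot F).1 h7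
      change c (v : V) = v
      rw [h6, map_zero]
    · have h5 : finrank F (fixS x) = 1 := le_antisymm hfx h4
      obtain ⟨a, ha⟩ : ∃ a : F, resE c hcN = a • (1 : Module.End F (fixS x)) := by
        obtain ⟨a, ha, -⟩ := LinearMap.existsUnique_eq_smul_id_of_finrank_eq_one h5 (resE c hcN)
        exact ⟨a, ha⟩
      rw [ha, LinearMap.det_smul, h5, pow_one, map_one, mul_one] at h3
      rw [ha, ← h3, one_smul]
  apply LinearMap.ext
  intro v
  have hv' : v ∈ fixS x ⊔ IsoP.Y hB x := by rw [hcompl.sup_eq_top]; exact Submodule.mem_top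
  obtain ⟨a, ha, b, hb, rfl⟩ := Submodule.mem_sup.1 hv'
  rw [map_add, hc b hb]
  have h1 : c a = a := congrArg Subtype.val (LinearMap.congr_fun hres ⟨a, ha⟩)
  rw [h1]
  rfl

end

/-- The data of a unitary group. -/
structure URow {F V : Type*} [Field F] [AddCommGroup V] [Module F V] {σ : F →+* F} {B : V → V → F}
    (hB : SForm σ B) {G : Type*} [Group G] (ρ : G →* Module.End F V) (N : ℕ) : Prop where
  inj : Function.Injective ρ
  isom : ∀ g v w, B (ρ g v) (ρ g w) = B v w
  nondeg : ∀ v, (∀ w, B v w = 0) → v = 0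
  det : ∀ g, LinearMap.det (ρ g) = 1
  center : ∀ z ∈ Subgroup.center G, z ^ N = 1
  char : ∀ r : ℕ, r.Prime → r ≠ 2 → (r : F) = 0 → Adj (G ⧸ Subgroup.center G) r 2
  cop : ∀ r : ℕ, r.Prime → r ≠ 2 → r ∣ Nat.card (G ⧸ Subgroup.center G) → ¬ Near (G ⧸ Subgroup.center G) r →
    ∀ s : ℕ, s.Prime → s ≠ 2 → (s = r ∨ Adj (G ⧸ Subgroup.center G) r s) → ¬ s ∣ N
  huge : ∀ (g : G) (r : ℕ), r.Prime → r ≠ 2 → (r : F) ≠ 0 → ¬ r ∣ N → g ^ r = 1 → g ≠ 1 →
    ¬ Adj (G ⧸ Subgroup.center G) r 2 → Huge B (ρ g)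

section

variable {F V : Type*} [Field F] [AddCommGroup V] [Module F V] [Finite V] {σ : F →+* F} {B : V → V → F}
  {hB : SForm σ B} {G : Type*} [Group G] {ρ : G →* Module.End F V} {N : ℕ}

theorem URow.isoP (h : URow hB ρ N) {x : G} {r : ℕ} (hr : r.Prime) (hr2 : r ≠ 2) (hrF : (r : F) ≠ 0)
    (hx : x ^ r = 1) (hx1 : x ≠ 1) : IsoP hB (ρ x) r where
  nondeg := h.nondeg
  isom := h.isom x
  prime := hr
  ne_two := hr2
  pow := by rw [← map_pow, hx, map_one]
  char := hrF
  ne_one := fun h1 => hx1 (h.inj (by rw [h1, map_one]))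

variable [Finite G]

/-- the centralizer in `G` is cyclic -/
theorem URow.isCyclic_centralizer (h : URow hB ρ N) {x : G} {r : ℕ} (hr : r.Prime) (hr2 : r ≠ 2)
    (hrF : (r : F) ≠ 0) (hrN : ¬ r ∣ N) (hx : x ^ r = 1) (hx1 : x ≠ 1) (hn : ¬ Adj (G ⧸ Subgroup.center G) r 2) :
    IsCyclic (centralizer ({x} : Set G)) := by
  have hX := h.isoP hr hr2 hrF hx hx1
  have hH : Huge B (ρ x) := h.huge x r hr hr2 hrF hrN hx hx1 hn
  have hL : Large B (ρ x) := hH.large
  have hfx : finrank F (fixS (ρ x)) ≤ 1 := by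
    have h1 := hH (IsoP.Y hB (ρ x)) hX.invY hX.Y_ne_bot hX.nonDegY (fun z hz => hX.fixY hz)
    have h2 := hX.finrank_add
    omega
  have hc : ∀ c : centralizer ({x} : Set G), Commute (c : G) x := fun c =>
    mem_centralizer_singleton_iff.1 c.2
  haveI : Nontrivial (IsoP.Y hB (ρ x)) := (Submodule.nontrivial_iff_ne_bot).2 hX.Y_ne_bot
  have hinv : ∀ c : centralizer ({x} : Set G), Inv (ρ (c : G)) (IsoP.Y hB (ρ x)) := fun c =>
    hX.inv_Y ((hc c).map ρ) (h.isom _)
  let f : centralizer ({x} : Set G) →* Module.End F (IsoP.Y hB (ρ x)) :=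
    { toFun := fun c => resE (ρ (c : G)) (hinv c)
      map_one' := by
        ext v
        have : ρ ((1 : centralizer ({x} : Set G)) : G) = 1 := by rw [OneMemClass.coe_one, map_one]
        change ρ ((1 : centralizer ({x} : Set G)) : G) (v : V) = v
        rw [this]
        rfl
      map_mul' := fun a b => by
        ext v
        change ρ ((a * b : centralizer ({x} : Set G)) : G) (v : V) = ρ (a : G) (ρ (b : G) v)
        rw [Subgroup.coe_mul, map_mul]
        rfl }
  refine (hX.block hL).isCyclic f ?_ (fun c a b => h.isom _ _ _) (fun c => ?_)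
  · rw [injective_iff_map_eq_one]
    intro c hc1
    apply Subtype.ext
    apply h.inj
    rw [OneMemClass.coe_one, map_one]
    refine hX.eq_one_of_det hfx ((hc c).map ρ) (h.det _) fun v hv => ?_
    exact congrArg Subtype.val (LinearMap.congr_fun hc1 ⟨v, hv⟩)
  · ext v
    have : (ρ (c : G) * ρ x) (v : V) = (ρ x * ρ (c : G)) (v : V) := by rw [((hc c).map ρ).eq]
    exact this

/-- **The row theorem.** -/
theorem URow.hasCyc (h : URow hB ρ N) {r : ℕ} (hr : r.Prime) (hd : r ∣ Nat.card (G ⧸ Subgroup.center G))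
    (hn : ¬ Near (G ⧸ Subgroup.center G) r) : HasCyc (G ⧸ Subgroup.center G) r := by
  have hr2 : r ≠ 2 := fun h1 => hn (Or.inl h1)
  have hrF : (r : F) ≠ 0 := fun h1 => hn (Near.of_adj (h.char r hr hr2 h1))
  have hrN : ¬ r ∣ N := h.cop r hr hr2 hd hn r hr hr2 (Or.inl rfl)
  haveI : Fact r.Prime := ⟨hr⟩
  obtain ⟨s, hs⟩ := exists_prime_orderOf_dvd_card' r hd
  obtain ⟨x, rfl, hx⟩ := exists_lift' h.center ((Nat.Prime.coprime_iff_not_dvd hr).2 hrN) s
    (by rw [← hs]; exact pow_orderOf_eq_one s)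
  have hx1 : x ≠ 1 := by
    rintro rfl
    rw [QuotientGroup.mk_one, orderOf_one] at hs
    exact hr.one_lt.ne hs
  have hX := h.isoP hr hr2 hrF hx hx1
  have hL : Large B (ρ x) := (h.huge x r hr hr2 hrF hrN hx hx1 fun h' => hn (Near.of_adj h')).large
  have hcyc := h.isCyclic_centralizer hr hr2 hrF hrN hx hx1 fun h' => hn (Near.of_adj h')
  refine ⟨(centralizer ({x} : Set G)).map (QuotientGroup.mk' (Subgroup.center G)), ?_, ?_, ?_⟩
  · have h1 : (x : G ⧸ Subgroup.center G) ∈ (centralizer ({x} : Set G)).map (QuotientGroup.mk' (Subgroup.center G)) :=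
      ⟨x, mem_centralizer_singleton_iff.2 rfl, rfl⟩
    have h2 := orderOf_dvd_natCard (⟨_, h1⟩ : (centralizer ({x} : Set G)).map (QuotientGroup.mk' (Subgroup.center G)))
    rwa [Subgroup.orderOf_mk, hs] at h2
  · exact isCyclic_of_surjective ((QuotientGroup.mk' (Subgroup.center G)).subgroupMap (centralizer ({x} : Set G)))
      (MonoidHom.subgroupMap_surjective _ _)
  · rintro _ ⟨y0, hy0, rfl⟩ hy1 z hz
    -- an element of prime order
    rw [SetLike.mem_coe, mem_centralizer_singleton_iff] at hy0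
    obtain ⟨q, hq, hqd⟩ := exists_prime_dvd hy1
    set ybar : G ⧸ Subgroup.center G := (QuotientGroup.mk' (Subgroup.center G) y0) with hyb
    have hcx : Commute ybar (x : G ⧸ Subgroup.center G) :=
      (show Commute y0 x from hy0).map (QuotientGroup.mk' (Subgroup.center G))
    have hopos : orderOf ybar ≠ 0 := (orderOf_pos ybar).ne'
    have hoy := orderOf_pow_orderOf_div hopos hqd
    set w := ybar ^ (orderOf ybar / q) with hw
    have hcw : Commute (x : G ⧸ Subgroup.center G) w := (hcx.pow_left _).symm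
    have hor : q = r ∨ Adj (G ⧸ Subgroup.center G) r q := by
      by_cases hrq : r = q
      · exact Or.inl hrq.symm
      · exact Or.inr ⟨hr, hq, hrq, _, _, hs, hoy, hcw⟩
    have hnq : ¬ Adj (G ⧸ Subgroup.center G) q 2 := by
      intro hadj
      rcases hor with h1 | h1
      · rw [h1] at hadj
        exact hn (Near.of_adj hadj)
      · exact hn (Near.of_adj_adj h1 hadj)
    have hq2 : q ≠ 2 := by
      rintro rfl
      exact hn (Near.of_adj ⟨hr, hq, hr2, _, _, hs, hoy, hcw⟩)
    have hqN : ¬ q ∣ N := h.cop r hr hr2 hd hn q hq hq2 hor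
    have hqF : (q : F) ≠ 0 := fun h1 => hnq (h.char q hq hq2 h1)
    have hqc : q.Coprime N := (Nat.Prime.coprime_iff_not_dvd hq).2 hqN
    obtain ⟨y, hyw, hy⟩ := exists_lift' h.center hqc w (by rw [← hoy]; exact pow_orderOf_eq_one w)
    have hy1' : y ≠ 1 := by
      rintro rfl
      rw [← hyw, QuotientGroup.mk_one, orderOf_one] at hoy
      exact hq.one_lt.ne hoy
    have hxy : Commute x y := by
      apply commute_lift' h.center hqc hy
      rw [hyw]
      exact hcw
    obtain ⟨g, rfl⟩ := QuotientGroup.mk_surjective z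
    have hgy : Commute g y := by
      apply commute_lift' h.center hqc hy
      rw [hyw]
      rw [mem_centralizer_singleton_iff] at hz
      exact (show Commute (g : G ⧸ Subgroup.center G) ybar from hz).pow_right _
    have hY := h.isoP hq hq2 hqF hy hy1'
    have hLY : Large B (ρ y) := (h.huge y q hq hq2 hqF hqN hy hy1' hnq).large
    have hgx : Commute (ρ g) (ρ x) :=
      hX.commute_of_commute' hL hY hLY (hxy.map ρ) (h.isom g) (hgy.map ρ)
    refine ⟨g, mem_centralizer_singleton_iff.2 ?_, rfl⟩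
    apply h.inj
    rw [map_mul, map_mul]
    exact hgx.eq

end

end Cfsg.Agent.H182.Cent
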