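import Cfsg.Agent.H182.Sign

/-!
# Classification of even-dimensional quadratic forms over finite fields by the sign (helper182)

`Sg Q n ε` : `Q` is a nondegenerate quadratic form in dimension `2n` of sign `ε`.
* `Sg.exists_equiv` : two such forms (same `n`, `ε`) are isometric;
* `Sg.prod`, `Sg.res`, `Sg.congr`, `sg_plusForm`, `sg_minusForm`, `exists_sg`.
-/

set_option autoImplicit false
set_option linter.unusedSectionVars false
set_option linter.style.haveILetI false

namespace Cfsg.Agent.H182.Sign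

open QuadraticMap hiding proj
open Cfsg.Agent.LieClassical.OrthCore Cfsg.Agent.LieClassical.OrthForms Cfsg.Agent.LieClassical.OrthTrans
open Cfsg.Agent.H403.Classify

universe u v

/-- An anisotropic form in dimension two is a `minusForm 0`. -/
theorem isMinus_of_aniso {F : Type u} [Field F] [Finite F] {V : Type v} [AddCommGroup V] [Module F V]
    [FiniteDimensional F V] (Q : QuadraticForm F V) (h2 : Module.finrank F V = 2) (hs : ∀ x : V, x ≠ 0 → Q x ≠ 0) :
    IsMinus Q 0 := by
  -- a vector of norm one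
  obtain ⟨v, hv0, hv⟩ : ∃ v : V, v ≠ 0 ∧ Q v = 1 := by
    obtain ⟨x0, hx0⟩ : ∃ x : V, x ≠ 0 := by
      have : Nontrivial V := Module.nontrivial_of_finrank_pos (R := F) (by omega)
      exact exists_ne 0
    obtain ⟨y0, hy0⟩ := exists_linearIndependent_pair_of_one_lt_finrank (R := F) (by omega) hx0
    obtain ⟨x, hx, hx1⟩ := Cfsg.Agent.LieClassical.OrthFinite.exists_ternary_zero (Q x0) (Q y0) (-1) (polar Q x0 y0)
      (0 : F) 0
    have e : Q (x 0 • x0 + x 1 • y0) = x 2 ^ 2 := by
      rw [Q_add, QuadraticMap.map_smul, QuadraticMap.map_smul, polar_smul_left, polar_smul_right]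
      simp only [smul_eq_mul]
      linear_combination hx1
    have hx2 : x 2 ≠ 0 := by
      intro h0
      rw [h0, zero_pow two_ne_zero] at e
      have h1 : x 0 • x0 + x 1 • y0 = 0 := by
        by_contra hne
        exact hs _ hne e
      obtain ⟨h3, h4⟩ := LinearIndependent.pair_iff.1 hy0 _ _ h1
      apply hx
      funext i
      fin_cases i
      · exact h3
      · exact h4
      · exact h0
    have hone : Q ((x 2)⁻¹ • (x 0 • x0 + x 1 • y0)) = 1 := by
      rw [QuadraticMap.map_smul, e, smul_eq_mul]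
      field_simp
    refine ⟨_, fun h => ?_, hone⟩
    rw [h, QuadraticMap.map_zero] at hone
    exact zero_ne_one hone
  obtain ⟨w, hind⟩ := exists_linearIndependent_pair_of_one_lt_finrank (R := F) (by omega) hv0
  let B := basisOfLinearIndependentOfCardEqFinrank hind (by rw [h2, Fintype.card_fin])
  have hB : ∀ z : Fin 2 → F, B.equivFun.symm z = z 0 • v + z 1 • w := by
    intro z
    rw [Module.Basis.equivFun_symm_apply, Fin.sum_univ_two]
    simp [B]
  have hQz : ∀ z₁ z₂ : F, Q (z₁ • v + z₂ • w) = z₁ ^ 2 + polar Q v w * z₁ * z₂ + Q w * z₂ ^ 2 := by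
    intro z₁ z₂
    rw [Q_add, QuadraticMap.map_smul, QuadraticMap.map_smul, polar_smul_left, polar_smul_right, hv]
    simp only [smul_eq_mul]
    ring
  refine ⟨polar Q v w, Q w, ?_, ?_⟩
  · intro z₁ z₂ hz
    rw [← hQz] at hz
    have h3 : z₁ • v + z₂ • w = 0 := by
      by_contra hne
      exact hs _ hne hz
    exact LinearIndependent.pair_iff.1 hind _ _ h3
  · let e0 : ((Fin 0 ⊕ Fin 0) ⊕ Fin 2 → F) ≃ₗ[F] (Fin 2 → F) :=
      LinearEquiv.funCongrLeft F F (Equiv.emptySum (Fin 0 ⊕ Fin 0) (Fin 2)).symm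
    refine ⟨e0.trans B.equivFun.symm, fun u => ?_⟩
    rw [LinearEquiv.trans_apply, hB, hQz, coe_minusForm]
    simp [quadFormMinus_apply, e0, LinearEquiv.funCongrLeft]

/-- **Classification** of nondegenerate quadratic forms in even dimension over finite fields. -/
theorem classify' {F : Type u} [Field F] [Finite F] {V : Type v} [AddCommGroup V] [Module F V]
    [FiniteDimensional F V] (Q : QuadraticForm F V) (hQ : Nondeg Q) (m : ℕ) (hm : Module.finrank F V = 2 * m) :
    IsPlus Q m ∨ ∃ k, m = k + 1 ∧ IsMinus Q k := by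
  induction m generalizing V with
  | zero =>
    refine Or.inl ⟨LinearEquiv.ofFinrankEq _ _ (by
      rw [Module.finrank_fintype_fun_eq_card, Fintype.card_sum, Fintype.card_fin]
      omega), fun u => ?_⟩
    have hu : u = 0 := Subsingleton.elim _ _
    rw [hu, map_zero, QuadraticMap.map_zero, QuadraticMap.map_zero]
  | succ m ih =>
    by_cases hs : ∃ x : V, x ≠ 0 ∧ Q x = 0
    · obtain ⟨x, hx0, hx⟩ := hs
      obtain ⟨y, hy⟩ := exists_hyp hQ hx hx0
      have hd := finrank_Comp hy
      rcases ih (Q.comp (Comp Q x y).subtype) (nondeg_Comp hQ hy) (by omega) with hm' | ⟨k, rfl, hk⟩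
      · exact Or.inl (IsPlus.step hy hm')
      · exact Or.inr ⟨k + 1, rfl, IsMinus.step hy hk⟩
    · push Not at hs
      have hn3 : 2 * (m + 1) < 3 := by
        by_contra hcon
        obtain ⟨w, hw0, hw, -⟩ := Cfsg.Agent.LieClassical.OrthFinite.exists_sing_perp (Q := Q) (n := 0) ![] (by omega)
        exact hs w hw0 hw
      have hm0 : m = 0 := by omega
      subst hm0
      exact Or.inr ⟨0, rfl, isMinus_of_aniso Q (by omega) hs⟩

/-- Any two anisotropic binary parts give isometric forms. -/
theorem isMinus_exists_equiv {F : Type u} [Field F] [Finite F] {V : Type v} [AddCommGroup V] [Module F V]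
    {Q : QuadraticForm F V} {m : ℕ} (h : IsMinus Q m) {a b : F} (hab : Aniso a b) :
    ∃ e : ((Fin m ⊕ Fin m) ⊕ Fin 2 → F) ≃ₗ[F] V, ∀ u, Q (e u) = minusForm m F a b u := by
  obtain ⟨a', b', hab', e, he⟩ := h
  obtain ⟨f, hf⟩ := bin_congr' hab' hab
  let G : ((Fin m ⊕ Fin m) ⊕ Fin 2 → F) ≃ₗ[F] ((Fin m ⊕ Fin m) ⊕ Fin 2 → F) :=
    ((LinearEquiv.sumArrowLequivProdArrow (Fin m ⊕ Fin m) (Fin 2) F F).trans
      ((LinearEquiv.refl F (Fin m ⊕ Fin m → F)).prodCongr f)).trans
      (LinearEquiv.sumArrowLequivProdArrow (Fin m ⊕ Fin m) (Fin 2) F F).symm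
  refine ⟨G.trans e, fun u => ?_⟩
  rw [LinearEquiv.trans_apply, he, coe_minusForm, coe_minusForm, quadFormMinus_apply, quadFormMinus_apply]
  have h1 := hf (fun i => u (.inr i))
  rw [bin, bin] at h1
  have h2 : ∀ i, G u (.inl i) = u (.inl i) := fun i => rfl
  have h3 : ∀ i, G u (.inr i) = f (fun i => u (.inr i)) i := fun i => rfl
  simp only [h2, h3]
  rw [h1]

/-- `Q` is a nondegenerate quadratic form in dimension `2n` of sign `ε`. -/
structure Sg {F : Type*} [Field F] [Finite F] {V : Type*} [AddCommGroup V] [Module F V] [Finite V]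
    (Q : QuadraticForm F V) (n : ℕ) (ε : ℤ) : Prop where
  nondeg : Nondeg Q
  dim : Module.finrank F V = 2 * n
  sign : HasSign (⇑Q) n ε
  eps : ε = 1 ∨ ε = -1

section

variable {F : Type*} [Field F] [Finite F] {V W : Type*} [AddCommGroup V] [Module F V] [Finite V]
  [AddCommGroup W] [Module F W] [Finite W] {Q : QuadraticForm F V} {Q' : QuadraticForm F W} {n n' : ℕ} {ε ε' : ℤ}

theorem nondeg_congr (hQ : Nondeg Q) (e : V ≃ₗ[F] W) (he : ∀ v, Q' (e v) = Q v) : Nondeg Q' := by
  intro x hx
  have h1 : e.symm x = 0 := by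
    apply hQ
    intro y
    have h := hx (e y)
    rw [polar, ← he, ← he, ← he, map_add, LinearEquiv.apply_symm_apply]
    exact h
  exact (LinearEquiv.map_eq_zero_iff _).1 h1

theorem Sg.congr (h : Sg Q n ε) (e : V ≃ₗ[F] W) (he : ∀ v, Q' (e v) = Q v) : Sg Q' n ε :=
  ⟨nondeg_congr h.nondeg e he, by rw [← e.finrank_eq, h.dim], h.sign.congr e.toEquiv he, h.eps⟩

theorem sg_plusForm (m : ℕ) : Sg (plusForm m F) m 1 :=
  ⟨nondeg_plusForm m F, by rw [Module.finrank_fintype_fun_eq_card, Fintype.card_sum, Fintype.card_fin]; ring,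
    hasSign_plusForm m, Or.inl rfl⟩

theorem sg_minusForm (m : ℕ) {a b : F} (hab : Aniso a b) : Sg (minusForm m F a b) (m + 1) (-1) :=
  ⟨nondeg_minusForm m F a b hab, by
    rw [Module.finrank_fintype_fun_eq_card, Fintype.card_sum, Fintype.card_sum, Fintype.card_fin, Fintype.card_fin]
    ring, hasSign_minusForm m hab, Or.inr rfl⟩

/-- **Two quadratic forms with the same dimension `2n` and the same sign are isometric.** -/
theorem Sg.exists_equiv (h : Sg Q n ε) (h' : Sg Q' n ε) : ∃ e : V ≃ₗ[F] W, ∀ v, Q' (e v) = Q v := by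
  haveI : FiniteDimensional F V := Module.Finite.of_finite
  haveI : FiniteDimensional F W := Module.Finite.of_finite
  have key : ∀ {X Y : Type _} [AddCommGroup X] [Module F X] [AddCommGroup Y] [Module F Y]
      {P : QuadraticForm F X} {P' : QuadraticForm F Y} {ι : Type} {R : (ι → F) → F},
      (∃ e : (ι → F) ≃ₗ[F] X, ∀ u, P (e u) = R u) → (∃ e : (ι → F) ≃ₗ[F] Y, ∀ u, P' (e u) = R u) →
      ∃ e : X ≃ₗ[F] Y, ∀ v, P' (e v) = P v := by
    rintro X Y _ _ _ _ P P' ι R ⟨e, he⟩ ⟨f, hf⟩
    refine ⟨e.symm.trans f, fun v => ?_⟩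
    rw [LinearEquiv.trans_apply, hf, ← he, LinearEquiv.apply_symm_apply]
  have hp : IsPlus Q n → ε = 1 := by
    rintro ⟨e, he⟩
    exact (h.sign.unique ((sg_plusForm (F := F) n).congr e he).sign h.eps (Or.inl rfl)).2
  have hp' : IsPlus Q' n → ε = 1 := by
    rintro ⟨e, he⟩
    exact (h'.sign.unique ((sg_plusForm (F := F) n).congr e he).sign h.eps (Or.inl rfl)).2
  have hm : ∀ k, IsMinus Q k → ε = -1 := by
    rintro k ⟨a, b, hab, e, he⟩
    exact (h.sign.unique ((sg_minusForm (F := F) k hab).congr e he).sign h.eps (Or.inr rfl)).2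
  have hm' : ∀ k, IsMinus Q' k → ε = -1 := by
    rintro k ⟨a, b, hab, e, he⟩
    exact (h'.sign.unique ((sg_minusForm (F := F) k hab).congr e he).sign h.eps (Or.inr rfl)).2
  rcases classify' Q h.nondeg n h.dim with h1 | ⟨k, hk, h1⟩
  · rcases classify' Q' h'.nondeg n h'.dim with h2 | ⟨l, hl, h2⟩
    · exact key h1 h2
    · have := hp h1
      have := hm' l h2
      omega
  · rcases classify' Q' h'.nondeg n h'.dim with h2 | ⟨l, hl, h2⟩
    · have := hp' h2
      have := hm k h1
      omega
    · have hkl : k = l := by omega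
      subst hkl
      obtain ⟨ζ, hζ⟩ := exists_aniso F
      exact key (isMinus_exists_equiv h1 hζ) (isMinus_exists_equiv h2 hζ)

/-- The orthogonal sum. -/
def prodForm (Q : QuadraticForm F V) (Q' : QuadraticForm F W) : QuadraticForm F (V × W) :=
  Q.comp (LinearMap.fst F _ _) + Q'.comp (LinearMap.snd F _ _)

theorem prodForm_apply (p : V × W) : prodForm Q Q' p = Q p.1 + Q' p.2 := rfl

theorem Sg.prod (h : Sg Q n ε) (h' : Sg Q' n' ε') : Sg (prodForm Q Q') (n + n') (ε * ε') := by
  haveI : FiniteDimensional F V := Module.Finite.of_finite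
  haveI : FiniteDimensional F W := Module.Finite.of_finite
  refine ⟨?_, ?_, h.sign.prod h'.sign, ?_⟩
  · intro x hx
    refine Prod.ext (h.nondeg _ fun y => ?_) (h'.nondeg _ fun y => ?_)
    · have := hx (y, 0)
      simp only [polar, prodForm_apply, Prod.fst_add, Prod.snd_add, add_zero, QuadraticMap.map_zero] at this
      rw [polar]
      linear_combination this
    · have := hx (0, y)
      simp only [polar, prodForm_apply, Prod.fst_add, Prod.snd_add, add_zero, QuadraticMap.map_zero] at this
      rw [polar]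
      linear_combination this
  · rw [Module.finrank_prod, h.dim, h'.dim]
    ring
  · rcases h.eps with rfl | rfl <;> rcases h'.eps with rfl | rfl <;> simp

/-- Forms of both signs exist in every positive even dimension. -/
theorem exists_sg (F : Type) [Field F] [Finite F] {n : ℕ} (hn : 1 ≤ n) {ε : ℤ} (hε : ε = 1 ∨ ε = -1) :
    ∃ (ι : Type) (_ : Fintype ι) (Q : QuadraticForm F (ι → F)), Sg Q n ε := by
  rcases hε with rfl | rfl
  · exact ⟨_, inferInstance, _, sg_plusForm n⟩
  · obtain ⟨ζ, hζ⟩ := exists_aniso F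
    obtain ⟨k, rfl⟩ : ∃ k, n = k + 1 := ⟨n - 1, by omega⟩
    exact ⟨_, inferInstance, _, sg_minusForm k hζ⟩

end

section res

variable {F K : Type*} [Field F] [Finite F] [Field K] [Finite K] [Algebra F K] {V : Type*} [AddCommGroup V]
  [Module F V] [Module K V] [IsScalarTower F K V] [Finite V] {Q : QuadraticForm K V} {n : ℕ} {ε : ℤ}

/-- The trace form. -/
noncomputable def traceForm (F : Type*) {K V : Type*} [Field F] [Field K] [Algebra F K] [AddCommGroup V]
    [Module F V] [Module K V] [IsScalarTower F K V] (Q : QuadraticForm K V) : QuadraticForm F V :=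
  (Algebra.trace F K).compQuadraticMap' Q

theorem traceForm_apply (v : V) : traceForm F Q v = Algebra.trace F K (Q v) := rfl

theorem Sg.res (h : Sg Q n ε) : Sg (traceForm F Q) (Module.finrank F K * n) ε := by
  refine ⟨?_, ?_, h.sign.res, h.eps⟩
  · intro x hx
    apply h.nondeg
    intro y
    have h1 : ∀ c : K, Algebra.trace F K (c * polar Q x y) = 0 := by
      intro c
      have h2 := hx (c • y)
      simp only [polar, traceForm_apply] at h2
      rw [← map_sub, ← map_sub] at h2
      have h3 : polar Q x (c • y) = c * polar Q x y := by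
        rw [polar_smul_right, smul_eq_mul]
      rw [← h3]
      exact h2
    by_contra hne
    obtain ⟨t, ht⟩ := Algebra.trace_surjective F K 1
    have h5 := h1 (t * (polar Q x y)⁻¹)
    rw [mul_assoc, inv_mul_cancel₀ hne, mul_one, ht] at h5
    exact one_ne_zero h5
  · rw [← Module.finrank_mul_finrank F K V, h.dim]
    ring

end res

end Cfsg.Agent.H182.Sign
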