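import Cfsg.Agent.H182.Classify
import Cfsg.Agent.S0306

/-!
# Elements of orthogonal groups over finite fields: constructions (helper182)

`Elt F n ε N`: there is a nondegenerate quadratic form over `F` of sign `ε` in dimension `2n` with an isometry of
order `N`; `EltP F n ε N`: the same with an isometry no power of which is `-1` (if `2 ≠ 0` in `F`).
(The characteristic two version of `Elt` is `Cfsg.Agent.H403.Elt`.)
-/

set_option autoImplicit false
set_option linter.unusedSectionVars false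
set_option linter.style.haveILetI false

namespace Cfsg.Agent.H182.Orth

open QuadraticMap
open Cfsg.Agent.LieClassical.OrthCore Cfsg.Agent.LieClassical.OrthForms
open Cfsg.Agent.H182.Sign Cfsg.Agent.H403.Classify

section

variable (F : Type*) [Field F] [Finite F]

/-- A nondegenerate quadratic form of sign `ε` (in dimension `2n`) has an isometry of order `N`. -/
def Elt (n : ℕ) (ε : ℤ) (N : ℕ) : Prop :=
  0 < N ∧ ∃ (d : ℕ) (Q : QuadraticForm F (Fin d → F)) (g : Module.End F (Fin d → F)),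
    Sg Q n ε ∧ (∀ v, Q (g v) = Q v) ∧ orderOf g = N

/-- A nondegenerate quadratic form of sign `ε` (in dimension `2n`) has an isometry of order `N` no power of which
is `-1` (or the characteristic is two). -/
def EltP (n : ℕ) (ε : ℤ) (N : ℕ) : Prop :=
  0 < N ∧ ∃ (d : ℕ) (Q : QuadraticForm F (Fin d → F)) (g : Module.End F (Fin d → F)),
    Sg Q n ε ∧ (∀ v, Q (g v) = Q v) ∧ orderOf g = N ∧ ∀ k : ℕ, g ^ k = -1 → (2 : F) = 0

variable {F}

theorem EltP.elt {n : ℕ} {ε : ℤ} {N : ℕ} (h : EltP F n ε N) : Elt F n ε N := by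
  obtain ⟨hN, d, Q, g, h1, h2, h3, -⟩ := h
  exact ⟨hN, d, Q, g, h1, h2, h3⟩

theorem conj_pow {V W : Type*} [AddCommGroup V] [Module F V] [AddCommGroup W] [Module F W] (e : V ≃ₗ[F] W)
    (g : Module.End F V) (k : ℕ) : (e.conj g) ^ k = e.conj (g ^ k) := by
  change (LinearEquiv.conjRingEquiv e g) ^ k = LinearEquiv.conjRingEquiv e (g ^ k)
  rw [map_pow]

theorem conj_one {V W : Type*} [AddCommGroup V] [Module F V] [AddCommGroup W] [Module F W] (e : V ≃ₗ[F] W) :
    e.conj (1 : Module.End F V) = 1 := (LinearEquiv.conjRingEquiv e).map_one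

theorem orderOf_conj {V W : Type*} [AddCommGroup V] [Module F V] [AddCommGroup W] [Module F W] (e : V ≃ₗ[F] W)
    (g : Module.End F V) : orderOf (e.conj g) = orderOf g := by
  rw [orderOf_eq_orderOf_iff]
  intro k
  rw [conj_pow]
  constructor
  · intro h
    apply e.conj.injective
    rw [h, conj_one]
  · intro h
    rw [h, conj_one]

theorem Elt.of {V : Type*} [AddCommGroup V] [Module F V] [Finite V] {Q : QuadraticForm F V} {g : Module.End F V}
    {n : ℕ} {ε : ℤ} (hs : Sg Q n ε) (hg : ∀ v, Q (g v) = Q v) {N : ℕ} (hN : 0 < N)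
    (ho : orderOf g = N) : Elt F n ε N := by
  have : Module.Finite F V := Module.Finite.of_finite
  let e : V ≃ₗ[F] (Fin (Module.finrank F V) → F) := (Module.finBasis F V).equivFun
  refine ⟨hN, Module.finrank F V, Q.comp (e.symm : _ →ₗ[F] V), e.conj g, hs.congr e fun v => ?_, fun v => ?_, ?_⟩
  · change Q (e.symm (e v)) = Q v
    rw [LinearEquiv.symm_apply_apply]
  · change Q (e.symm (e (g (e.symm v)))) = Q (e.symm v)
    rw [LinearEquiv.symm_apply_apply, hg]
  · rw [orderOf_conj, ho]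

theorem EltP.of {V : Type*} [AddCommGroup V] [Module F V] [Finite V] {Q : QuadraticForm F V} {g : Module.End F V}
    {n : ℕ} {ε : ℤ} (hs : Sg Q n ε) (hg : ∀ v, Q (g v) = Q v) {N : ℕ} (hN : 0 < N)
    (ho : orderOf g = N) (hneg : ∀ k : ℕ, g ^ k = -1 → (2 : F) = 0) : EltP F n ε N := by
  have : Module.Finite F V := Module.Finite.of_finite
  let e : V ≃ₗ[F] (Fin (Module.finrank F V) → F) := (Module.finBasis F V).equivFun
  refine ⟨hN, Module.finrank F V, Q.comp (e.symm : _ →ₗ[F] V), e.conj g, hs.congr e fun v => ?_, fun v => ?_, ?_, ?_⟩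
  · change Q (e.symm (e v)) = Q v
    rw [LinearEquiv.symm_apply_apply]
  · change Q (e.symm (e (g (e.symm v)))) = Q (e.symm v)
    rw [LinearEquiv.symm_apply_apply, hg]
  · rw [orderOf_conj, ho]
  · intro k hk
    apply hneg k
    rw [conj_pow] at hk
    apply e.conj.injective
    rw [hk, map_neg, conj_one]

theorem pow_isometry {V : Type*} [AddCommGroup V] [Module F V] {Q : QuadraticForm F V} {g : Module.End F V}
    (hg : ∀ v, Q (g v) = Q v) (c : ℕ) (v : V) : Q ((g ^ c) v) = Q v := by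
  induction c generalizing v with
  | zero => rfl
  | succ c ih => rw [pow_succ, Module.End.mul_apply, ih, hg]

theorem Elt.dvd {n : ℕ} {ε : ℤ} {N M : ℕ} (h : Elt F n ε N) (hM : M ∣ N) : Elt F n ε M := by
  obtain ⟨hN, d, Q, g, hs, hg, ho⟩ := h
  obtain ⟨c, hc⟩ := hM
  have hc0 : c ≠ 0 := by
    rintro rfl
    omega
  have hM0 : 0 < M := by
    rcases Nat.eq_zero_or_pos M with rfl | h
    · omega
    · exact h
  refine ⟨hM0, d, Q, g ^ c, hs, pow_isometry hg c, ?_⟩
  rw [orderOf_pow' g hc0, ho, hc, Nat.gcd_eq_right (Dvd.intro_left _ rfl)]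
  exact Nat.mul_div_cancel _ (Nat.pos_of_ne_zero hc0)

theorem nontrivial_of_sg {V : Type*} [AddCommGroup V] [Module F V] [Finite V] {Q : QuadraticForm F V} {n : ℕ} {ε : ℤ}
    (hs : Sg Q n ε) (hn : 1 ≤ n) : Nontrivial V := by
  have h := hs.dim
  exact Module.nontrivial_of_finrank_pos (R := F) (by omega)

theorem two_eq_zero_of_neg {V : Type*} [AddCommGroup V] [Module F V] [Nontrivial V] {g : Module.End F V} {N k : ℕ}
    (hN : Odd N) (ho : g ^ N = 1) (hk : g ^ k = -1) : (2 : F) = 0 := by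
  have h1 : (-1 : Module.End F V) = 1 := by
    have h2 : (g ^ k) ^ N = 1 := by rw [← pow_mul, mul_comm, pow_mul, ho, one_pow]
    rw [hk, hN.neg_one_pow] at h2
    exact h2
  obtain ⟨v, hv⟩ := exists_ne (0 : V)
  have h3 : -v = v := by
    have := LinearMap.congr_fun h1 v
    simpa using this
  have h4 : (2 : F) • v = 0 := by
    rw [two_smul]
    nth_rw 1 [← h3]
    exact neg_add_cancel v
  exact (smul_eq_zero.1 h4).resolve_right hv

theorem Elt.odd {n : ℕ} {ε : ℤ} {N : ℕ} (h : Elt F n ε N) (hN : Odd N) (hn : 1 ≤ n) : EltP F n ε N := by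
  obtain ⟨hN0, d, Q, g, hs, hg, ho⟩ := h
  haveI := nontrivial_of_sg hs hn
  exact ⟨hN0, d, Q, g, hs, hg, ho, fun k hk => two_eq_zero_of_neg hN (ho ▸ pow_orderOf_eq_one g) hk⟩

theorem Elt.two {n : ℕ} {ε : ℤ} {N : ℕ} (h : Elt F n ε N) (h2 : (2 : F) = 0) : EltP F n ε N := by
  obtain ⟨hN0, d, Q, g, hs, hg, ho⟩ := h
  exact ⟨hN0, d, Q, g, hs, hg, ho, fun _ _ => h2⟩

theorem prodMap_pow {V W : Type*} [AddCommGroup V] [Module F V] [AddCommGroup W] [Module F W]
    (g : Module.End F V) (g' : Module.End F W) (k : ℕ) : (g.prodMap g') ^ k = (g ^ k).prodMap (g' ^ k) := by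
  have h1 : ∀ (a : Module.End F V) (b : Module.End F W), a.prodMap b = LinearMap.prodMapRingHom F V W (a, b) :=
    fun a b => rfl
  rw [h1, h1, ← map_pow]
  rfl

theorem orderOf_prodMap {V W : Type*} [AddCommGroup V] [Module F V] [AddCommGroup W] [Module F W]
    (g : Module.End F V) (g' : Module.End F W) : orderOf (g.prodMap g') = Nat.lcm (orderOf g) (orderOf g') := by
  rw [← Prod.orderOf (g, g')]
  have h1 : g.prodMap g' = LinearMap.prodMapRingHom F V W (g, g') := rfl
  rw [h1]
  apply orderOf_injective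
  rintro ⟨a, b⟩ ⟨a', b'⟩ hab
  have h2 : ∀ x y, (a x, b y) = (a' x, b' y) := fun x y => LinearMap.congr_fun hab (x, y)
  refine Prod.ext (LinearMap.ext fun x => congrArg Prod.fst (h2 x 0)) (LinearMap.ext fun y => congrArg Prod.snd (h2 0 y))

theorem Elt.prod {n n' : ℕ} {ε ε' : ℤ} {N N' : ℕ} (h : Elt F n ε N) (h' : Elt F n' ε' N') :
    Elt F (n + n') (ε * ε') (Nat.lcm N N') := by
  obtain ⟨hN, d, Q, g, hs, hg, ho⟩ := h
  obtain ⟨hN', d', Q', g', hs', hg', ho'⟩ := h'
  refine Elt.of (V := (Fin d → F) × (Fin d' → F)) (Q := prodForm Q Q') (g := g.prodMap g')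
    (hs.prod hs') (fun v => ?_) (Nat.lcm_pos hN hN') ?_
  · rw [prodForm_apply, prodForm_apply, LinearMap.prodMap_apply, hg, hg']
  · rw [orderOf_prodMap, ho, ho']

theorem EltP.prod {n n' : ℕ} {ε ε' : ℤ} {N N' : ℕ} (h : EltP F n ε N) (h' : Elt F n' ε' N') :
    EltP F (n + n') (ε * ε') (Nat.lcm N N') := by
  obtain ⟨hN, d, Q, g, hs, hg, ho, hneg⟩ := h
  obtain ⟨hN', d', Q', g', hs', hg', ho'⟩ := h'
  refine EltP.of (V := (Fin d → F) × (Fin d' → F)) (Q := prodForm Q Q') (g := g.prodMap g')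
    (hs.prod hs') (fun v => ?_) (Nat.lcm_pos hN hN') ?_ (fun k hk => ?_)
  · rw [prodForm_apply, prodForm_apply, LinearMap.prodMap_apply, hg, hg']
  · rw [orderOf_prodMap, ho, ho']
  · apply hneg k
    rw [prodMap_pow] at hk
    refine LinearMap.ext fun x => ?_
    have := LinearMap.congr_fun hk (x, 0)
    exact congrArg Prod.fst this

theorem orderOf_restrictScalars {K V : Type*} [Field K] [Algebra F K] [AddCommGroup V] [Module F V] [Module K V]
    [IsScalarTower F K V] (g : Module.End K V) : orderOf (g.restrictScalars F : Module.End F V) = orderOf g := by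
  rw [orderOf_eq_orderOf_iff]
  intro k
  have h : ∀ (k : ℕ) (v : V), ((g.restrictScalars F : Module.End F V) ^ k) v = (g ^ k) v := by
    intro k
    induction k with
    | zero => intro v; rfl
    | succ k ih =>
      intro v
      rw [pow_succ, pow_succ, Module.End.mul_apply, Module.End.mul_apply, ih]
      rfl
  constructor
  · intro h1
    ext v
    rw [← h, h1]
    rfl
  · intro h1
    ext v
    rw [h, h1]
    rfl

/-- Restriction of scalars. -/
theorem Elt.res {K : Type*} [Field K] [Finite K] [Algebra F K] {n : ℕ} {ε : ℤ} {N : ℕ} (h : Elt K n ε N) :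
    Elt F (Module.finrank F K * n) ε N := by
  obtain ⟨hN, d, Q, g, hs, hg, ho⟩ := h
  refine Elt.of (V := Fin d → K) (Q := traceForm F Q) (g := g.restrictScalars F) hs.res (fun v => ?_) hN ?_
  · rw [traceForm_apply, traceForm_apply]
    congr 1
    exact hg v
  · rw [orderOf_restrictScalars, ho]

end

end Cfsg.Agent.H182.Orth
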