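import Cfsg.Prelude.Def_Classical
import Cfsg.Agent.ClassicalGeometry.Discriminant

/-!
The form `quadFormMinus k F a c` (`Σ_{i<k} x_i y_i + z₁² + a z₁ z₂ + c z₂²`):
* `polarForm`: its polar form as a bilinear form, `quadFormMinus_add`, `quadFormMinus_smul`;
* `det_gram`: the Gram determinant in the standard basis is `(-1)^k (4c - a²)`;
* `finrank_le_of_singular`: a totally singular subspace has dimension at most `k` when the binary part is
  anisotropic (any field).
-/

set_option autoImplicit false

namespace Cfsg.Agent.H182.Minus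

open Module

section

variable (k : ℕ) (F : Type*) [Field F] (a c : F)

theorem quadFormMinus_apply (v : (Fin k ⊕ Fin k) ⊕ Fin 2 → F) :
    Cfsg.quadFormMinus k F a c v = (∑ i : Fin k, v (.inl (.inl i)) * v (.inl (.inr i)))
    + (v (.inr 0) ^ 2 + a * v (.inr 0) * v (.inr 1) + c * v (.inr 1) ^ 2) := rfl

/-- the polar form of `quadFormMinus` -/
def polarForm : LinearMap.BilinForm F ((Fin k ⊕ Fin k) ⊕ Fin 2 → F) :=
  LinearMap.mk₂ F (fun u v => (∑ i : Fin k, (u (.inl (.inl i)) * v (.inl (.inr i)) +
      u (.inl (.inr i)) * v (.inl (.inl i)))) +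
      (2 * u (.inr 0) * v (.inr 0) + a * (u (.inr 0) * v (.inr 1) + u (.inr 1) * v (.inr 0)) +
        2 * c * (u (.inr 1) * v (.inr 1))))
    (by intro u u' v
        simp only [Pi.add_apply, add_mul, Finset.sum_add_distrib]; ring)
    (by intro r u v
        simp only [Pi.smul_apply, smul_eq_mul, mul_add, Finset.mul_sum, Finset.sum_add_distrib, mul_assoc,
          mul_left_comm r])
    (by intro u v v'
        simp only [Pi.add_apply, mul_add, Finset.sum_add_distrib]; ring)
    (by intro r u v
        simp only [Pi.smul_apply, smul_eq_mul, mul_add, Finset.mul_sum, Finset.sum_add_distrib, mul_assoc,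
          mul_left_comm r])

theorem polarForm_apply (u v : (Fin k ⊕ Fin k) ⊕ Fin 2 → F) :
    polarForm k F a c u v = (∑ i : Fin k, (u (.inl (.inl i)) * v (.inl (.inr i)) +
      u (.inl (.inr i)) * v (.inl (.inl i)))) +
      (2 * u (.inr 0) * v (.inr 0) + a * (u (.inr 0) * v (.inr 1) + u (.inr 1) * v (.inr 0)) +
        2 * c * (u (.inr 1) * v (.inr 1))) := rfl

theorem quadFormMinus_add (u v : (Fin k ⊕ Fin k) ⊕ Fin 2 → F) :
    Cfsg.quadFormMinus k F a c (u + v)
      = Cfsg.quadFormMinus k F a c u + Cfsg.quadFormMinus k F a c v + polarForm k F a c u v := by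
  rw [quadFormMinus_apply, quadFormMinus_apply, quadFormMinus_apply, polarForm_apply]
  have h : ∑ i : Fin k, (u + v) (.inl (.inl i)) * (u + v) (.inl (.inr i)) =
      (∑ i : Fin k, u (.inl (.inl i)) * u (.inl (.inr i))) +
      (∑ i : Fin k, v (.inl (.inl i)) * v (.inl (.inr i))) +
      (∑ i : Fin k, (u (.inl (.inl i)) * v (.inl (.inr i)) +
      u (.inl (.inr i)) * v (.inl (.inl i)))) := by
    rw [← Finset.sum_add_distrib, ← Finset.sum_add_distrib]
    refine Finset.sum_congr rfl fun i _ => ?_
    simp only [Pi.add_apply]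
    ring
  rw [h]
  simp only [Pi.add_apply]
  ring

theorem quadFormMinus_smul (r : F) (v : (Fin k ⊕ Fin k) ⊕ Fin 2 → F) :
    Cfsg.quadFormMinus k F a c (r • v) = r * r * Cfsg.quadFormMinus k F a c v := by
  rw [quadFormMinus_apply, quadFormMinus_apply]
  simp only [Pi.smul_apply, smul_eq_mul, mul_add, Finset.mul_sum]
  congr 1
  · refine Finset.sum_congr rfl fun i _ => ?_
    ring
  · ring

theorem polar_eq (u v : (Fin k ⊕ Fin k) ⊕ Fin 2 → F) :
    QuadraticMap.polar (Cfsg.quadFormMinus k F a c) u v = polarForm k F a c u v := by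
  rw [QuadraticMap.polar, quadFormMinus_add]
  ring

/-- The Gram matrix in the standard basis. -/
theorem toMatrix_polarForm :
    LinearMap.BilinForm.toMatrix (Pi.basisFun F ((Fin k ⊕ Fin k) ⊕ Fin 2)) (polarForm k F a c) =
      Matrix.fromBlocks (Matrix.fromBlocks 0 1 1 0) 0 0 !![2, a; a, 2 * c] := by
  classical
  ext ((i | i) | i) ((j | j) | j)
  · rw [LinearMap.BilinForm.toMatrix_apply, polarForm_apply]
    simp [Pi.basisFun_apply, Pi.single_apply]
  · rw [LinearMap.BilinForm.toMatrix_apply, polarForm_apply]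
    simp [Pi.basisFun_apply, Pi.single_apply, Matrix.one_apply, eq_comm]
  · rw [LinearMap.BilinForm.toMatrix_apply, polarForm_apply]
    simp [Pi.basisFun_apply, Pi.single_apply]
  · rw [LinearMap.BilinForm.toMatrix_apply, polarForm_apply]
    simp [Pi.basisFun_apply, Pi.single_apply, Matrix.one_apply, eq_comm]
  · rw [LinearMap.BilinForm.toMatrix_apply, polarForm_apply]
    simp [Pi.basisFun_apply, Pi.single_apply]
  · rw [LinearMap.BilinForm.toMatrix_apply, polarForm_apply]
    simp [Pi.basisFun_apply, Pi.single_apply]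
  · rw [LinearMap.BilinForm.toMatrix_apply, polarForm_apply]
    simp [Pi.basisFun_apply, Pi.single_apply]
  · rw [LinearMap.BilinForm.toMatrix_apply, polarForm_apply]
    simp [Pi.basisFun_apply, Pi.single_apply]
  · rw [LinearMap.BilinForm.toMatrix_apply, polarForm_apply]
    fin_cases i <;> fin_cases j <;> simp [Pi.basisFun_apply]

/-- The Gram determinant in the standard basis is `(-1)^k (4c - a²)`. -/
theorem det_gram :
    (LinearMap.BilinForm.toMatrix (Pi.basisFun F ((Fin k ⊕ Fin k) ⊕ Fin 2)) (polarForm k F a c)).det =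
      (-1) ^ k * (4 * c - a ^ 2) := by
  rw [toMatrix_polarForm, Matrix.det_fromBlocks_zero₂₁,
    ClassicalGeometry.Discriminant.det_fromBlocks_zero_left, Matrix.det_fin_two_of, Matrix.det_one]
  ring

end

section singular

variable {k : ℕ} {F : Type*} [Field F] {a c : F}

/-- Dot-product orthogonal subspaces of `F^k` have dimensions adding up to at most `k`. -/
theorem finrank_add_le_of_dot (P R : Submodule F (Fin k → F))
    (h : ∀ p ∈ P, ∀ r ∈ R, p ⬝ᵥ r = 0) : finrank F P + finrank F R ≤ k := by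
  let B : LinearMap.BilinForm F (Fin k → F) := Matrix.toBilin' (1 : Matrix (Fin k) (Fin k) F)
  have hB : B.Nondegenerate :=
    LinearMap.BilinForm.nondegenerate_toBilin'_of_det_ne_zero' _ (by simp)
  have hBa : ∀ x y, B x y = x ⬝ᵥ y := fun x y => by
    simp [B, Matrix.toBilin'_apply']
  have h1 : finrank F (B.orthogonal P) = finrank F (Fin k → F) - finrank F P :=
    LinearMap.BilinForm.finrank_orthogonal hB P
  have h2 : R ≤ B.orthogonal P := by
    intro r hr
    rw [LinearMap.BilinForm.mem_orthogonal_iff]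
    intro p hp
    exact (hBa p r).trans (h p hp r hr)
  have h3 := Submodule.finrank_mono h2
  have h4 := Submodule.finrank_le P
  rw [Module.finrank_fin_fun] at h1 h4
  omega

/-- **Witt index of the elliptic form.** A totally singular subspace of `quadFormMinus k F a c` has dimension at
most `k` when the binary part is anisotropic. -/
theorem finrank_le_of_singular (hac : ∀ z₁ z₂ : F, z₁ ^ 2 + a * z₁ * z₂ + c * z₂ ^ 2 = 0 → z₁ = 0 ∧ z₂ = 0)
    (U : Submodule F ((Fin k ⊕ Fin k) ⊕ Fin 2 → F)) (hU : ∀ u ∈ U, Cfsg.quadFormMinus k F a c u = 0) :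
    finrank F U ≤ k := by
  let X : ((Fin k ⊕ Fin k) ⊕ Fin 2 → F) →ₗ[F] (Fin k → F) :=
    LinearMap.funLeft F F (fun i : Fin k => (Sum.inl (Sum.inl i) : (Fin k ⊕ Fin k) ⊕ Fin 2))
  let Y : ((Fin k ⊕ Fin k) ⊕ Fin 2 → F) →ₗ[F] (Fin k → F) :=
    LinearMap.funLeft F F (fun i : Fin k => (Sum.inl (Sum.inr i) : (Fin k ⊕ Fin k) ⊕ Fin 2))
  have hX : ∀ v i, X v i = v (.inl (.inl i)) := fun _ _ => rfl
  have hY : ∀ v i, Y v i = v (.inl (.inr i)) := fun _ _ => rfl
  -- kernel of `Y` on `U`
  have hker : ∀ u ∈ U, Y u = 0 → u (.inr 0) = 0 ∧ u (.inr 1) = 0 := by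
    intro u hu hYu
    refine hac _ _ ?_
    have h1 := hU u hu
    rw [quadFormMinus_apply] at h1
    have h2 : (∑ i : Fin k, u (.inl (.inl i)) * u (.inl (.inr i))) = 0 := by
      refine Finset.sum_eq_zero fun i _ => ?_
      rw [← hY u i, hYu, Pi.zero_apply, mul_zero]
    rw [h2, zero_add] at h1
    exact h1
  have hpol : ∀ u ∈ U, ∀ v ∈ U, polarForm k F a c u v = 0 := by
    intro u hu v hv
    have h1 := quadFormMinus_add k F a c u v
    rw [hU u hu, hU v hv, hU _ (U.add_mem hu hv)] at h1
    linear_combination -h1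
  let K : Submodule F ((Fin k ⊕ Fin k) ⊕ Fin 2 → F) := U ⊓ LinearMap.ker Y
  have hdim : finrank F (U.map Y) + finrank F K = finrank F U := by
    have h1 := LinearMap.finrank_range_add_finrank_ker (Y.domRestrict U)
    have h2 : LinearMap.range (Y.domRestrict U) = U.map Y := by
      rw [LinearMap.range_domRestrict]
    rw [h2] at h1
    rw [← h1]
    congr 1
    have h3 : K = (LinearMap.ker (Y.domRestrict U)).map U.subtype := by
      ext x
      simp only [K, Submodule.mem_inf, LinearMap.mem_ker, Submodule.mem_map, Submodule.subtype_apply,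
        LinearMap.domRestrict_apply, Subtype.exists, exists_and_right, exists_eq_right]
      constructor
      · rintro ⟨h, h'⟩
        exact ⟨h, h'⟩
      · rintro ⟨h, h'⟩
        exact ⟨h, h'⟩
    rw [h3]
    exact (Submodule.equivMapOfInjective _ (Submodule.subtype_injective U) _).finrank_eq.symm
  have hinj : finrank F (K.map X) = finrank F K := by
    refine (LinearEquiv.ofInjective (X.domRestrict K) ?_).finrank_eq.symm ▸ ?_
    · rw [← LinearMap.ker_eq_bot, LinearMap.ker_eq_bot']
      rintro ⟨u, hu⟩ hXu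
      obtain ⟨hu1, hu2⟩ := Submodule.mem_inf.1 hu
      obtain ⟨h0, h1⟩ := hker u hu1 hu2
      ext ((i | i) | i)
      · exact congrFun hXu i
      · exact congrFun (LinearMap.mem_ker.1 hu2) i
      · fin_cases i
        · exact h0
        · exact h1
    · rw [LinearMap.range_domRestrict]
  have hle := finrank_add_le_of_dot (K.map X) (U.map Y) (by
    rintro _ ⟨p, hp, rfl⟩ _ ⟨u, hu, rfl⟩
    obtain ⟨hp1, hp2⟩ := Submodule.mem_inf.1 hp
    obtain ⟨h0, h1⟩ := hker p hp1 hp2
    have h2 := hpol p hp1 u hu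
    rw [polarForm_apply, h0, h1] at h2
    have h3 : ∀ i, p (.inl (.inr i)) = 0 := fun i => congrFun (LinearMap.mem_ker.1 hp2) i
    simp only [h3, zero_mul, add_zero, mul_zero] at h2
    exact h2)
  omega

end singular

end Cfsg.Agent.H182.Minus
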