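import Cfsg.Agent.H367.Rec.Defs
import Cfsg.Agent.H436.Names
import Cfsg.Agent.H171.ThreePrimes

/-!
# The sporadic rows of the recognition of `A_n` and `S_n` by spectrum (helper182, task 2218 of helper367)

A finite test `bad N n`: some coclique of primes `≤ n` has two members which do not divide `N`.
-/

set_option autoImplicit false

namespace Cfsg.Agent.H182.RecSpo

open Cfsg Cfsg.Agent.OrdDiv Cfsg.Agent.H436 Cfsg.Agent.H367.Rec

universe u

/-- the primes below `142` -/
def PL : List ℕ := [2, 3, 5, 7, 11, 13, 17, 19, 23, 29, 31, 37, 41, 43, 47, 53, 59, 61, 67, 71, 73, 79, 83, 89, 97, 101, 103,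
  107, 109, 113, 127, 131, 137, 139]

theorem PL_prime : ∀ p ∈ PL, p.Prime := by
  intro p hp
  simp only [PL, List.mem_cons, List.not_mem_nil, or_false] at hp
  rcases hp with rfl | rfl | rfl | rfl | rfl | rfl | rfl | rfl | rfl | rfl | rfl | rfl | rfl | rfl | rfl | rfl | rfl |
    rfl | rfl | rfl | rfl | rfl | rfl | rfl | rfl | rfl | rfl | rfl | rfl | rfl | rfl | rfl | rfl | rfl <;> norm_num

theorem PL_nodup : PL.Nodup := by decide +kernel

/-- a coclique: `p0` and the primes `p > n / 2` with `p + p0 > n` -/
def cq (n p0 : ℕ) : List ℕ := PL.filter fun p => Nat.ble p n && (Nat.beq p p0 || (Nat.blt n (p + p0) && Nat.blt n (2 * p)))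

theorem mem_cq {n p0 p : ℕ} (h : p ∈ cq n p0) : p ∈ PL ∧ p ≤ n ∧ (p = p0 ∨ (n < p + p0 ∧ n < 2 * p)) := by
  unfold cq at h
  rw [List.mem_filter] at h
  refine ⟨h.1, ?_⟩
  have h2 := h.2
  rw [Bool.and_eq_true, Bool.or_eq_true, Bool.and_eq_true, Nat.ble_eq, Nat.beq_eq] at h2
  refine ⟨h2.1, ?_⟩
  rcases h2.2 with h3 | h3
  · exact Or.inl h3
  · right
    unfold Nat.blt at h3
    rw [Nat.ble_eq, Nat.ble_eq] at h3
    exact ⟨h3.1, h3.2⟩

theorem coc_cq (n p0 : ℕ) : Coc n (cq n p0).toFinset where
  prime p hp := PL_prime p (mem_cq (List.mem_toFinset.1 hp)).1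
  le p hp := (mem_cq (List.mem_toFinset.1 hp)).2.1
  sum p hp q hq hpq := by
    have h1 := (mem_cq (List.mem_toFinset.1 hp)).2.2
    have h2 := (mem_cq (List.mem_toFinset.1 hq)).2.2
    omega

theorem nodup_cq (n p0 : ℕ) : (cq n p0).Nodup := PL_nodup.filter _

/-- some coclique has two members not dividing `N` -/
def bad (N n : ℕ) : Bool := PL.any fun p0 =>
  Nat.ble 3 (cq n p0).length && Nat.ble 2 ((cq n p0).filter fun p => !(Nat.beq (N % p) 0)).length

theorem not_bad {S : Type*} [Group S] {n N : ℕ} (h : Cand n S) (hN : Nat.card S = N) : bad N n = false := by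
  by_contra hb
  rw [Bool.not_eq_false] at hb
  unfold bad at hb
  rw [List.any_eq_true] at hb
  obtain ⟨p0, -, hb⟩ := hb
  rw [Bool.and_eq_true, Nat.ble_eq, Nat.ble_eq] at hb
  obtain ⟨h3, h2⟩ := hb
  have hnd := (nodup_cq n p0).filter fun p => !(Nat.beq (N % p) 0)
  have hmem : ∀ p ∈ (cq n p0).filter (fun p => !(Nat.beq (N % p) 0)), p ∈ (cq n p0).toFinset ∧ ¬ p ∣ Nat.card S := by
    intro p hp
    rw [List.mem_filter] at hp
    refine ⟨List.mem_toFinset.2 hp.1, ?_⟩
    rw [hN]
    intro hd
    have := hp.2
    rw [Nat.mod_eq_zero_of_dvd hd] at this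
    exact absurd this (by decide)
  obtain ⟨r, s, hrs, hr, hs⟩ : ∃ r s : ℕ, r ≠ s ∧ r ∈ (cq n p0).filter (fun p => !(Nat.beq (N % p) 0)) ∧
      s ∈ (cq n p0).filter (fun p => !(Nat.beq (N % p) 0)) := by
    generalize hL : (cq n p0).filter (fun p => !(Nat.beq (N % p) 0)) = L at *
    match L, h2, hnd with
    | a :: b :: l, _, hnd =>
      refine ⟨a, b, ?_, by simp, by simp⟩
      rintro rfl
      simp at hnd
  refine hrs (h.coc _ (coc_cq n p0) ?_ r (hmem r hr).1 s (hmem s hs).1 (hmem r hr).2 (hmem s hs).2)
  rw [List.toFinset_card_of_nodup (nodup_cq n p0)]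
  exact h3

theorem sg_prime {p : ℕ} (hp : p.Prime) : sg p = p := by
  unfold sg
  rw [hp.primeFactors, Finset.sum_singleton, hp.factorization_self, pow_one]

/-- the numerical test for all `m` in `[13, B)` with `P ≤ m`, outside `[lo, hi]` -/
def chk (N P B lo hi : ℕ) : Bool := (List.range B).all fun m =>
  Nat.blt m 13 || Nat.blt m P || (Nat.ble lo m && Nat.ble m hi) || bad N m

theorem key {S : Type*} [Group S] [Finite S] {n : ℕ} (h : Cand n S) (hn : 13 ≤ n) (N P B lo hi : ℕ)
    (hN : Nat.card S = N) (hP : P.Prime) (hPN : N % P = 0) (hd : P.factorial ^ 50 % N = 0) (h17 : 17 ≤ B)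
    (hB : 2 * P ≤ B) (hc : chk N P B lo hi = true) : lo ≤ n ∧ n ≤ hi := by
  have hPn : P ≤ n := by
    have : Fact P.Prime := ⟨hP⟩
    obtain ⟨x, hx⟩ := exists_prime_orderOf_dvd_card' (G := S) P (by rw [hN]; exact Nat.dvd_of_mod_eq_zero hPN)
    have := h.sub x
    rwa [hx, sg_prime hP] at this
  have hdv : ∀ p : ℕ, p.Prime → P < p → ¬ p ∣ Nat.card S := by
    intro p hp hlt hpd
    rw [hN] at hpd
    have h1 := hp.dvd_of_dvd_pow (hpd.trans (Nat.dvd_of_mod_eq_zero hd))
    have := (hp.dvd_factorial).1 h1
    omega
  by_cases hnB : n < B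
  · unfold chk at hc
    rw [List.all_eq_true] at hc
    have h1 := hc n (List.mem_range.2 hnB)
    rw [not_bad h hN, Bool.or_false, Bool.or_eq_true, Bool.or_eq_true, Bool.and_eq_true, Nat.ble_eq, Nat.ble_eq] at h1
    unfold Nat.blt at h1
    rw [Nat.ble_eq, Nat.ble_eq] at h1
    omega
  · exfalso
    obtain ⟨p, q, r, hp, hq, hr, h1, h2, h3, h4⟩ := H171.ThreePrimes.exists_three_primes' n (by omega)
    have hC : Coc n {p, q, r} := by
      refine ⟨?_, ?_, ?_⟩
      · intro x hx
        simp only [Finset.mem_insert, Finset.mem_singleton] at hx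
        rcases hx with rfl | rfl | rfl <;> assumption
      · intro x hx
        simp only [Finset.mem_insert, Finset.mem_singleton] at hx
        omega
      · intro x hx y hy hxy
        simp only [Finset.mem_insert, Finset.mem_singleton] at hx hy
        omega
    have h5 := h.coc _ hC (by
      rw [Finset.card_eq_three.2 ⟨p, q, r, by omega, by omega, by omega, rfl⟩]) p (by simp) q (by simp)
      (hdv p hp (by omega)) (hdv q hq (by omega))
    omega

/-- **the sporadic groups and the Tits group** -/
theorem row_spor {S : Type u} [Group S] [Finite S] {n : ℕ} (hn : 13 ≤ n) {g : Grp}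
    (hg : g ∈ [Grp.tits, .m11, .m12, .m22, .m23, .m24, .j1, .j2, .j3, .j4, .co1, .co2, .co3, .mcl, .hs, .suz, .he, .ru,
      .on, .ly, .fi22, .fi23, .fi24, .hn, .th, .b, .m]) (hS : IsNamed g S) (h : Cand n S) : Surv n g := by
  have ho := hS.ord
  have imp : ∀ {P : Prop}, (1 ≤ n ∧ n ≤ 0) → P := fun h => absurd h.1 (by omega)
  simp only [List.mem_cons, List.not_mem_nil, or_false] at hg
  rcases hg with rfl | rfl | rfl | rfl | rfl | rfl | rfl | rfl | rfl | rfl | rfl | rfl | rfl | rfl | rfl | rfl | rfl |
    rfl | rfl | rfl | rfl | rfl | rfl | rfl | rfl | rfl | rfl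
  · exact imp (key h hn 17971200 13 26 1 0 ho
      (by norm_num) (by decide +kernel) (by decide +kernel) (by omega) (by omega) (by decide +kernel))
  · exact imp (key h hn 7920 11 22 1 0 ho
      (by norm_num) (by decide +kernel) (by decide +kernel) (by omega) (by omega) (by decide +kernel))
  · exact imp (key h hn 95040 11 22 1 0 ho
      (by norm_num) (by decide +kernel) (by decide +kernel) (by omega) (by omega) (by decide +kernel))
  · exact (key h hn 443520 11 22 0 16 ho
      (by norm_num) (by decide +kernel) (by decide +kernel) (by omega) (by omega) (by decide +kernel)).2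
  · exact imp (key h hn 10200960 23 46 1 0 ho
      (by norm_num) (by decide +kernel) (by decide +kernel) (by omega) (by omega) (by decide +kernel))
  · exact imp (key h hn 244823040 23 46 1 0 ho
      (by norm_num) (by decide +kernel) (by decide +kernel) (by omega) (by omega) (by decide +kernel))
  · exact imp (key h hn 175560 19 38 1 0 ho
      (by norm_num) (by decide +kernel) (by decide +kernel) (by omega) (by omega) (by decide +kernel))
  · exact imp (key h hn 604800 7 17 1 0 ho
      (by norm_num) (by decide +kernel) (by decide +kernel) (by omega) (by omega) (by decide +kernel))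
  · exact imp (key h hn 50232960 19 38 1 0 ho
      (by norm_num) (by decide +kernel) (by decide +kernel) (by omega) (by omega) (by decide +kernel))
  · exact imp (key h hn 86775571046077562880 43 86 1 0 ho
      (by norm_num) (by decide +kernel) (by decide +kernel) (by omega) (by omega) (by decide +kernel))
  · exact imp (key h hn 4157776806543360000 23 46 1 0 ho
      (by norm_num) (by decide +kernel) (by decide +kernel) (by omega) (by omega) (by decide +kernel))
  · exact imp (key h hn 42305421312000 23 46 1 0 ho
      (by norm_num) (by decide +kernel) (by decide +kernel) (by omega) (by omega) (by decide +kernel))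
  · exact imp (key h hn 495766656000 23 46 1 0 ho
      (by norm_num) (by decide +kernel) (by decide +kernel) (by omega) (by omega) (by decide +kernel))
  · exact (key h hn 898128000 11 22 0 16 ho
      (by norm_num) (by decide +kernel) (by decide +kernel) (by omega) (by omega) (by decide +kernel)).2
  · exact (key h hn 44352000 11 22 0 16 ho
      (by norm_num) (by decide +kernel) (by decide +kernel) (by omega) (by omega) (by decide +kernel)).2
  · exact (key h hn 448345497600 13 26 0 18 ho
      (by norm_num) (by decide +kernel) (by decide +kernel) (by omega) (by omega) (by decide +kernel)).2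
  · exact imp (key h hn 4030387200 17 34 1 0 ho
      (by norm_num) (by decide +kernel) (by decide +kernel) (by omega) (by omega) (by decide +kernel))
  · exact imp (key h hn 145926144000 29 58 1 0 ho
      (by norm_num) (by decide +kernel) (by decide +kernel) (by omega) (by omega) (by decide +kernel))
  · exact imp (key h hn 460815505920 31 62 1 0 ho
      (by norm_num) (by decide +kernel) (by decide +kernel) (by omega) (by omega) (by decide +kernel))
  · exact imp (key h hn 51765179004000000 67 134 1 0 ho
      (by norm_num) (by decide +kernel) (by decide +kernel) (by omega) (by omega) (by decide +kernel))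
  · exact (key h hn 64561751654400 13 26 0 18 ho
      (by norm_num) (by decide +kernel) (by decide +kernel) (by omega) (by omega) (by decide +kernel)).2
  · exact key h hn 4089470473293004800 23 46 23 28 ho
      (by norm_num) (by decide +kernel) (by decide +kernel) (by omega) (by omega) (by decide +kernel)
  · exact key h hn 1255205709190661721292800 29 58 29 30 ho
      (by norm_num) (by decide +kernel) (by decide +kernel) (by omega) (by omega) (by decide +kernel)
  · exact imp (key h hn 273030912000000 19 38 1 0 ho
      (by norm_num) (by decide +kernel) (by decide +kernel) (by omega) (by omega) (by decide +kernel))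
  · exact imp (key h hn 90745943887872000 31 62 1 0 ho
      (by norm_num) (by decide +kernel) (by decide +kernel) (by omega) (by omega) (by decide +kernel))
  · exact imp (key h hn 4154781481226426191177580544000000 47 94 1 0 ho
      (by norm_num) (by decide +kernel) (by decide +kernel) (by omega) (by omega) (by decide +kernel))
  · exact imp (key h hn 808017424794512875886459904961710757005754368000000000 71 142 1 0 ho
      (by norm_num) (by decide +kernel) (by decide +kernel) (by omega) (by omega) (by decide +kernel))

end Cfsg.Agent.H182.RecSpo
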