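import Cfsg.Agent.H182.SpoTwo
import Cfsg.Agent.S2476
import Cfsg.Agent.H374.SpFour
import Cfsg.Agent.H124.SUThreeEig
import Cfsg.Agent.H127.PSUThreeEx
import Cfsg.Agent.H413.JOneSpec
import Cfsg.Agent.H379.J2Spec

/-!
# `L = PSL₃(q)`, `PSU₃(q)`, `PSp₄(q)` (helper182)
-/

set_option autoImplicit false

namespace Cfsg.Agent.H182.Spo

open Cfsg.Agent.OrdDiv

/-! ### arithmetic -/

theorem gcd3 (m : ℕ) : Nat.gcd 3 m = 1 ∨ (Nat.gcd 3 m = 3 ∧ 3 ∣ m) := by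
  rcases (Nat.dvd_prime Nat.prime_three).1 (Nat.gcd_dvd_left 3 m) with h | h
  · exact Or.inl h
  · refine Or.inr ⟨h, ?_⟩
    have := Nat.gcd_dvd_right 3 m
    rwa [h] at this

/-- `n = (q² + q + 1) / (3, q - 1)` -/
theorem tor_three (q : ℕ) (hq : 2 ≤ q) : ∃ n, n = (q ^ 2 + q + 1) / Nat.gcd 3 (q - 1) ∧
    (q * q + q + 1 = n ∨ q * q + q + 1 = 3 * n) ∧ n ≠ 1 ∧
    ∀ r : ℕ, r.Prime → r ∣ n → r ≠ 2 ∧ ¬ r ∣ q ∧ ¬ r ∣ q - 1 ∧ ¬ r ∣ q + 1 ∧ ¬ 2 ∣ n := by
  have hsq : q ^ 2 = q * q := pow_two q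
  have hodd : ¬ 2 ∣ q * q + q + 1 := by
    intro h
    have h1 : 2 ∣ q * q + q := by
      rcases Nat.even_or_odd q with ⟨k, hk⟩ | ⟨k, hk⟩
      · exact ⟨k * (2 * k + 1), by rw [hk]; ring⟩
      · exact ⟨(2 * k + 1) * (k + 1), by rw [hk]; ring⟩
    omega
  have hq1 : ∀ r : ℕ, r.Prime → r ∣ q * q + q + 1 → ¬ r ∣ q ∧ ¬ r ∣ q + 1 ∧ (r ∣ q - 1 → r = 3) := by
    intro r hr h
    refine ⟨fun h1 => ?_, fun h1 => ?_, fun h1 => ?_⟩
    · have h2 : r ∣ q * q + q := Dvd.dvd.add (h1.mul_left q) h1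
      exact hr.one_lt.ne' (Nat.dvd_one.1 ((Nat.dvd_add_right h2).1 h))
    · have h2 : r ∣ q * (q + 1) := h1.mul_left q
      rw [mul_add, mul_one] at h2
      exact hr.one_lt.ne' (Nat.dvd_one.1 ((Nat.dvd_add_right h2).1 h))
    · obtain ⟨s, hs⟩ : ∃ s, q = s + 1 := ⟨q - 1, by omega⟩
      rw [hs, Nat.add_sub_cancel] at h1
      rw [hs, show (s + 1) * (s + 1) + (s + 1) + 1 = s * (s + 3) + 3 by ring] at h
      exact (Nat.prime_dvd_prime_iff_eq hr Nat.prime_three).1 ((Nat.dvd_add_right (h1.mul_right _)).1 h)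
  rcases gcd3 (q - 1) with h | ⟨h, h3⟩
  · refine ⟨q * q + q + 1, by rw [h, Nat.div_one, hsq], Or.inl rfl, by nlinarith, fun r hr hd => ?_⟩
    obtain ⟨h1, h2, h4⟩ := hq1 r hr hd
    refine ⟨fun h5 => hodd (h5 ▸ hd), h1, fun h5 => ?_, h2, hodd⟩
    rw [h4 h5] at h5
    have := Nat.dvd_gcd (dvd_refl 3) h5
    rw [h] at this
    omega
  · obtain ⟨t, ht⟩ := h3
    have hqt : q = 3 * t + 1 := by omega
    have hN : q * q + q + 1 = 3 * (3 * t * t + 3 * t + 1) := by rw [hqt]; ring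
    refine ⟨3 * t * t + 3 * t + 1, by rw [h, hsq, hN, Nat.mul_div_cancel_left _ (by norm_num)], Or.inr hN,
      by nlinarith, fun r hr hd => ?_⟩
    obtain ⟨h1, h2, h4⟩ := hq1 r hr (by rw [hN]; exact hd.mul_left 3)
    have hodd' : ¬ 2 ∣ 3 * t * t + 3 * t + 1 := fun h5 => hodd (by rw [hN]; exact h5.mul_left 3)
    refine ⟨fun h5 => hodd' (h5 ▸ hd), h1, fun h5 => ?_, h2, hodd'⟩
    rw [h4 h5] at hd
    have h6 : 3 ∣ 3 * t * t + 3 * t := ⟨t * t + t, by ring⟩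
    have := (Nat.dvd_add_right h6).1 hd
    omega

/-- `n = (q² - q + 1) / (3, q + 1)` -/
theorem tor_six (q : ℕ) (hq : 3 ≤ q) : ∃ n, n = (q ^ 2 - q + 1) / Nat.gcd 3 (q + 1) ∧
    (q * (q - 1) + 1 = n ∨ q * (q - 1) + 1 = 3 * n) ∧ n ≠ 1 ∧
    ∀ r : ℕ, r.Prime → r ∣ n → r ≠ 2 ∧ ¬ r ∣ q ∧ ¬ r ∣ q - 1 ∧ ¬ r ∣ q + 1 ∧ ¬ 2 ∣ n := by
  have hsq : q ^ 2 - q + 1 = q * (q - 1) + 1 := by rw [pow_two, Nat.mul_sub, mul_one]
  obtain ⟨s, hs⟩ : ∃ s, q = s + 1 := ⟨q - 1, by omega⟩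
  have hqs : q - 1 = s := by omega
  have hN0 : q * (q - 1) + 1 = (s + 1) * s + 1 := by rw [hqs, hs]
  have hodd : ¬ 2 ∣ (s + 1) * s + 1 := by
    intro h
    have h1 : 2 ∣ (s + 1) * s := by
      rcases Nat.even_or_odd s with ⟨k, hk⟩ | ⟨k, hk⟩
      · exact ⟨(2 * k + 1) * k, by rw [hk]; ring⟩
      · exact ⟨(2 * k + 1) * (k + 1), by rw [hk]; ring⟩
    omega
  have hq1 : ∀ r : ℕ, r.Prime → r ∣ (s + 1) * s + 1 → ¬ r ∣ q ∧ ¬ r ∣ q - 1 ∧ (r ∣ q + 1 → r = 3) := by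
    intro r hr h
    refine ⟨fun h1 => ?_, fun h1 => ?_, fun h1 => ?_⟩
    · rw [hs] at h1
      exact hr.one_lt.ne' (Nat.dvd_one.1 ((Nat.dvd_add_right (h1.mul_right s)).1 h))
    · rw [hqs] at h1
      exact hr.one_lt.ne' (Nat.dvd_one.1 ((Nat.dvd_add_right (h1.mul_left (s + 1))).1 h))
    · rw [hs] at h1
      have h2 : (s + 1) * s + 1 + 3 * (s + 1) = (s + 1 + 1) * (s + 1 + 1) := by ring
      have h3 : r ∣ (s + 1) * s + 1 + 3 * (s + 1) := by rw [h2]; exact h1.mul_right _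
      have h4 := (Nat.dvd_add_right h).1 h3
      rcases hr.dvd_mul.1 h4 with h5 | h5
      · exact (Nat.prime_dvd_prime_iff_eq hr Nat.prime_three).1 h5
      · have := (Nat.dvd_add_right h5).1 h1
        exact absurd (Nat.dvd_one.1 this) hr.one_lt.ne'
  rcases gcd3 (q + 1) with h | ⟨h, h3⟩
  · refine ⟨q * (q - 1) + 1, by rw [h, Nat.div_one, hsq], Or.inl rfl, by rw [hN0]; nlinarith, fun r hr hd => ?_⟩
    rw [hN0] at hd ⊢
    obtain ⟨h1, h2, h4⟩ := hq1 r hr hd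
    refine ⟨fun h5 => hodd (h5 ▸ hd), h1, h2, fun h5 => ?_, hodd⟩
    rw [h4 h5] at h5
    have := Nat.dvd_gcd (dvd_refl 3) h5
    rw [h] at this
    omega
  · obtain ⟨t, ht⟩ := h3
    obtain ⟨t', rfl⟩ : ∃ t', t = t' + 1 := ⟨t - 1, by omega⟩
    have hst : s = 3 * t' + 1 := by omega
    have hN : (s + 1) * s + 1 = 3 * (3 * t' * t' + 3 * t' + 1) := by rw [hst]; ring
    refine ⟨3 * t' * t' + 3 * t' + 1, by rw [h, hsq, hN0, hN, Nat.mul_div_cancel_left _ (by norm_num)],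
      Or.inr (hN0.trans hN), by
        have : 1 ≤ t' := by omega
        nlinarith, fun r hr hd => ?_⟩
    obtain ⟨h1, h2, h4⟩ := hq1 r hr (by rw [hN]; exact hd.mul_left 3)
    have hodd' : ¬ 2 ∣ 3 * t' * t' + 3 * t' + 1 := fun h5 => hodd (by rw [hN]; exact h5.mul_left 3)
    refine ⟨fun h5 => hodd' (h5 ▸ hd), h1, h2, fun h5 => ?_, hodd'⟩
    rw [h4 h5] at hd
    have h6 : 3 ∣ 3 * t' * t' + 3 * t' := ⟨t' * t' + t', by ring⟩
    have := (Nat.dvd_add_right h6).1 hd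
    omega

/-- `n = (q² + 1) / (2, q - 1)` -/
theorem tor_four (q : ℕ) (hq : 2 ≤ q) : ∃ n, n = (q ^ 2 + 1) / Nat.gcd 2 (q - 1) ∧
    (q * q + 1 = n ∨ q * q + 1 = 2 * n) ∧ n ≠ 1 ∧
    ∀ r : ℕ, r.Prime → r ∣ n → r ≠ 2 ∧ ¬ r ∣ q ∧ ¬ r ∣ q - 1 ∧ ¬ r ∣ q + 1 ∧ ¬ 2 ∣ n := by
  have hsq : q ^ 2 = q * q := pow_two q
  have hq1 : ∀ r : ℕ, r.Prime → r ≠ 2 → r ∣ q * q + 1 → ¬ r ∣ q ∧ ¬ r ∣ q - 1 ∧ ¬ r ∣ q + 1 := by
    intro r hr hr2 h
    refine ⟨fun h1 => ?_, fun h1 => ?_, fun h1 => ?_⟩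
    · exact hr.one_lt.ne' (Nat.dvd_one.1 ((Nat.dvd_add_right (h1.mul_left q)).1 h))
    · obtain ⟨s, hs⟩ : ∃ s, q = s + 1 := ⟨q - 1, by omega⟩
      rw [hs, Nat.add_sub_cancel] at h1
      rw [hs, show (s + 1) * (s + 1) + 1 = s * (s + 2) + 2 by ring] at h
      exact hr2 ((Nat.prime_dvd_prime_iff_eq hr Nat.prime_two).1 ((Nat.dvd_add_right (h1.mul_right _)).1 h))
    · obtain ⟨s, hs⟩ : ∃ s, q = s + 1 := ⟨q - 1, by omega⟩
      have h2 : q * q + 1 = (q + 1) * s + 2 := by rw [hs]; ring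
      rw [h2] at h
      exact hr2 ((Nat.prime_dvd_prime_iff_eq hr Nat.prime_two).1 ((Nat.dvd_add_right (h1.mul_right _)).1 h))
  rcases Nat.even_or_odd q with ⟨k, hk⟩ | ⟨k, hk⟩
  · have hg : Nat.gcd 2 (q - 1) = 1 := by
      rw [← Nat.coprime_iff_gcd_eq_one, Nat.coprime_two_left]
      exact ⟨k - 1, by omega⟩
    have hodd : ¬ 2 ∣ q * q + 1 := by
      have : q * q = 2 * (k * q) := by rw [hk]; ring
      omega
    refine ⟨q * q + 1, by rw [hg, Nat.div_one, hsq], Or.inl rfl, by nlinarith, fun r hr hd => ?_⟩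
    have hr2 : r ≠ 2 := fun h5 => hodd (h5 ▸ hd)
    obtain ⟨h1, h2, h4⟩ := hq1 r hr hr2 hd
    exact ⟨hr2, h1, h2, h4, hodd⟩
  · have hg : Nat.gcd 2 (q - 1) = 2 := Nat.gcd_eq_left ⟨k, by omega⟩
    have hN : q * q + 1 = 2 * (2 * (k * k + k) + 1) := by rw [hk]; ring
    have hodd : ¬ 2 ∣ 2 * (k * k + k) + 1 := by omega
    refine ⟨2 * (k * k + k) + 1, by rw [hg, hsq, hN, Nat.mul_div_cancel_left _ (by norm_num)], Or.inr hN,
      by nlinarith, fun r hr hd => ?_⟩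
    have hr2 : r ≠ 2 := fun h5 => hodd (h5 ▸ hd)
    obtain ⟨h1, h2, h4⟩ := hq1 r hr hr2 (by rw [hN]; exact hd.mul_left 2)
    exact ⟨hr2, h1, h2, h4, hodd⟩

/-- `2 r ∣ a / d` -/
theorem dvd_of_two_mul {r a d : ℕ} (h : 2 * r ∣ a / d) (hd : d ∣ a) : r ∣ a :=
  ((dvd_mul_left r 2).trans h).trans (Nat.div_dvd_of_dvd hd)

/-! ### `PSL₃(q)` -/

section

variable {F : Type*} [Field F] [Fintype F]

theorem ex_iff3 (p : ℕ) [Fact p.Prime] [CharP F p] (m : ℕ) :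
    (∃ x : Matrix.ProjectiveSpecialLinearGroup (Fin 3) F, orderOf x = m) ↔
      m ∣ (Fintype.card F ^ 2 + Fintype.card F + 1) / Nat.gcd 3 (Fintype.card F - 1) ∨
        m ∣ (Fintype.card F ^ 2 - 1) / Nat.gcd 3 (Fintype.card F - 1) ∨ m ∣ Fintype.card F - 1 ∨
        m ∣ p * (Fintype.card F - 1) / Nat.gcd 3 (Fintype.card F - 1) ∨ (p = 2 ∧ m ∣ 4) := by
  have h := S2476.result (F := F) p
  have h1 : m ∈ Set.range (orderOf : Matrix.ProjectiveSpecialLinearGroup (Fin 3) F → ℕ) ↔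
      m ∈ {m : ℕ | m ∣ (Fintype.card F ^ 2 + Fintype.card F + 1) / Nat.gcd 3 (Fintype.card F - 1) ∨
        m ∣ (Fintype.card F ^ 2 - 1) / Nat.gcd 3 (Fintype.card F - 1) ∨ m ∣ Fintype.card F - 1 ∨
        m ∣ p * (Fintype.card F - 1) / Nat.gcd 3 (Fintype.card F - 1) ∨ (p = 2 ∧ m ∣ 4)} := by rw [h]
  exact h1

theorem sq_fac {q : ℕ} (hq : 1 ≤ q) : q ^ 2 - 1 = (q - 1) * (q + 1) := by
  obtain ⟨s, hs⟩ : ∃ s, q = s + 1 := ⟨q - 1, by omega⟩
  rw [hs]
  have : (s + 1) ^ 2 = s * (s + 1 + 1) + 1 := by ring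
  rw [this, Nat.add_sub_cancel, Nat.add_sub_cancel]

theorem good_three : ∃ n, (Fintype.card F * Fintype.card F + Fintype.card F + 1 = n ∨
      Fintype.card F * Fintype.card F + Fintype.card F + 1 = 3 * n) ∧ n ≠ 1 ∧
      Good (Matrix.ProjectiveSpecialLinearGroup (Fin 3) F) n := by
  obtain ⟨p, f, hp, hc, hf, hq⟩ := exists_char F
  have hq2 : 2 ≤ Fintype.card F := Fintype.one_lt_card
  obtain ⟨n, h1, h2, h3, h4⟩ := tor_three (Fintype.card F) hq2
  have hd : Nat.gcd 3 (Fintype.card F - 1) ∣ Fintype.card F - 1 := Nat.gcd_dvd_right _ _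
  refine ⟨n, h2, h3, (ex_iff3 p n).2 (Or.inl (by rw [h1])), fun r hr hrn => ?_⟩
  obtain ⟨g1, g2, g3, g4, g5⟩ := h4 r hr hrn
  refine ⟨g1, ?_⟩
  rw [ex_iff3 p]
  rintro (h | h | h | h | ⟨-, h⟩)
  · rw [← h1] at h
    exact g5 ((dvd_mul_right 2 r).trans h)
  · have h5 := dvd_of_two_mul h (by rw [sq_fac (by omega)]; exact hd.mul_right _)
    rw [sq_fac (by omega)] at h5
    rcases hr.dvd_mul.1 h5 with h6 | h6
    · exact g3 h6
    · exact g4 h6
  · exact g3 ((dvd_mul_left r 2).trans h)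
  · have h5 := dvd_of_two_mul h (hd.mul_left p)
    rcases hr.dvd_mul.1 h5 with h6 | h6
    · exact g2 (h6.trans (by rw [hq]; exact dvd_pow_self p hf))
    · exact g3 h6
  · have h5 : r ∣ 2 ^ 2 := (dvd_mul_left r 2).trans h
    exact g1 ((Nat.prime_dvd_prime_iff_eq hr Nat.prime_two).1 (hr.dvd_of_dvd_pow h5))

theorem prime_three' {r : ℕ} (hr : r.Prime)
    (h : ∃ x : Matrix.ProjectiveSpecialLinearGroup (Fin 3) F, orderOf x = r) :
    r ∣ Fintype.card F * (Fintype.card F * Fintype.card F - 1) *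
      (Fintype.card F * Fintype.card F + Fintype.card F + 1) := by
  obtain ⟨p, f, hp, hc, hf, hq⟩ := exists_char F
  have hq2 : 2 ≤ Fintype.card F := Fintype.one_lt_card
  rw [ex_iff3 p] at h
  have hpq : p ∣ Fintype.card F := by rw [hq]; exact dvd_pow_self p hf
  have hd : Nat.gcd 3 (Fintype.card F - 1) ∣ Fintype.card F - 1 := Nat.gcd_dvd_right _ _
  have hf := sq_fac (q := Fintype.card F) (by omega)
  rw [← pow_two]
  rcases h with h | h | h | h | ⟨h2, h⟩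
  · have h5 := h.trans (Nat.div_dvd_of_dvd (by
      rcases gcd3 (Fintype.card F - 1) with h5 | ⟨h5, h6⟩
      · rw [h5]; exact one_dvd _
      · rw [h5]
        obtain ⟨t, ht⟩ := h6
        have : Fintype.card F = 3 * t + 1 := by omega
        rw [this]
        exact ⟨3 * t * t + 3 * t + 1, by ring⟩))
    exact h5.mul_left _
  · have h5 := h.trans (Nat.div_dvd_of_dvd (by rw [hf]; exact hd.mul_right _))
    exact (h5.mul_left _).mul_right _
  · exact ((by rw [hf]; exact h.mul_right _ : r ∣ Fintype.card F ^ 2 - 1).mul_left _).mul_right _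
  · have h5 := h.trans (Nat.div_dvd_of_dvd (hd.mul_left p))
    rcases hr.dvd_mul.1 h5 with h6 | h6
    · exact ((h6.trans hpq).mul_right _).mul_right _
    · exact ((by rw [hf]; exact h6.mul_right _ : r ∣ Fintype.card F ^ 2 - 1).mul_left _).mul_right _
  · have h5 : r ∣ 2 ^ 2 := h
    have h6 := (Nat.prime_dvd_prime_iff_eq hr Nat.prime_two).1 (hr.dvd_of_dvd_pow h5)
    exact ((by rw [h6, ← h2]; exact hpq : r ∣ Fintype.card F).mul_right _).mul_right _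

end

/-- **The case `L = PSL₃(q)`.** -/
theorem false_three {G L X F : Type*} [Group G] [Group L] [Group X] [Finite G] [Finite L] [Finite X] [Field F]
    [Fintype F] (e : L ≃* Matrix.ProjectiveSpecialLinearGroup (Fin 3) F)
    (h : Set.range (orderOf : G → ℕ) = Set.range (orderOf : L → ℕ)) (hst : Str G X) {x : Row} (hx : x ∈ tab)
    (hreal : Real x.g X) (hok : OK X x) : False := by
  have hq2 : 2 ≤ Fintype.card F := Fintype.one_lt_card
  have hP : ∀ p ∈ x.P, p ∣ Fintype.card F * (Fintype.card F * Fintype.card F - 1) *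
      (Fintype.card F * Fintype.card F + Fintype.card F + 1) := by
    intro p hp
    have h1 : p.Prime := of_decide_eq_true (List.all_eq_true.1 (List.all_eq_true.1 tab_prime x hx) p hp)
    have h2 := prime_dvd h hst hx hok hp
    have : Fact p.Prime := ⟨h1⟩
    obtain ⟨y, hy⟩ := exists_prime_orderOf_dvd_card' p h2
    exact prime_three' h1 ⟨e y, by rw [← hy]; exact orderOf_injective e.toMonoidHom e.injective y⟩
  obtain ⟨n, hn, -, hgn⟩ := good_three (F := F)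
  have h1 := dvd_prod h hst hx hok (hgn.congr e)
  obtain ⟨p, f, hp, hc, hf, hq⟩ := exists_char F
  rcases num_B hx h1 hq2 hn hP with ⟨hg, hqq⟩ | ⟨hg, hqq⟩
  · -- `J₁`, `q = 11`
    rw [hg] at hreal
    have hn133 : n = 133 := by rw [hqq] at hn; omega
    subst hn133
    obtain ⟨y, hy⟩ := (hgn.congr e).exists_order h hst
    obtain ⟨e'⟩ := (hreal : Cfsg.Spor.IsoJ1 X)
    have h2 : 133 ∈ Set.range (orderOf : Cfsg.Spor.J1 → ℕ) :=
      ⟨e' y, by rw [← hy]; exact orderOf_injective e'.toMonoidHom e'.injective y⟩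
    rw [H413.JOneSpec.spec] at h2
    norm_num at h2
  · -- `J₂`, `q = 4`
    have hp2 : p = 2 := by
      have h6 : p ∣ 2 ^ 2 := by
        have : Fintype.card F = 2 ^ 2 := by rw [hqq]; norm_num
        rw [← this, hq]
        exact dvd_pow_self p hf
      exact (Nat.prime_dvd_prime_iff_eq hp.out Nat.prime_two).1 (hp.out.dvd_of_dvd_pow h6)
    have hg5 : Good (Matrix.ProjectiveSpecialLinearGroup (Fin 3) F) 5 := by
      refine ⟨(ex_iff3 p 5).2 (Or.inr (Or.inl (by rw [hqq]; norm_num))), fun r hr hr5 => ?_⟩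
      obtain rfl := (Nat.prime_dvd_prime_iff_eq hr Nat.prime_five).1 hr5
      refine ⟨by norm_num, ?_⟩
      rw [ex_iff3 p, hqq, hp2]
      norm_num
    have h2 := dvd_prod h hst hx hok (hg5.congr e)
    have h3 : tab.all (fun x => !(x.g == .j2) || !(Nat.beq (x.R.prod % 5) 0)) = true := by decide +kernel
    have h4 := List.all_eq_true.1 h3 x hx
    rw [hg] at h4
    have h5 : Nat.beq (x.R.prod % 5) 0 = true := by rw [Nat.beq_eq]; exact Nat.mod_eq_zero_of_dvd h2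
    rw [h5] at h4
    exact absurd h4 (by decide)

/-! ### `PSU₃(q)` -/

section

variable {F : Type*} [Field F] [Fintype F] {q : ℕ}

theorem good_six (hF : Fintype.card F = q ^ 2) (h3 : 3 ≤ q) :
    ∃ n, (q * (q - 1) + 1 = n ∨ q * (q - 1) + 1 = 3 * n) ∧ n ≠ 1 ∧ Good (Cfsg.PSU 3 F q) n := by
  obtain ⟨p, f, hp, hc, hf, hq⟩ := exists_char F
  obtain ⟨n, h1, h2, h3, h4⟩ := tor_six q h3
  have hd : Nat.gcd 3 (q + 1) ∣ q + 1 := Nat.gcd_dvd_right _ _
  have hpq : p ∣ q := by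
    have h5 : p ∣ q ^ 2 := by rw [← hF, hq]; exact dvd_pow_self p hf
    exact hp.out.dvd_of_dvd_pow h5
  refine ⟨n, h2, h3, H127.PSUThreeEx.ex_four p hF n (by rw [h1]), fun r hr hrn => ?_⟩
  obtain ⟨g1, g2, g3, g4, g5⟩ := h4 r hr hrn
  refine ⟨g1, ?_⟩
  rintro ⟨x, hx⟩
  have hE := H124.SUThreeEig.orderOf_dvd hF p x
  rw [hx] at hE
  rcases hE with h | h | h | h | ⟨-, h⟩
  · exact g4 ((dvd_mul_left r 2).trans h)
  · rcases hr.dvd_mul.1 ((dvd_mul_left r 2).trans h) with h6 | h6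
    · exact g2 (h6.trans hpq)
    · exact g4 (h6.trans (Nat.div_dvd_of_dvd hd))
  · have h5 := dvd_of_two_mul h (by rw [sq_fac (by omega)]; exact hd.mul_left _)
    rw [sq_fac (by omega)] at h5
    rcases hr.dvd_mul.1 h5 with h6 | h6
    · exact g3 h6
    · exact g4 h6
  · rw [← h1] at h
    exact g5 ((dvd_mul_right 2 r).trans h)
  · have h5 : r ∣ 2 ^ 2 := (dvd_mul_left r 2).trans h
    exact g1 ((Nat.prime_dvd_prime_iff_eq hr Nat.prime_two).1 (hr.dvd_of_dvd_pow h5))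

theorem prime_six (hF : Fintype.card F = q ^ 2) (h3 : 2 ≤ q) {r : ℕ} (hr : r.Prime)
    (h : ∃ x : Cfsg.PSU 3 F q, orderOf x = r) : r ∣ q * (q * q - 1) * (q * (q - 1) + 1) := by
  obtain ⟨p, f, hp, hc, hf, hq⟩ := exists_char F
  have hd : Nat.gcd 3 (q + 1) ∣ q + 1 := Nat.gcd_dvd_right _ _
  have hpq : p ∣ q := by
    have h5 : p ∣ q ^ 2 := by rw [← hF, hq]; exact dvd_pow_self p hf
    exact hp.out.dvd_of_dvd_pow h5
  have hf := sq_fac (q := q) (by omega)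
  obtain ⟨x, hx⟩ := h
  have hE := H124.SUThreeEig.orderOf_dvd hF p x
  rw [hx] at hE
  rw [← pow_two]
  have k1 : r ∣ q + 1 → r ∣ q * (q ^ 2 - 1) * (q * (q - 1) + 1) := fun h6 =>
    ((by rw [hf]; exact h6.mul_left _ : r ∣ q ^ 2 - 1).mul_left _).mul_right _
  rcases hE with h | h | h | h | ⟨h2, h⟩
  · exact k1 h
  · rcases hr.dvd_mul.1 h with h6 | h6
    · exact ((h6.trans hpq).mul_right _).mul_right _
    · exact k1 (h6.trans (Nat.div_dvd_of_dvd hd))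
  · have h5 := h.trans (Nat.div_dvd_of_dvd (by rw [hf]; exact hd.mul_left _))
    exact (h5.mul_left _).mul_right _
  · have h5 := h.trans (Nat.div_dvd_of_dvd (by
      rcases gcd3 (q + 1) with h5 | ⟨h5, h6⟩
      · rw [h5]; exact one_dvd _
      · rw [h5]
        obtain ⟨t, ht⟩ := h6
        obtain ⟨t', rfl⟩ : ∃ t', t = t' + 1 := ⟨t - 1, by omega⟩
        have : q = 3 * t' + 2 := by omega
        rw [pow_two, show q * q - q = q * (q - 1) by rw [Nat.mul_sub, mul_one], this,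
          show 3 * t' + 2 - 1 = 3 * t' + 1 by omega]
        exact ⟨3 * t' * t' + 3 * t' + 1, by ring⟩))
    rw [pow_two, show q * q - q = q * (q - 1) by rw [Nat.mul_sub, mul_one]] at h5
    exact h5.mul_left _
  · have h5 : r ∣ 2 ^ 2 := h
    have h6 := (Nat.prime_dvd_prime_iff_eq hr Nat.prime_two).1 (hr.dvd_of_dvd_pow h5)
    exact ((by rw [h6, ← h2]; exact hpq : r ∣ q).mul_right _).mul_right _

end

/-- **The case `L = PSU₃(q)`.** -/
theorem false_six {G L X F : Type*} [Group G] [Group L] [Group X] [Finite G] [Finite L] [Finite X] [Field F]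
    [Fintype F] {q : ℕ} (hF : Fintype.card F = q ^ 2) (h3 : 3 ≤ q) (e : L ≃* Cfsg.PSU 3 F q)
    (h : Set.range (orderOf : G → ℕ) = Set.range (orderOf : L → ℕ)) (hst : Str G X) {x : Row} (hx : x ∈ tab)
    (hreal : Real x.g X) (hok : OK X x) : False := by
  obtain ⟨s, hs⟩ : ∃ s, q = s + 1 := ⟨q - 1, by omega⟩
  have hP : ∀ p ∈ x.P, p ∣ q * (q * q - 1) * (q * (q - 1) + 1) := by
    intro p hp
    have h1 : p.Prime := of_decide_eq_true (List.all_eq_true.1 (List.all_eq_true.1 tab_prime x hx) p hp)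
    have h2 := prime_dvd h hst hx hok hp
    have : Fact p.Prime := ⟨h1⟩
    obtain ⟨y, hy⟩ := exists_prime_orderOf_dvd_card' p h2
    exact prime_six hF (by omega) h1 ⟨e y, by rw [← hy]; exact orderOf_injective e.toMonoidHom e.injective y⟩
  obtain ⟨n, hn, -, hgn⟩ := good_six hF h3
  have h1 := dvd_prod h hst hx hok (hgn.congr e)
  obtain ⟨p, f, hp, hc, hf, hq⟩ := exists_char F
  have hpq : p ∣ q := by
    have h5 : p ∣ q ^ 2 := by rw [← hF, hq]; exact dvd_pow_self p hf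
    exact hp.out.dvd_of_dvd_pow h5
  subst hs
  rw [Nat.add_sub_cancel] at hn hP
  obtain ⟨hg, hs4⟩ := num_C hx h1 (by omega) hn hP
  subst hs4
  rw [hg] at hreal
  obtain ⟨e'⟩ := (hreal : Cfsg.Spor.IsoJ2 X)
  have h2 : 15 ∈ Set.range (orderOf : Cfsg.Spor.J2 → ℕ) := by
    rw [H379.J2Spec.range_J2]
    simp
  obtain ⟨z, hz⟩ := h2
  obtain ⟨w, hw⟩ := exists_order h hst (e'.symm z)
  have h5 : orderOf (e w) = 15 := by
    rw [← hz, show orderOf (e w) = orderOf w from orderOf_injective e.toMonoidHom e.injective w, hw]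
    exact orderOf_injective e'.symm.toMonoidHom e'.symm.injective z
  have hE := H124.SUThreeEig.orderOf_dvd hF p (e w)
  rw [h5] at hE
  have hp5 : p = 5 := (Nat.prime_dvd_prime_iff_eq hp.out Nat.prime_five).1 hpq
  rw [hp5] at hE
  norm_num at hE

/-! ### `PSp₄(q)` -/

section

variable {F : Type*} [Field F] [Fintype F]

theorem ex_iff4 (h3 : 3 ≤ Fintype.card F) (m : ℕ) :
    (∃ x : Cfsg.PSp 2 F, orderOf x = m) ↔ H374.Quad.Om (ringChar F) (Fintype.card F) m :=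
  H374.SpFour.mem_range_iff h3 m

theorem good_four (h3 : 3 ≤ Fintype.card F) :
    ∃ n, (Fintype.card F * Fintype.card F + 1 = n ∨ Fintype.card F * Fintype.card F + 1 = 2 * n) ∧ n ≠ 1 ∧
      Good (Cfsg.PSp 2 F) n := by
  obtain ⟨m, hp, hq⟩ := FiniteField.card F (ringChar F)
  have hpq : ringChar F ∣ Fintype.card F := by
    rw [hq]
    exact dvd_pow_self _ m.ne_zero
  obtain ⟨n, h1, h2, h3', h4⟩ := tor_four (Fintype.card F) (by omega)
  have hd : Nat.gcd 2 (Fintype.card F - 1) ∣ Fintype.card F - 1 := Nat.gcd_dvd_right _ _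
  refine ⟨n, h2, h3', (ex_iff4 h3 n).2 (Or.inr (Or.inr (Or.inr (Or.inl (by rw [h1]))))), fun r hr hrn => ?_⟩
  obtain ⟨g1, g2, g3, g4, g5⟩ := h4 r hr hrn
  refine ⟨g1, ?_⟩
  rw [ex_iff4 h3]
  rintro (h | h | h | h | ⟨h9, h⟩ | ⟨-, h⟩)
  · rcases hr.dvd_mul.1 ((dvd_mul_left r 2).trans h) with h6 | h6
    · exact g2 (h6.trans hpq)
    · exact g3 h6
  · rcases hr.dvd_mul.1 ((dvd_mul_left r 2).trans h) with h6 | h6
    · exact g2 (h6.trans hpq)
    · exact g4 h6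
  · have h5 := dvd_of_two_mul h (by rw [sq_fac (by omega)]; exact hd.mul_right _)
    rw [sq_fac (by omega)] at h5
    rcases hr.dvd_mul.1 h5 with h6 | h6
    · exact g3 h6
    · exact g4 h6
  · rw [← h1] at h
    exact g5 ((dvd_mul_right 2 r).trans h)
  · have h5 : r ∣ 3 ^ 2 := (dvd_mul_left r 2).trans h
    have h6 := (Nat.prime_dvd_prime_iff_eq hr Nat.prime_three).1 (hr.dvd_of_dvd_pow h5)
    rw [← h9] at h6
    exact g2 (by rw [h6]; exact hpq)
  · have h5 : r ∣ 2 ^ 2 := (dvd_mul_left r 2).trans h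
    exact g1 ((Nat.prime_dvd_prime_iff_eq hr Nat.prime_two).1 (hr.dvd_of_dvd_pow h5))

theorem four_fac {q : ℕ} (hq : 1 ≤ q) : q ^ 4 - 1 = (q - 1) * (q + 1) * (q ^ 2 + 1) := by
  obtain ⟨s, hs⟩ : ∃ s, q = s + 1 := ⟨q - 1, by omega⟩
  rw [hs]
  have : (s + 1) ^ 4 = s * (s + 1 + 1) * ((s + 1) ^ 2 + 1) + 1 := by ring
  rw [this, Nat.add_sub_cancel, Nat.add_sub_cancel]

theorem prime_four (h3 : 3 ≤ Fintype.card F) {r : ℕ} (hr : r.Prime) (h : ∃ x : Cfsg.PSp 2 F, orderOf x = r) :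
    r ∣ Fintype.card F * (Fintype.card F ^ 4 - 1) := by
  obtain ⟨m, hp, hq⟩ := FiniteField.card F (ringChar F)
  have hpq : ringChar F ∣ Fintype.card F := by
    rw [hq]
    exact dvd_pow_self _ m.ne_zero
  have hd : Nat.gcd 2 (Fintype.card F - 1) ∣ Fintype.card F - 1 := Nat.gcd_dvd_right _ _
  rw [ex_iff4 h3] at h
  rw [four_fac (by omega)]
  have k0 : r ∣ ringChar F → r ∣ Fintype.card F * ((Fintype.card F - 1) * (Fintype.card F + 1) *
      (Fintype.card F ^ 2 + 1)) := fun h6 => (h6.trans hpq).mul_right _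
  have k1 : r ∣ Fintype.card F - 1 → r ∣ Fintype.card F * ((Fintype.card F - 1) * (Fintype.card F + 1) *
      (Fintype.card F ^ 2 + 1)) := fun h6 => ((h6.mul_right _).mul_right _).mul_left _
  have k2 : r ∣ Fintype.card F + 1 → r ∣ Fintype.card F * ((Fintype.card F - 1) * (Fintype.card F + 1) *
      (Fintype.card F ^ 2 + 1)) := fun h6 => ((h6.mul_left _).mul_right _).mul_left _
  rcases h with h | h | h | h | ⟨h9, h⟩ | ⟨h9, h⟩
  · rcases hr.dvd_mul.1 h with h6 | h6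
    · exact k0 h6
    · exact k1 h6
  · rcases hr.dvd_mul.1 h with h6 | h6
    · exact k0 h6
    · exact k2 h6
  · have h5 := h.trans (Nat.div_dvd_of_dvd (by rw [sq_fac (by omega)]; exact hd.mul_right _))
    rw [sq_fac (by omega)] at h5
    rcases hr.dvd_mul.1 h5 with h6 | h6
    · exact k1 h6
    · exact k2 h6
  · have h5 : Nat.gcd 2 (Fintype.card F - 1) ∣ Fintype.card F ^ 2 + 1 := by
      rcases (Nat.dvd_prime Nat.prime_two).1 (Nat.gcd_dvd_left 2 (Fintype.card F - 1)) with h2 | h2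
      · rw [h2]; exact one_dvd _
      · rw [h2]
        rw [h2] at hd
        obtain ⟨t, ht⟩ := hd
        have : Fintype.card F = 2 * t + 1 := by omega
        rw [this]
        exact ⟨2 * t * t + 2 * t + 1, by ring⟩
    exact ((h.trans (Nat.div_dvd_of_dvd h5)).mul_left _).mul_left _
  · have h5 : r ∣ 3 ^ 2 := h
    have h6 := (Nat.prime_dvd_prime_iff_eq hr Nat.prime_three).1 (hr.dvd_of_dvd_pow h5)
    exact k0 (by rw [h6, h9])
  · have h5 : r ∣ 2 ^ 2 := h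
    have h6 := (Nat.prime_dvd_prime_iff_eq hr Nat.prime_two).1 (hr.dvd_of_dvd_pow h5)
    exact k0 (by rw [h6, h9])

end

/-- **The case `L = PSp₄(q)`.** -/
theorem false_four {G L X F : Type*} [Group G] [Group L] [Group X] [Finite G] [Finite L] [Finite X] [Field F]
    [Fintype F] (h3 : 3 ≤ Fintype.card F) (e : L ≃* Cfsg.PSp 2 F)
    (h : Set.range (orderOf : G → ℕ) = Set.range (orderOf : L → ℕ)) (hst : Str G X) {x : Row} (hx : x ∈ tab)
    (hok : OK X x) : False := by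
  have hP : ∀ p ∈ x.P, p ∣ Fintype.card F * (Fintype.card F ^ 4 - 1) := by
    intro p hp
    have h1 : p.Prime := of_decide_eq_true (List.all_eq_true.1 (List.all_eq_true.1 tab_prime x hx) p hp)
    have h2 := prime_dvd h hst hx hok hp
    have : Fact p.Prime := ⟨h1⟩
    obtain ⟨y, hy⟩ := exists_prime_orderOf_dvd_card' p h2
    exact prime_four h3 h1 ⟨e y, by rw [← hy]; exact orderOf_injective e.toMonoidHom e.injective y⟩
  obtain ⟨n, hn, -, hgn⟩ := good_four h3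
  exact num_D hx (dvd_prod h hst hx hok (hgn.congr e)) (by omega) hn hP

end Cfsg.Agent.H182.Spo
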