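import Cfsg.Agent.H182.SpoTor
import Cfsg.Agent.H182.SpoThree
import Cfsg.Agent.H129.UntwT
import Cfsg.Agent.H129.DataG2
import Cfsg.Agent.H129.DataG2h
import Cfsg.Agent.H129.DataE7n
import Cfsg.Agent.H129.DataE7h
import Cfsg.Agent.S1092
import Cfsg.Agent.S1093
import Cfsg.Agent.H129.PhiE

/-!
# `L = G₂(q)` and `L = E₇(q)` (helper182)
-/

set_option autoImplicit false

namespace Cfsg.Agent.H182.Spo

open Cfsg Cfsg.Agent.OrdDiv Cfsg.Agent.H129 Cfsg.Agent.Nodes.RGDChev Cfsg.Agent.H129.TorusTw Subgroup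

universe u

/-! ### `G₂(q)` -/

theorem not_dvd_twelve {r : ℕ} (hr : r.Prime) (h2 : r ≠ 2) (h3 : r ≠ 3) : ¬ r ∣ 12 := by
  intro h
  rw [show (12 : ℕ) = 2 ^ 2 * 3 by norm_num] at h
  rcases (Nat.Prime.dvd_mul hr).1 h with h | h
  · exact h2 ((Nat.prime_dvd_prime_iff_eq hr Nat.prime_two).1 (hr.dvd_of_dvd_pow h))
  · exact h3 ((Nat.prime_dvd_prime_iff_eq hr Nat.prime_three).1 h)

/-- `n = (q² + q + 1) / (3, q - 1)` -/
theorem good_G2 {F : Type u} [Field F] [Fintype F] {q : ℕ} (hF : Fintype.card F = q) {n : ℕ}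
    (hn : q * q + q + 1 = n ∨ q * q + q + 1 = 3 * n)
    (hr : ∀ r : ℕ, r.Prime → r ∣ n → r ≠ 2 ∧ r ≠ 3) : Good ↥(Lie.chevG2.group F) n := by
  have hp : IsType Lie.chevG2 2 CoxeterMatrix.G₂ := by simp
  have hW : Nat.card CoxeterMatrix.G₂.Group = 12 :=
    Cfsg.Agent.S1092.result (⟨2, CoxeterMatrix.G₂⟩, 12) (by simp)
  have : Finite CoxeterMatrix.G₂.Group := Nat.finite_of_card_ne_zero (by rw [hW]; norm_num)
  have hN : ((q * q + q + 1 : ℕ) : ℤ) = 1 + (q : ℤ) + (q : ℤ) ^ 2 := by push_cast; ring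
  obtain ⟨T, hc, hd1, hd2, hT, -⟩ := UntwT.untw_T hp CoxeterMatrix.G₂.toCoxeterSystem (by norm_num) hF
    TorusChar.invC_G2 one_ne_zero DataG2.hA DataG2.chainOK DataG2.cycOK DataG2.rootOK
    (N := q * q + q + 1) (d := 1) (by rw [DataG2.fN_eq, hN])
    (UntwData.coprime_of_eq (a := (q : ℤ) + 1) (by rw [hN]; ring)) (Or.inl rfl)
  rw [one_mul] at hd2
  have hcard := Nat.dvd_antisymm hd1 hd2
  have hodd : ¬ 2 ∣ q * q + q + 1 := by
    intro h
    have h1 : 2 ∣ q * q + q := by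
      rcases Nat.even_or_odd q with ⟨k, hk⟩ | ⟨k, hk⟩
      · exact ⟨k * (2 * k + 1), by rw [hk]; ring⟩
      · exact ⟨(2 * k + 1) * (k + 1), by rw [hk]; ring⟩
    omega
  have hnd : n ∣ q * q + q + 1 := by
    rcases hn with h | h
    · rw [h]
    · rw [h]; exact dvd_mul_left _ _
  refine good_of_torus (T := T) (by rw [hcard]; exact hnd) (by rw [hcard]; exact hodd) fun r hr' hrn => ?_
  obtain ⟨hr2, hr3⟩ := hr r hr' hrn
  refine hT r hr' (by rw [hW]; exact not_dvd_twelve hr' hr2 hr3) fun s hs => ?_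
  have hrq : (r : ℤ) ∣ 1 + (q : ℤ) + (q : ℤ) ^ 2 := by
    rw [← hN]
    exact Int.natCast_dvd_natCast.2 (hrn.trans hnd)
  rcases DataG2.dvd_of_G hrq s hs with h1 | h1
  · exact hr'.one_lt.ne' (Nat.dvd_one.1 (by exact_mod_cast h1))
  · exact hr3 ((Nat.prime_dvd_prime_iff_eq hr' Nat.prime_three).1 (by exact_mod_cast h1))

/-- `n = (q² - q + 1) / (3, q + 1)` -/
theorem good_G2' {F : Type u} [Field F] [Fintype F] {q : ℕ} (hF : Fintype.card F = q) {n : ℕ}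
    (hn : q * (q - 1) + 1 = n ∨ q * (q - 1) + 1 = 3 * n)
    (hr : ∀ r : ℕ, r.Prime → r ∣ n → r ≠ 2 ∧ r ≠ 3) : Good ↥(Lie.chevG2.group F) n := by
  have hq1 : 1 < q := by rw [← hF]; exact Fintype.one_lt_card
  obtain ⟨t, ht⟩ : ∃ t, q = t + 1 := ⟨q - 1, by omega⟩
  have hp : IsType Lie.chevG2 2 CoxeterMatrix.G₂ := by simp
  have hW : Nat.card CoxeterMatrix.G₂.Group = 12 :=
    Cfsg.Agent.S1092.result (⟨2, CoxeterMatrix.G₂⟩, 12) (by simp)
  have : Finite CoxeterMatrix.G₂.Group := Nat.finite_of_card_ne_zero (by rw [hW]; norm_num)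
  have hN : ((q * (q - 1) + 1 : ℕ) : ℤ) = 1 - (q : ℤ) + (q : ℤ) ^ 2 := by
    rw [ht, Nat.add_sub_cancel]; push_cast; ring
  obtain ⟨T, hc, hd1, hd2, hT, -⟩ := UntwT.untw_T hp CoxeterMatrix.G₂.toCoxeterSystem (by norm_num) hF
    TorusChar.invC_G2 one_ne_zero DataG2h.hA DataG2h.chainOK DataG2h.cycOK DataG2h.rootOK
    (N := q * (q - 1) + 1) (d := 1) (by rw [DataG2h.fN_eq, hN])
    (UntwData.coprime_of_eq (a := (q : ℤ) - 1) (by rw [hN]; ring)) (Or.inl rfl)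
  rw [one_mul] at hd2
  have hcard := Nat.dvd_antisymm hd1 hd2
  have hodd : ¬ 2 ∣ q * (q - 1) + 1 := by
    intro h
    have h1 : 2 ∣ q * (q - 1) := by
      rw [ht, Nat.add_sub_cancel]
      rcases Nat.even_or_odd t with ⟨k, hk⟩ | ⟨k, hk⟩
      · exact ⟨(2 * k + 1) * k, by rw [hk]; ring⟩
      · exact ⟨(2 * k + 1) * (k + 1), by rw [hk]; ring⟩
    omega
  have hnd : n ∣ q * (q - 1) + 1 := by
    rcases hn with h | h
    · rw [h]
    · rw [h]; exact dvd_mul_left _ _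
  refine good_of_torus (T := T) (by rw [hcard]; exact hnd) (by rw [hcard]; exact hodd) fun r hr' hrn => ?_
  obtain ⟨hr2, hr3⟩ := hr r hr' hrn
  refine hT r hr' (by rw [hW]; exact not_dvd_twelve hr' hr2 hr3) fun s hs => ?_
  have hrq : (r : ℤ) ∣ 1 - (q : ℤ) + (q : ℤ) ^ 2 := by
    rw [← hN]
    exact Int.natCast_dvd_natCast.2 (hrn.trans hnd)
  rcases DataG2h.dvd_of_G hrq s hs with h1 | h1
  · exact hr'.one_lt.ne' (Nat.dvd_one.1 (by exact_mod_cast h1))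
  · exact hr3 ((Nat.prime_dvd_prime_iff_eq hr' Nat.prime_three).1 (by exact_mod_cast h1))

/-- the numbers of `G₂(q)`, `q ≥ 3` -/
theorem goods_G2 {F : Type u} [Field F] [Fintype F] {q : ℕ} (hF : Fintype.card F = q) (h3 : 3 ≤ q) :
    ∃ n m, (q * q + q + 1 = n ∨ q * q + q + 1 = 3 * n) ∧ (q * (q - 1) + 1 = m ∨ q * (q - 1) + 1 = 3 * m) ∧
      n ≠ 1 ∧ Good ↥(Lie.chevG2.group F) n ∧ Good ↥(Lie.chevG2.group F) m := by
  obtain ⟨n, -, hn, hn1, hn2⟩ := tor_three q (by omega)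
  obtain ⟨m, -, hm, hm1, hm2⟩ := tor_six q h3
  have key : ∀ r : ℕ, r.Prime → ¬ r ∣ q → ¬ r ∣ q - 1 → ¬ r ∣ q + 1 → r ≠ 3 := by
    rintro r hr h1 h2 h4 rfl
    omega
  exact ⟨n, m, hn, hm, hn1, good_G2 hF hn fun r hr hd => ⟨(hn2 r hr hd).1, key r hr (hn2 r hr hd).2.1
    (hn2 r hr hd).2.2.1 (hn2 r hr hd).2.2.2.1⟩, good_G2' hF hm fun r hr hd => ⟨(hm2 r hr hd).1,
      key r hr (hm2 r hr hd).2.1 (hm2 r hr hd).2.2.1 (hm2 r hr hd).2.2.2.1⟩⟩

/-- **The case `L = G₂(q)`.** -/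
theorem false_G2 {G L X : Type*} {F : Type} [Group G] [Group L] [Group X] [Finite G] [Finite L] [Finite X] [Field F]
    [Fintype F] (h3 : 3 ≤ Fintype.card F) (e : L ≃* ↥(Lie.chevG2.group F))
    (h : Set.range (orderOf : G → ℕ) = Set.range (orderOf : L → ℕ)) (hst : Str G X) {x : Row} (hx : x ∈ tab)
    (hok : OK X x) : False := by
  obtain ⟨n, m, hn, hm, -, hgn, hgm⟩ := goods_G2 (F := F) rfl h3
  have h1 := dvd_prod h hst hx hok (hgn.congr e)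
  have h2 := dvd_prod h hst hx hok (hgm.congr e)
  refine num_E hx h1 (by omega) hn ?_ ?_
  · rcases hm with h | h
    · rw [h]; exact h2.mul_left 3
    · rw [h]; exact mul_dvd_mul_left 3 h2
  · intro p hp
    have h4 : p.Prime := of_decide_eq_true (List.all_eq_true.1 (List.all_eq_true.1 tab_prime x hx) p hp)
    have h5 := prime_dvd h hst hx hok hp
    have T : OrderTable.{0} := table
    rw [Nat.card_congr e.toEquiv, T.g2 F] at h5
    set q := Fintype.card F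
    have hq6 : q ^ 2 - 1 ∣ q ^ 6 - 1 := by
      have := Nat.sub_dvd_pow_sub_pow (q ^ 2) 1 3
      rw [one_pow, ← pow_mul] at this
      exact this
    rcases h4.dvd_mul.1 h5 with h6 | h6
    · rcases h4.dvd_mul.1 h6 with h7 | h7
      · exact (h4.dvd_of_dvd_pow h7).mul_right _
      · exact (h7.trans hq6).mul_left _
    · exact h6.mul_left _

/-! ### `E₇(q)` -/

theorem not_dvd_W {r : ℕ} (hr : r.Prime) (h : r % 18 = 1) : ¬ r ∣ 2903040 := by
  intro h1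
  rw [show (2903040 : ℕ) = 2 ^ 10 * 3 ^ 4 * 5 * 7 by norm_num] at h1
  rcases (Nat.Prime.dvd_mul hr).1 h1 with h1 | h1
  · rcases (Nat.Prime.dvd_mul hr).1 h1 with h1 | h1
    · rcases (Nat.Prime.dvd_mul hr).1 h1 with h1 | h1
      · have := (Nat.prime_dvd_prime_iff_eq hr Nat.prime_two).1 (hr.dvd_of_dvd_pow h1); omega
      · have := (Nat.prime_dvd_prime_iff_eq hr Nat.prime_three).1 (hr.dvd_of_dvd_pow h1); omega
    · have := (Nat.prime_dvd_prime_iff_eq hr Nat.prime_five).1 h1; omega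
  · have := (Nat.prime_dvd_prime_iff_eq hr (by norm_num : (7 : ℕ).Prime)).1 h1; omega

/-- an element of order nine modulo `r` -/
theorem mod_eq_one {r : ℕ} (hr : r.Prime) (h3 : r ≠ 3) (h2 : r ≠ 2) {v : ZMod r} (h : 1 + v ^ 3 + v ^ 6 = 0) :
    r % 18 = 1 := by
  have hf : Fact r.Prime := ⟨hr⟩
  have h9 : v ^ 9 = 1 := by linear_combination (v ^ 3 - 1) * h
  have h33 : v ^ 3 ≠ 1 := by
    intro h4
    have h5 : v ^ 6 = 1 := by
      have : v ^ 6 = v ^ 3 * v ^ 3 := by ring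
      rw [this, h4, one_mul]
    rw [h4, h5] at h
    have h6 : ((3 : ℕ) : ZMod r) = 0 := by
      push_cast
      linear_combination h
    have h7 := (ZMod.natCast_eq_zero_iff 3 r).1 h6
    exact h3 ((Nat.prime_dvd_prime_iff_eq hr Nat.prime_three).1 h7)
  have hv : v ≠ 0 := by
    rintro rfl
    norm_num at h9
  have ho : orderOf v = 3 ^ (1 + 1) := by
    have : Fact (Nat.Prime 3) := ⟨Nat.prime_three⟩
    apply orderOf_eq_prime_pow
    · rw [pow_one]; exact h33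
    · exact h9
  have h4 := ZMod.orderOf_dvd_card_sub_one hv
  rw [ho] at h4
  have hodd : Odd r := hr.odd_of_ne_two h2
  obtain ⟨k, hk⟩ := hodd
  obtain ⟨j, hj⟩ := h4
  have := hr.two_le
  omega

theorem E7_setup : IsType Lie.chevE7 7 CoxeterMatrix.E₇ ∧ Nat.card CoxeterMatrix.E₇.Group = 2903040 :=
  ⟨by simp, Cfsg.Agent.S1093.result (⟨7, CoxeterMatrix.E₇⟩, 2903040) (by simp)⟩

theorem exists_sqrt {F : Type u} [Field F] [Fintype F] {q : ℕ} (hF : Fintype.card F = q) (he : ¬ 2 ∣ q - 1) :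
    ∀ a : F, ∃ b : F, b ^ 2 = a := by
  have hco : Nat.gcd 2 (q - 1) = 1 := (Nat.Prime.coprime_iff_not_dvd Nat.prime_two).2 he
  intro a
  by_cases ha : a = 0
  · exact ⟨0, by rw [ha]; exact zero_pow (by norm_num)⟩
  · have h1 : (Nat.card Fˣ).Coprime 2 := by
      rw [Nat.card_units, Nat.card_eq_fintype_card, hF]
      exact Nat.Coprime.symm hco
    obtain ⟨b, hb⟩ := (powCoprime h1).surjective (Units.mk0 a ha)
    refine ⟨b, ?_⟩
    have h2 := congrArg Units.val hb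
    rw [powCoprime_apply, Units.val_pow_eq_pow_val] at h2
    exact h2

/-- the torus of type 9 -/
theorem good_E7n {F : Type u} [Field F] [Fintype F] {q : ℕ} (hF : Fintype.card F = q) (hq : ¬ q % 4 = 1) {n : ℕ}
    (hn : n ∣ q ^ 6 + q ^ 3 + 1) (hn1 : n ≠ 1) (hr : ∀ r : ℕ, r.Prime → r ∣ n → r % 18 = 1) :
    Good ↥(Lie.chevE7.group F) n := by
  have hq1 : 1 < q := by rw [← hF]; exact Fintype.one_lt_card
  obtain ⟨t, ht⟩ : ∃ t, q = t + 1 := ⟨q - 1, by omega⟩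
  obtain ⟨hp, hW⟩ := E7_setup
  have : Finite CoxeterMatrix.E₇.Group := Nat.finite_of_card_ne_zero (by rw [hW]; norm_num)
  set N := (q ^ 6 + q ^ 3 + 1) * (q - 1) with hNd
  have hN : (N : ℤ) = -1 + (q : ℤ) - (q : ℤ) ^ 3 + (q : ℤ) ^ 4 - (q : ℤ) ^ 6 + (q : ℤ) ^ 7 := by
    rw [hNd, ht, Nat.add_sub_cancel]; push_cast; ring
  have hfN : fN DataE7n.c (q : ℤ) = N := by rw [DataE7n.fN_eq, hN]
  have hqN : q.Coprime N := by
    rw [← Nat.isCoprime_iff_coprime]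
    exact ⟨1 - (q : ℤ) ^ 2 + (q : ℤ) ^ 3 - (q : ℤ) ^ 5 + (q : ℤ) ^ 6, -1, by rw [hN]; ring⟩
  have hbez : ∀ r : ℕ, r.Prime → r ∣ n → ∀ s, ¬ (r : ℤ) ∣ Gq DataE7n.B (q : ℤ) (DataE7n.R s) := by
    intro r hr' hrn s hs
    have hrq : (r : ℤ) ∣ 1 + (q : ℤ) ^ 3 + (q : ℤ) ^ 6 := by
      have h1 : ((q ^ 6 + q ^ 3 + 1 : ℕ) : ℤ) = 1 + (q : ℤ) ^ 3 + (q : ℤ) ^ 6 := by push_cast; ring
      rw [← h1]
      exact Int.natCast_dvd_natCast.2 (hrn.trans hn)
    have h18 := hr r hr' hrn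
    rcases DataE7n.dvd_of_G hrq s hs with h1 | h1
    · exact hr'.one_lt.ne' (Nat.dvd_one.1 (by exact_mod_cast h1))
    · have := (Nat.prime_dvd_prime_iff_eq hr' Nat.prime_three).1 (by exact_mod_cast h1)
      omega
  have hPo : ¬ 2 ∣ q ^ 6 + q ^ 3 + 1 := by
    intro h
    have h1 : 2 ∣ q ^ 6 + q ^ 3 := by
      rcases Nat.even_or_odd (q ^ 3) with ⟨k, hk⟩ | ⟨k, hk⟩
      · exact ⟨k * (2 * k + 1), by rw [show q ^ 6 = q ^ 3 * q ^ 3 by ring, hk]; ring⟩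
      · exact ⟨(2 * k + 1) * (k + 1), by rw [show q ^ 6 = q ^ 3 * q ^ 3 by ring, hk]; ring⟩
    omega
  by_cases hd : 2 ∣ q - 1
  · -- `q ≡ 3` modulo 4
    obtain ⟨j, hj⟩ := hd
    have hjo : ¬ 2 ∣ j := by omega
    have hN2 : N = 2 * ((q ^ 6 + q ^ 3 + 1) * j) := by rw [hNd, hj]; ring
    obtain ⟨T, hc, hd1, hd2, hT, -⟩ := UntwT.untw_T hp CoxeterMatrix.E₇.toCoxeterSystem (by norm_num) hF
      TorusChar.invC_E7 two_ne_zero DataE7n.hA DataE7n.chainOK DataE7n.cycOK DataE7n.rootOK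
      (N := N) (d := 2) hfN hqN (Or.inl rfl)
    obtain ⟨r, hr1, hr2⟩ := Nat.exists_prime_and_dvd hn1
    have hr18 := hr r hr1 hr2
    have hrN : 2 * r ∣ N := by
      rw [hN2]
      exact mul_dvd_mul_left 2 ((hr2.trans hn).mul_right j)
    have hrW : ¬ r ∣ Nat.card CoxeterMatrix.E₇.Group := by rw [hW]; exact not_dvd_W hr1 hr18
    have hlin := WData.lin_refl hp CoxeterMatrix.E₇.toCoxeterSystem DataE7n.hA DataE7n.chainOK
    have hcy := WData.cyc_of hlin DataE7n.cycOK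
    have hnot : ∀ {a : Fin 7 → ℤ}, Tits.Roots.IsRoot CoxeterMatrix.E₇.toCoxeterSystem hp.isCartan a →
        ¬ (r : ℤ) ∣ Gq DataE7n.B (q : ℤ) a := fun {a} ha =>
      WData.not_dvd_G hp CoxeterMatrix.E₇.toCoxeterSystem hlin hcy DataE7n.rootOK hfN hr1
        ((dvd_mul_left r 2).trans hrN) hqN (hbez r hr1 hr2) ha
    obtain ⟨H, hHc, hHcard, hHself⟩ := UntwTwo.untw_two hp CoxeterMatrix.E₇.toCoxeterSystem (by norm_num) hF
      Nat.prime_two TorusChar.invC_E7 ⟨j, hj⟩ (PhiE.isPhi_E7 _) (kv := ![0, 1, 0, 0, 1, 0, 1])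
      (i0 := ⟨6, by decide⟩) rfl (by decide +kernel)
      (Bc := ![![4, 4, 6, 8, 6, 4, 2], ![4, 7, 8, 12, 9, 6, 3], ![6, 8, 12, 16, 12, 8, 4],
        ![8, 12, 16, 24, 18, 12, 6], ![6, 9, 12, 18, 15, 10, 5], ![4, 6, 8, 12, 10, 8, 4],
        ![2, 3, 4, 6, 5, 4, 3]]) (by decide +kernel)
      _ hcy hfN hqN hr1 hrW hrN (fun a ha h1 => absurd h1 (hnot ha)) (fun a ha => absurd ha.2 (hnot ha.1))
    rw [hN2, Nat.mul_div_cancel_left _ two_pos] at hHcard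
    have hrT : r ∣ Nat.card T := by
      have h1 : 2 * r ∣ 2 * Nat.card T := hrN.trans hd2
      exact Nat.dvd_of_mul_dvd_mul_left two_pos h1
    have hcard : Nat.card T = (q ^ 6 + q ^ 3 + 1) * j := by
      rw [← hHcard]
      exact card_eq_of_self hHself hr1 (hT r hr1 hrW (hbez r hr1 hr2)) hrT
        (by rw [hHcard]; exact (hr2.trans hn).mul_right j)
    refine good_of_torus (T := T) (by rw [hcard]; exact hn.mul_right j) ?_ fun r hr' hrn => ?_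
    · rw [hcard]
      intro h
      rcases Nat.prime_two.dvd_mul.1 h with h | h
      · exact hPo h
      · exact hjo h
    · exact hT r hr' (by rw [hW]; exact not_dvd_W hr' (hr r hr' hrn)) (hbez r hr' hrn)
  · obtain ⟨T, hc, hd1, hd2, hT, -⟩ := UntwT.untw_T hp CoxeterMatrix.E₇.toCoxeterSystem (by norm_num) hF
      TorusChar.invC_E7 two_ne_zero DataE7n.hA DataE7n.chainOK DataE7n.cycOK DataE7n.rootOK
      (N := N) (d := 1) hfN hqN (Or.inr ⟨rfl, exists_sqrt hF hd⟩)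
    rw [one_mul] at hd2
    have hcard := Nat.dvd_antisymm hd1 hd2
    refine good_of_torus (T := T) (by rw [hcard, hNd]; exact hn.mul_right _) ?_ fun r hr' hrn => ?_
    · rw [hcard, hNd]
      intro h
      rcases Nat.prime_two.dvd_mul.1 h with h | h
      · exact hPo h
      · exact hd h
    · exact hT r hr' (by rw [hW]; exact not_dvd_W hr' (hr r hr' hrn)) (hbez r hr' hrn)

/-- the torus of type 18 -/
theorem good_E7h {F : Type u} [Field F] [Fintype F] {q : ℕ} (hF : Fintype.card F = q) (hq : q % 4 = 1) {n : ℕ}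
    (hn : n ∣ q ^ 6 - q ^ 3 + 1) (hn1 : n ≠ 1) (hr : ∀ r : ℕ, r.Prime → r ∣ n → r % 18 = 1) :
    Good ↥(Lie.chevE7.group F) n := by
  have hq1 : 1 < q := by rw [← hF]; exact Fintype.one_lt_card
  have hle : q ^ 3 ≤ q ^ 6 := Nat.pow_le_pow_right (by omega) (by norm_num)
  obtain ⟨hp, hW⟩ := E7_setup
  have : Finite CoxeterMatrix.E₇.Group := Nat.finite_of_card_ne_zero (by rw [hW]; norm_num)
  set N := (q ^ 6 - q ^ 3 + 1) * (q + 1) with hNd
  have hN : (N : ℤ) = 1 + (q : ℤ) - (q : ℤ) ^ 3 - (q : ℤ) ^ 4 + (q : ℤ) ^ 6 + (q : ℤ) ^ 7 := by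
    rw [hNd]; push_cast [Nat.cast_sub hle]; ring
  have hfN : fN DataE7h.c (q : ℤ) = N := by rw [DataE7h.fN_eq, hN]
  have hqN : q.Coprime N := UntwData.coprime_of_eq
    (a := 1 - (q : ℤ) ^ 2 - (q : ℤ) ^ 3 + (q : ℤ) ^ 5 + (q : ℤ) ^ 6) (by rw [hN]; ring)
  have hbez : ∀ r : ℕ, r.Prime → r ∣ n → ∀ s, ¬ (r : ℤ) ∣ Gq DataE7h.B (q : ℤ) (DataE7h.R s) := by
    intro r hr' hrn s hs
    have hrq : (r : ℤ) ∣ 1 - (q : ℤ) ^ 3 + (q : ℤ) ^ 6 := by
      have h1 : ((q ^ 6 - q ^ 3 + 1 : ℕ) : ℤ) = 1 - (q : ℤ) ^ 3 + (q : ℤ) ^ 6 := by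
        push_cast [Nat.cast_sub hle]; ring
      rw [← h1]
      exact Int.natCast_dvd_natCast.2 (hrn.trans hn)
    have h18 := hr r hr' hrn
    rcases DataE7h.dvd_of_G hrq s hs with h1 | h1
    · exact hr'.one_lt.ne' (Nat.dvd_one.1 (by exact_mod_cast h1))
    · have := (Nat.prime_dvd_prime_iff_eq hr' Nat.prime_three).1 (by exact_mod_cast h1)
      omega
  have hPo : ¬ 2 ∣ q ^ 6 - q ^ 3 + 1 := by
    intro h
    have h1 : 2 ∣ q ^ 6 - q ^ 3 := by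
      rw [show q ^ 6 - q ^ 3 = q ^ 3 * (q ^ 3 - 1) by rw [Nat.mul_sub, mul_one, ← pow_add]]
      rcases Nat.even_or_odd (q ^ 3) with ⟨k, hk⟩ | ⟨k, hk⟩
      · exact Dvd.dvd.mul_right ⟨k, by omega⟩ _
      · exact Dvd.dvd.mul_left ⟨k, by omega⟩ _
    omega
  obtain ⟨j, hj⟩ : ∃ j, q + 1 = 2 * j := ⟨(q + 1) / 2, by omega⟩
  have hjo : ¬ 2 ∣ j := by omega
  have hd : 2 ∣ q - 1 := by omega
  have hN2 : N = 2 * ((q ^ 6 - q ^ 3 + 1) * j) := by rw [hNd, hj]; ring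
  obtain ⟨T, hc, hd1, hd2, hT, -⟩ := UntwT.untw_T hp CoxeterMatrix.E₇.toCoxeterSystem (by norm_num) hF
    TorusChar.invC_E7 two_ne_zero DataE7h.hA DataE7h.chainOK DataE7h.cycOK DataE7h.rootOK
    (N := N) (d := 2) hfN hqN (Or.inl rfl)
  obtain ⟨r, hr1, hr2⟩ := Nat.exists_prime_and_dvd hn1
  have hr18 := hr r hr1 hr2
  have hrN : 2 * r ∣ N := by
    rw [hN2]
    exact mul_dvd_mul_left 2 ((hr2.trans hn).mul_right j)
  have hrW : ¬ r ∣ Nat.card CoxeterMatrix.E₇.Group := by rw [hW]; exact not_dvd_W hr1 hr18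
  have hlin := WData.lin_refl hp CoxeterMatrix.E₇.toCoxeterSystem DataE7h.hA DataE7h.chainOK
  have hcy := WData.cyc_of hlin DataE7h.cycOK
  have hnot : ∀ {a : Fin 7 → ℤ}, Tits.Roots.IsRoot CoxeterMatrix.E₇.toCoxeterSystem hp.isCartan a →
      ¬ (r : ℤ) ∣ Gq DataE7h.B (q : ℤ) a := fun {a} ha =>
    WData.not_dvd_G hp CoxeterMatrix.E₇.toCoxeterSystem hlin hcy DataE7h.rootOK hfN hr1
      ((dvd_mul_left r 2).trans hrN) hqN (hbez r hr1 hr2) ha
  obtain ⟨H, hHc, hHcard, hHself⟩ := UntwTwo.untw_two hp CoxeterMatrix.E₇.toCoxeterSystem (by norm_num) hF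
    Nat.prime_two TorusChar.invC_E7 hd (PhiE.isPhi_E7 _) (kv := ![0, 1, 0, 0, 1, 0, 1])
    (i0 := ⟨6, by decide⟩) rfl (by decide +kernel)
    (Bc := ![![4, 4, 6, 8, 6, 4, 2], ![4, 7, 8, 12, 9, 6, 3], ![6, 8, 12, 16, 12, 8, 4],
      ![8, 12, 16, 24, 18, 12, 6], ![6, 9, 12, 18, 15, 10, 5], ![4, 6, 8, 12, 10, 8, 4],
      ![2, 3, 4, 6, 5, 4, 3]]) (by decide +kernel)
    _ hcy hfN hqN hr1 hrW hrN (fun a ha h1 => absurd h1 (hnot ha)) (fun a ha => absurd ha.2 (hnot ha.1))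
  rw [hN2, Nat.mul_div_cancel_left _ two_pos] at hHcard
  have hrT : r ∣ Nat.card T := by
    have h1 : 2 * r ∣ 2 * Nat.card T := hrN.trans hd2
    exact Nat.dvd_of_mul_dvd_mul_left two_pos h1
  have hcard : Nat.card T = (q ^ 6 - q ^ 3 + 1) * j := by
    rw [← hHcard]
    exact card_eq_of_self hHself hr1 (hT r hr1 hrW (hbez r hr1 hr2)) hrT
      (by rw [hHcard]; exact (hr2.trans hn).mul_right j)
  refine good_of_torus (T := T) (by rw [hcard]; exact hn.mul_right j) ?_ fun r hr' hrn => ?_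
  · rw [hcard]
    intro h
    rcases Nat.prime_two.dvd_mul.1 h with h | h
    · exact hPo h
    · exact hjo h
  · exact hT r hr' (by rw [hW]; exact not_dvd_W hr' (hr r hr' hrn)) (hbez r hr' hrn)

/-- a large `Good` number of `E₇(q)` -/
theorem good_E7 {F : Type u} [Field F] [Fintype F] : ∃ n, 37 < n ∧ (∀ r : ℕ, r.Prime → r ∣ n → r % 18 = 1) ∧
    Good ↥(Lie.chevE7.group F) n := by
  obtain ⟨q, hF⟩ : ∃ q, Fintype.card F = q := ⟨_, rfl⟩
  have hq1 : 1 < q := by rw [← hF]; exact Fintype.one_lt_card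
  -- the part of `a` prime to 3
  have key : ∀ a : ℕ, 37 < a → (114 ≤ a ∨ ¬ 3 ∣ a) → ¬ 9 ∣ a → ∃ n, n ∣ a ∧ 37 < n ∧ ¬ 3 ∣ n := by
    intro a ha h1 h9
    by_cases h3 : 3 ∣ a
    · obtain ⟨b, rfl⟩ := h3
      refine ⟨b, dvd_mul_left _ _, by omega, fun h => h9 ?_⟩
      obtain ⟨c, rfl⟩ := h
      exact ⟨c, by ring⟩
    · exact ⟨a, dvd_rfl, ha, h3⟩
  by_cases hq : q % 4 = 1
  · have hq5 : 5 ≤ q := by omega
    have hle : q ^ 3 ≤ q ^ 6 := Nat.pow_le_pow_right (by omega) (by norm_num)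
    have hfac : q ^ 6 - q ^ 3 = q ^ 3 * (q ^ 3 - 1) := by rw [Nat.mul_sub, mul_one, ← pow_add]
    have h125 : 5 ^ 3 ≤ q ^ 3 := Nat.pow_le_pow_left hq5 3
    have hbig : 125 * 124 ≤ q ^ 3 * (q ^ 3 - 1) := Nat.mul_le_mul (by omega) (by omega)
    have hPo : ¬ 2 ∣ q ^ 6 - q ^ 3 + 1 := by
      intro h
      have h1 : 2 ∣ q ^ 6 - q ^ 3 := by
        rw [hfac]
        rcases Nat.even_or_odd (q ^ 3) with ⟨k, hk⟩ | ⟨k, hk⟩
        · exact Dvd.dvd.mul_right ⟨k, by omega⟩ _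
        · exact Dvd.dvd.mul_left ⟨k, by omega⟩ _
      omega
    have h9 : ¬ 9 ∣ q ^ 6 - q ^ 3 + 1 := by
      intro h
      obtain ⟨s, hs⟩ : ∃ s, q ^ 3 = s + 1 := ⟨q ^ 3 - 1, by omega⟩
      rw [hfac, hs, Nat.add_sub_cancel] at h
      have h1 : ((s + 1) * s + 1) % 9 = (((s % 9) + 1) * (s % 9) + 1) % 9 := by
        rw [Nat.add_mod, Nat.mul_mod, Nat.add_mod s 1]
        conv_rhs => rw [Nat.add_mod, Nat.mul_mod, Nat.add_mod (s % 9) 1, Nat.mod_mod]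
      have h2 := Nat.mod_eq_zero_of_dvd h
      rw [h1] at h2
      have h3 : s % 9 < 9 := Nat.mod_lt _ (by norm_num)
      generalize s % 9 = y at h2 h3
      interval_cases y <;> omega
    obtain ⟨n, hn, hn37, hn3⟩ := key (q ^ 6 - q ^ 3 + 1) (by omega) (Or.inl (by omega)) h9
    have hmod : ∀ r : ℕ, r.Prime → r ∣ n → r % 18 = 1 := by
      intro r hr hrn
      have hr3 : r ≠ 3 := by rintro rfl; exact hn3 hrn
      have hr2 : r ≠ 2 := by rintro rfl; exact hPo (hrn.trans hn)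
      have h1 : ((q ^ 6 - q ^ 3 + 1 : ℕ) : ZMod r) = 0 := (ZMod.natCast_eq_zero_iff _ _).2 (hrn.trans hn)
      push_cast [Nat.cast_sub hle] at h1
      exact mod_eq_one hr hr3 hr2 (v := -(q : ZMod r)) (by linear_combination h1)
    exact ⟨n, hn37, hmod, good_E7h hF hq hn (by omega) hmod⟩
  · have hPo : ¬ 2 ∣ q ^ 6 + q ^ 3 + 1 := by
      intro h
      have h1 : 2 ∣ q ^ 6 + q ^ 3 := by
        rcases Nat.even_or_odd (q ^ 3) with ⟨k, hk⟩ | ⟨k, hk⟩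
        · exact ⟨k * (2 * k + 1), by rw [show q ^ 6 = q ^ 3 * q ^ 3 by ring, hk]; ring⟩
        · exact ⟨(2 * k + 1) * (k + 1), by rw [show q ^ 6 = q ^ 3 * q ^ 3 by ring, hk]; ring⟩
      omega
    have h9 : ¬ 9 ∣ q ^ 6 + q ^ 3 + 1 := by
      intro h
      rw [show q ^ 6 = q ^ 3 * q ^ 3 by ring] at h
      generalize q ^ 3 = s at h
      have h1 : (s * s + s + 1) % 9 = ((s % 9) * (s % 9) + s % 9 + 1) % 9 := by
        rw [Nat.add_mod, Nat.add_mod (s * s), Nat.mul_mod]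
        conv_rhs => rw [Nat.add_mod, Nat.add_mod (s % 9 * (s % 9)), Nat.mod_mod]
      have h2 := Nat.mod_eq_zero_of_dvd h
      rw [h1] at h2
      have h3 : s % 9 < 9 := Nat.mod_lt _ (by norm_num)
      generalize s % 9 = y at h2 h3
      interval_cases y <;> omega
    have hbig : 73 ≤ q ^ 6 + q ^ 3 + 1 ∧ (114 ≤ q ^ 6 + q ^ 3 + 1 ∨ ¬ 3 ∣ q ^ 6 + q ^ 3 + 1) := by
      rcases Nat.lt_or_ge q 3 with h | h
      · have : q = 2 := by omega
        subst this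
        norm_num
      · have h27 : 3 ^ 3 ≤ q ^ 3 := Nat.pow_le_pow_left h 3
        have h729 : 3 ^ 6 ≤ q ^ 6 := Nat.pow_le_pow_left h 6
        omega
    obtain ⟨n, hn, hn37, hn3⟩ := key (q ^ 6 + q ^ 3 + 1) (by omega) hbig.2 h9
    have hmod : ∀ r : ℕ, r.Prime → r ∣ n → r % 18 = 1 := by
      intro r hr hrn
      have hr3 : r ≠ 3 := by rintro rfl; exact hn3 hrn
      have hr2 : r ≠ 2 := by rintro rfl; exact hPo (hrn.trans hn)
      have h1 : ((q ^ 6 + q ^ 3 + 1 : ℕ) : ZMod r) = 0 := (ZMod.natCast_eq_zero_iff _ _).2 (hrn.trans hn)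
      push_cast at h1
      exact mod_eq_one hr hr3 hr2 (v := (q : ZMod r)) (by linear_combination h1)
    exact ⟨n, hn37, hmod, good_E7n hF hq hn (by omega) hmod⟩

/-- **The case `L = E₇(q)`.** -/
theorem false_E7 {G L X : Type*} {F : Type*} [Group G] [Group L] [Group X] [Finite G] [Finite L] [Finite X]
    [Field F] [Fintype F] (e : L ≃* ↥(Lie.chevE7.group F))
    (h : Set.range (orderOf : G → ℕ) = Set.range (orderOf : L → ℕ)) (hst : Str G X) {x : Row} (hx : x ∈ tab)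
    (hok : OK X x) : False := by
  obtain ⟨n, h37, hmod, hg⟩ := good_E7 (F := F)
  have := num_nine hx (dvd_prod h hst hx hok (hg.congr e)) hmod
  omega

end Cfsg.Agent.H182.Spo
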