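import Cfsg.Agent.H182.SpoExc
import Cfsg.Agent.H283.SporLie
import Cfsg.Agent.ClassicalGeometry.PSL2Basic
import Cfsg.Agent.S0245
import Cfsg.Agent.S0246
import Cfsg.Agent.S0280

/-!
# The end: groups isospectral to a small simple group have no sporadic composition factors (helper182)
-/

set_option autoImplicit false
set_option maxRecDepth 100000

namespace Cfsg.Agent.H182.Spo

open Cfsg Cfsg.Agent.OrdDiv Cfsg.Agent.H403 Subgroup

universe u v

theorem spor_of_real {X : Type u} [Group X] {x : Row} (hx : x ∈ tab) (h : Real x.g X) : IsSporadicGroup X := by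
  unfold IsSporadicGroup
  simp only [tab, List.mem_cons, List.not_mem_nil, or_false] at hx
  rcases hx with rfl | rfl | rfl | rfl | rfl | rfl | rfl | rfl | rfl | rfl | rfl | rfl | rfl | rfl | rfl | rfl | rfl |
    rfl | rfl | rfl | rfl | rfl | rfl | rfl | rfl | rfl <;> simp only [OrdDiv.Real] at h <;> simp only [h, true_or, or_true]

theorem not_small {x : Row} (hx : x ∈ tab) : x.N ≠ 12 ∧ x.N ≠ 2520 := by
  have h : tab.all (fun x => !(Nat.beq x.N 12) && !(Nat.beq x.N 2520)) = true := by decide +kernel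
  have h1 := List.all_eq_true.1 h x hx
  rw [Bool.and_eq_true, Bool.not_eq_true', Bool.not_eq_true', ← Bool.not_eq_true, ← Bool.not_eq_true, Nat.beq_eq,
    Nat.beq_eq] at h1
  exact h1

/-- the primes dividing the order of a composition factor divide the order of `L` -/
theorem prime_dvd' {G : Type u} {L : Type v} [Group G] [Group L] [Finite G] [Finite L]
    (h : Set.range (orderOf : G → ℕ) = Set.range (orderOf : L → ℕ)) {p : ℕ} (hp : p.Prime) (hd : p ∣ Nat.card G) :
    p ∣ Nat.card L := by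
  have : Fact p.Prime := ⟨hp⟩
  obtain ⟨y, hy⟩ := exists_prime_orderOf_dvd_card' p hd
  have h2 : orderOf y ∈ Set.range (orderOf : G → ℕ) := ⟨y, rfl⟩
  rw [h] at h2
  obtain ⟨w, hw⟩ := h2
  rw [← hy, ← hw]
  exact orderOf_dvd_natCard w

theorem row_dvd {G : Type u} {L : Type v} [Group G] [Group L] [Finite G] [Finite L]
    (h : Set.range (orderOf : G → ℕ) = Set.range (orderOf : L → ℕ)) (H : Subgroup G) (N : Subgroup ↥H) [N.Normal]
    {x : Row} (hx : x ∈ tab) (hok : OK (↥H ⧸ N) x) {p : ℕ} (hp : p ∈ x.P) : p.Prime ∧ p ∣ Nat.card L := by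
  have h1 : p.Prime := of_decide_eq_true (List.all_eq_true.1 (List.all_eq_true.1 tab_prime x hx) p hp)
  have h2 := List.all_eq_true.1 (List.all_eq_true.1 tab_dvd x hx) p hp
  rw [Nat.beq_eq] at h2
  refine ⟨h1, prime_dvd' h h1 ?_⟩
  have h3 : p ∣ Nat.card (↥H ⧸ N) := by
    rw [hok.1]
    exact Nat.dvd_of_mod_eq_zero h2
  exact (h3.trans (Subgroup.card_quotient_dvd_card N)).trans (Subgroup.card_subgroup_dvd_card H)

/-- the structure theorem, as a hypothesis -/
def StrHyp (G : Type*) [Group G] (X : Type*) [Group X] : Prop :=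
  (∃ p : ℕ, p.Prime ∧ p ≠ 2 ∧ p ∣ Nat.card G ∧ ¬ ∃ x : G, orderOf x = 2 * p) →
    ¬ Nonempty (X ≃* alternatingGroup (Fin 7)) →
    (¬ ∃ (F : Type) (_ : Field F) (_ : Fintype F), Odd (Fintype.card F) ∧
      Nonempty (X ≃* Matrix.ProjectiveSpecialLinearGroup (Fin 2) F)) → Str G X

/-- the structure -/
theorem exists_str {G : Type u} {L : Type v} [Group G] [Group L] [Finite G] [Finite L]
    (h : Set.range (orderOf : G → ℕ) = Set.range (orderOf : L → ℕ)) (H : Subgroup G)
    (N : Subgroup ↥H) [N.Normal] (hstr : StrHyp G (↥H ⧸ N))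
    {x : Row} (hx : x ∈ tab) (hreal : Real x.g (↥H ⧸ N)) (hok : OK (↥H ⧸ N) x) {n : ℕ} (hn : n ≠ 1)
    (hg : Good L n) : Str G (↥H ⧸ N) := by
  · refine hstr ?_ ?_ ?_
    · obtain ⟨⟨y, hy⟩, h2⟩ := hg
      obtain ⟨p, hp, hpn⟩ := Nat.exists_prime_and_dvd hn
      have hpL : p ∣ Nat.card L := hpn.trans (by rw [← hy]; exact orderOf_dvd_natCard y)
      refine ⟨p, hp, (h2 p hp hpn).1, prime_dvd' h.symm hp hpL, ?_⟩
      rintro ⟨z, hz⟩
      have h3 : 2 * p ∈ Set.range (orderOf : G → ℕ) := ⟨z, hz⟩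
      rw [h] at h3
      exact (h2 p hp hpn).2 h3
    · rintro ⟨e⟩
      have h1 := Nat.card_congr e.toEquiv
      rw [hok.1, nat_card_alternatingGroup, Nat.card_fin] at h1
      exact (not_small hx).2 (by rw [h1]; decide)
    · rintro ⟨F, _, _, ho, ⟨e⟩⟩
      obtain ⟨p, f, hp, hc, -, -⟩ := exists_char F
      rcases Nat.lt_or_ge (Fintype.card F) 4 with h4 | h4
      · have h5 : Fintype.card F = 3 := by
          have h6 : 1 < Fintype.card F := Fintype.one_lt_card
          rcases ho with ⟨k, hk⟩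
          omega
        have h1 := Nat.card_congr e.toEquiv
        have h2 := ClassicalGeometry.PSL2Basic.card_PSL2_odd (F := F) ho
        rw [hok.1] at h1
        rw [← h1, h5] at h2
        exact (not_small hx).1 (by omega)
      · exact H283.SporLie.not_lie hp.out (Or.inl ⟨F, inferInstance, inferInstance, hc, 2, le_rfl, fun _ => h4, ⟨e⟩⟩)
          (Or.inl (spor_of_real hx hreal))

theorem dvd_of_pow {p a b k : ℕ} (hp : p.Prime) (h : p ∣ a) (hab : a ∣ b ^ k) : p ∣ b :=
  hp.dvd_of_dvd_pow (h.trans hab)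

theorem main {L : Type v} [Group L] [Finite L] (hL0 : ¬ IsMulCommutative L)
    (hL : Cfsg.IsJ2 L ∨ (∃ (F : Type) (_ : Field F) (_ : Fintype F),
      Nonempty (L ≃* Matrix.ProjectiveSpecialLinearGroup (Fin 2) F) ∨ Nonempty (L ≃* Matrix.ProjectiveSpecialLinearGroup (Fin 3) F) ∨
      (∃ q : ℕ, Fintype.card F = q ^ 2 ∧ Nonempty (L ≃* Cfsg.PSU 3 F q)) ∨ Nonempty (L ≃* Cfsg.PSp 2 F) ∨
      Nonempty (L ≃* ↥(Cfsg.Lie.chevG2.group F))) ∨ Cfsg.Lie.IsoE7 L)
    {G : Type u} [Group G] [Finite G] (h : Set.range (orderOf : G → ℕ) = Set.range (orderOf : L → ℕ))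
    (H : Subgroup G) (N : Subgroup ↥H) [N.Normal]
    (hS' : ¬ IsMulCommutative (↥H ⧸ N)) (hstr : StrHyp G (↥H ⧸ N)) (hkX : IsKnownSimple' (↥H ⧸ N))
    (hkL : IsKnownSimple' L)
    (hsp : Cfsg.IsSporadic (↥H ⧸ N)) : Nonempty ((↥H ⧸ N) ≃* L) := by
  have hna : ¬ ∀ a b : ↥H ⧸ N, a * b = b * a := fun hc => hS' ⟨⟨hc⟩⟩
  have hnaL : ¬ ∀ a b : L, a * b = b * a := fun hc => hL0 ⟨⟨hc⟩⟩
  obtain ⟨x, hx, hreal, hok⟩ := spor_row hkX hna hsp
  have hrow : ∀ p ∈ x.P, p.Prime ∧ p ∣ Nat.card L := fun p hp => row_dvd h H N hx hok hp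
  rcases hL with hL | ⟨F, iF, iF', ⟨⟨e⟩⟩ | ⟨⟨e⟩⟩ | ⟨q, hF, ⟨e⟩⟩ | ⟨⟨e⟩⟩ | ⟨⟨e⟩⟩⟩ | ⟨F, iF, iF', ⟨e⟩⟩
  · -- `J₂`
    have hx2 : x.g = .j2 := num_J hx fun p hp => by rw [← hL.2]; exact (hrow p hp).2
    have h1 : Real .j2 L := real_of_card (table.{v}) hkL hnaL
      (x := (.j2, 604800, [(2, 7), (3, 3), (5, 2), (7, 1)])) (by decide +kernel) hL.2
    rw [hx2] at hreal
    obtain ⟨e1⟩ := h1
    obtain ⟨e2⟩ := hreal
    exact ⟨e2.trans e1.symm⟩
  · -- `PSL₂`
    rcases Nat.lt_or_ge (Fintype.card F) 4 with h4 | h4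
    · exfalso
      refine num_small hx (Or.inr (Or.inr rfl)) fun p hp => ?_
      obtain ⟨h1, h2⟩ := hrow p hp
      rw [Nat.card_congr e.toEquiv] at h2
      have h6 : 1 < Fintype.card F := Fintype.one_lt_card
      rcases Nat.even_or_odd (Fintype.card F) with h3 | h3
      · have h5 : Fintype.card F = 2 := by
          obtain ⟨k, hk⟩ := h3
          omega
        rw [ClassicalGeometry.PSL2Basic.card_PSL2_even (F := F) h3, h5] at h2
        exact h2
      · have h5 : Fintype.card F = 3 := by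
          obtain ⟨k, hk⟩ := h3
          omega
        have h7 := ClassicalGeometry.PSL2Basic.card_PSL2_odd (F := F) h3
        rw [h5] at h7
        have h8 : Nat.card (Matrix.ProjectiveSpecialLinearGroup (Fin 2) F) = 12 := by omega
        rw [h8] at h2
        exact dvd_of_pow h1 h2 (k := 2) (by decide)
    · obtain ⟨n, hn1, hn⟩ := exists_good_two h4
      exact (false_two h4 e h (exists_str h H N hstr hx hreal hok hn1 (hn.congr e)) hx hreal hok).elim
  · obtain ⟨n, -, hn1, hn⟩ := good_three (F := F)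
    exact (false_three e h (exists_str h H N hstr hx hreal hok hn1 (hn.congr e)) hx hreal hok).elim
  · have hq0 : 2 ≤ q := by
      have h6 : 1 < Fintype.card F := Fintype.one_lt_card
      by_contra hlt
      have : q = 0 ∨ q = 1 := by omega
      rcases this with rfl | rfl <;> simp at hF <;> omega
    rcases Nat.lt_or_ge q 3 with h3 | h3
    · exfalso
      obtain rfl : q = 2 := by omega
      refine num_small hx (Or.inr (Or.inr rfl)) fun p hp => ?_
      obtain ⟨h1, h2⟩ := hrow p hp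
      rw [Nat.card_congr e.toEquiv] at h2
      have h7 := S0280.result hF 3 (by omega)
      rw [← mul_assoc] at h7
      refine dvd_of_pow h1 (h2.trans (Dvd.intro_left _ h7)) (k := 10) ?_
      decide
    · obtain ⟨n, -, hn1, hn⟩ := good_six hF h3
      exact (false_six hF h3 e h (exists_str h H N hstr hx hreal hok hn1 (hn.congr e)) hx hreal hok).elim
  · rcases Nat.lt_or_ge (Fintype.card F) 3 with h3 | h3
    · exfalso
      have h6 : 1 < Fintype.card F := Fintype.one_lt_card
      have h5 : Fintype.card F = 2 := by omega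
      refine num_small hx (Or.inl rfl) fun p hp => ?_
      obtain ⟨h1, h2⟩ := hrow p hp
      rw [Nat.card_congr e.toEquiv] at h2
      have h7 := S0245.result (F := F) rfl 2
      rw [h5] at h7
      have h8 : Nat.card (Cfsg.PSp 2 F) ∣ Nat.card (Matrix.symplecticGroup (Fin 2) F) :=
        Subgroup.card_quotient_dvd_card _
      rw [h7] at h8
      refine dvd_of_pow h1 (h2.trans h8) (k := 10) ?_
      decide
    · obtain ⟨n, -, hn1, hn⟩ := good_four h3
      exact (false_four h3 e h (exists_str h H N hstr hx hreal hok hn1 (hn.congr e)) hx hok).elim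
  · rcases Nat.lt_or_ge (Fintype.card F) 3 with h3 | h3
    · exfalso
      have h6 : 1 < Fintype.card F := Fintype.one_lt_card
      have h5 : Fintype.card F = 2 := by omega
      refine num_small hx (Or.inr (Or.inl rfl)) fun p hp => ?_
      obtain ⟨h1, h2⟩ := hrow p hp
      rw [Nat.card_congr e.toEquiv, (table.{v}).g2 F, h5] at h2
      refine dvd_of_pow h1 h2 (k := 10) ?_
      decide
    · obtain ⟨n, m, -, -, hn1, hn, -⟩ := goods_G2 (F := F) rfl h3
      exact (false_G2 h3 e h (exists_str h H N hstr hx hreal hok hn1 (hn.congr e)) hx hok).elim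
  · obtain ⟨n, hn37, -, hn⟩ := good_E7 (F := F)
    exact (false_E7 e h (exists_str h H N hstr hx hreal hok (by omega) (hn.congr e)) hx hok).elim

end Cfsg.Agent.H182.Spo
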