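import Cfsg.Agent.H182.SpoTab

/-!
# The finite checks (helper182)
-/

set_option autoImplicit false
set_option maxRecDepth 100000

namespace Cfsg.Agent.H182.Spo

open Cfsg.Agent.OrdDiv

/-- binary search of the square root -/
def sqr : ℕ → ℕ → ℕ → ℕ → ℕ
  | 0, _, lo, _ => lo
  | f + 1, m, lo, hi => cond (Nat.ble ((lo + hi) / 2 * ((lo + hi) / 2)) m) (sqr f m ((lo + hi) / 2) hi)
      (sqr f m lo ((lo + hi) / 2))

/-- the square root -/
def rt (m : ℕ) : ℕ := sqr 40 m 0 (m + 1)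

/-- all primes of the row divide `N` -/
def pd (x : Row) (N : ℕ) : Bool := x.P.all fun p => Nat.beq (N % p) 0

theorem pd_of {x : Row} {N : ℕ} (h : ∀ p ∈ x.P, p ∣ N) : pd x N = true := by
  unfold pd
  rw [List.all_eq_true]
  intro p hp
  rw [Nat.beq_eq]
  exact Nat.mod_eq_zero_of_dvd (h p hp)

def cS (x : Row) : Bool := x.R.sublists.all fun L => [1, 2, 3].all fun k =>
  Nat.ble (rt (k * L.prod) * rt (k * L.prod)) (k * L.prod) &&
    Nat.blt (k * L.prod) ((rt (k * L.prod) + 1) * (rt (k * L.prod) + 1))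

def cA (x : Row) : Bool := x.R.sublists.all fun L => [2 * L.prod - 1, 2 * L.prod + 1].all fun q =>
  Nat.ble q 4 || !(pd x (q * (q * q - 1))) || !(x.R.any fun p => Nat.beq (p ^ 64 % q) 0) ||
    (x.g == .m11 && Nat.beq q 11)

def cB (x : Row) : Bool := x.R.sublists.all fun L => [1, 3].all fun k =>
  Nat.ble (rt (k * L.prod)) 1 || !(Nat.beq (rt (k * L.prod) * rt (k * L.prod) + rt (k * L.prod) + 1) (k * L.prod)) ||
  !(pd x (rt (k * L.prod) * (rt (k * L.prod) * rt (k * L.prod) - 1) *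
      (rt (k * L.prod) * rt (k * L.prod) + rt (k * L.prod) + 1))) ||
    (x.g == .j1 && Nat.beq (rt (k * L.prod)) 11) || (x.g == .j2 && Nat.beq (rt (k * L.prod)) 4)

def cC (x : Row) : Bool := x.R.sublists.all fun L => [1, 3].all fun k =>
  Nat.ble (rt (k * L.prod)) 0 || !(Nat.beq ((rt (k * L.prod) + 1) * rt (k * L.prod) + 1) (k * L.prod)) ||
  !(pd x ((rt (k * L.prod) + 1) * ((rt (k * L.prod) + 1) * (rt (k * L.prod) + 1) - 1) *
      ((rt (k * L.prod) + 1) * rt (k * L.prod) + 1))) ||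
    (x.g == .j2 && Nat.beq (rt (k * L.prod)) 4)

def cD (x : Row) : Bool := x.R.sublists.all fun L => [1, 2].all fun k =>
  Nat.ble (rt (k * L.prod)) 1 || !(Nat.beq (rt (k * L.prod) * rt (k * L.prod) + 1) (k * L.prod)) ||
  !(pd x (rt (k * L.prod) * (rt (k * L.prod) ^ 4 - 1)))

def cE (x : Row) : Bool := x.R.sublists.all fun L => [1, 3].all fun k =>
  Nat.ble (rt (k * L.prod)) 1 || !(Nat.beq (rt (k * L.prod) * rt (k * L.prod) + rt (k * L.prod) + 1) (k * L.prod)) ||
  !(Nat.beq ((3 * x.R.prod) % (rt (k * L.prod) * (rt (k * L.prod) - 1) + 1)) 0) ||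
  !(pd x (rt (k * L.prod) * (rt (k * L.prod) ^ 6 - 1)))

theorem okS : tab.all cS = true := by decide +kernel

theorem okA : tab.all cA = true := by decide +kernel

theorem okB : tab.all cB = true := by decide +kernel

theorem okC : tab.all cC = true := by decide +kernel

theorem okD : tab.all cD = true := by decide +kernel

theorem okE : tab.all cE = true := by decide +kernel

/-- the small primes -/
theorem ok3 : tab.all (fun x => !(x.R.contains 3)) = true := by decide +kernel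

theorem ok7 : tab.all (fun x => x.P.any fun p => Nat.blt 7 p || x.g == .j2) = true := by decide +kernel

theorem ok9 : tab.all (fun x => Nat.ble ((x.R.filter fun p => Nat.beq (p % 18) 1).prod) 37) = true := by decide +kernel

theorem okN : tab.all (fun x => !(pd x 30) && !(pd x 42) && !(pd x 6)) = true := by decide +kernel

/-! ### extraction -/

theorem prime_R {x : Row} (hx : x ∈ tab) {p : ℕ} (hp : p ∈ x.R) : p.Prime := by
  have h1 := List.all_eq_true.1 (List.all_eq_true.1 tab_sub x hx) p hp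
  have h2 : p ∈ x.P := by simpa using h1
  exact of_decide_eq_true (List.all_eq_true.1 (List.all_eq_true.1 tab_prime x hx) p h2)

theorem sub_of {x : Row} (hx : x ∈ tab) {n : ℕ} (hn : n ∣ x.R.prod) : ∃ L ∈ x.R.sublists, n = L.prod :=
  Cfsg.Agent.H94.PG.Sp.exists_sublist x.R (fun _ hp => prime_R hx hp) n hn

theorem rt_eq {x : Row} (hx : x ∈ tab) {n : ℕ} (hn : n ∣ x.R.prod) {k : ℕ} (hk : k ∈ [1, 2, 3]) {s : ℕ}
    (h1 : s * s ≤ k * n) (h2 : k * n < (s + 1) * (s + 1)) : rt (k * n) = s := by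
  obtain ⟨L, hL, rfl⟩ := sub_of hx hn
  have h := List.all_eq_true.1 (List.all_eq_true.1 (List.all_eq_true.1 okS x hx) L hL) k hk
  rw [Bool.and_eq_true, Nat.ble_eq, Nat.blt_eq] at h
  set r := rt (k * L.prod)
  obtain ⟨h3, h4⟩ := h
  apply le_antisymm
  · by_contra hlt
    push Not at hlt
    have h5 : (s + 1) * (s + 1) ≤ r * r := Nat.mul_le_mul hlt hlt
    omega
  · by_contra hlt
    push Not at hlt
    have h5 : (r + 1) * (r + 1) ≤ s * s := Nat.mul_le_mul hlt hlt
    omega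

theorem not_pd {x : Row} {N : ℕ} (h : ∀ p ∈ x.P, p ∣ N) (h' : (!(pd x N)) = true) : False := by
  rw [pd_of h] at h'
  exact absurd h' (by decide)

/-- `PSL₂(q)`, `q` odd -/
theorem num_A {x : Row} (hx : x ∈ tab) {n : ℕ} (hn : n ∣ x.R.prod) {q : ℕ} (hq : q = 2 * n - 1 ∨ q = 2 * n + 1)
    (h5 : 5 ≤ q) (hP : ∀ p ∈ x.P, p ∣ q * (q * q - 1)) {p : ℕ} (hp : p ∈ x.R) (hpq : q ∣ p ^ 64) :
    x.g = .m11 ∧ q = 11 := by
  obtain ⟨L, hL, rfl⟩ := sub_of hx hn
  have h := List.all_eq_true.1 (List.all_eq_true.1 (List.all_eq_true.1 okA x hx) L hL) q (by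
    rcases hq with h | h <;> simp [h])
  rw [Bool.or_eq_true, Bool.or_eq_true, Bool.or_eq_true] at h
  rcases h with ((h | h) | h) | h
  · rw [Nat.ble_eq] at h; omega
  · exact (not_pd hP h).elim
  · exfalso
    have h2 : (x.R.any fun p => Nat.beq (p ^ 64 % q) 0) = true := by
      rw [List.any_eq_true]
      exact ⟨p, hp, by rw [Nat.beq_eq]; exact Nat.mod_eq_zero_of_dvd hpq⟩
    rw [h2] at h
    exact absurd h (by decide)
  · rw [Bool.and_eq_true, beq_iff_eq, Nat.beq_eq] at h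
    exact h

/-- `PSL₃(q)` -/
theorem num_B {x : Row} (hx : x ∈ tab) {n : ℕ} (hn : n ∣ x.R.prod) {q : ℕ} (h2 : 2 ≤ q)
    (hq : q * q + q + 1 = n ∨ q * q + q + 1 = 3 * n)
    (hP : ∀ p ∈ x.P, p ∣ q * (q * q - 1) * (q * q + q + 1)) :
    (x.g = .j1 ∧ q = 11) ∨ (x.g = .j2 ∧ q = 4) := by
  obtain ⟨k, hk, hqk⟩ : ∃ k ∈ [1, 3], q * q + q + 1 = k * n := by
    rcases hq with h | h
    · exact ⟨1, by simp, by rw [h, one_mul]⟩
    · exact ⟨3, by simp, h⟩
  have hr : rt (k * n) = q := rt_eq hx hn (by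
    simp only [List.mem_cons, List.not_mem_nil, or_false] at hk ⊢
    tauto) (by rw [← hqk]; nlinarith) (by rw [← hqk]; nlinarith)
  obtain ⟨L, hL, rfl⟩ := sub_of hx hn
  have h := List.all_eq_true.1 (List.all_eq_true.1 (List.all_eq_true.1 okB x hx) L hL) k hk
  rw [hr, ← hqk] at h
  rw [Bool.or_eq_true, Bool.or_eq_true, Bool.or_eq_true, Bool.or_eq_true] at h
  rcases h with (((h | h) | h) | h) | h
  · rw [Nat.ble_eq] at h; omega
  · rw [Bool.not_eq_true', ← Bool.not_eq_true, Nat.beq_eq] at h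
    exact absurd rfl h
  · exact (not_pd hP h).elim
  · rw [Bool.and_eq_true, beq_iff_eq, Nat.beq_eq] at h
    exact Or.inl h
  · rw [Bool.and_eq_true, beq_iff_eq, Nat.beq_eq] at h
    exact Or.inr h

/-- `PSU₃(q)`, with `q = s + 1` -/
theorem num_C {x : Row} (hx : x ∈ tab) {n : ℕ} (hn : n ∣ x.R.prod) {s : ℕ} (h1 : 1 ≤ s)
    (hq : (s + 1) * s + 1 = n ∨ (s + 1) * s + 1 = 3 * n)
    (hP : ∀ p ∈ x.P, p ∣ (s + 1) * ((s + 1) * (s + 1) - 1) * ((s + 1) * s + 1)) :
    x.g = .j2 ∧ s = 4 := by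
  obtain ⟨k, hk, hqk⟩ : ∃ k ∈ [1, 3], (s + 1) * s + 1 = k * n := by
    rcases hq with h | h
    · exact ⟨1, by simp, by rw [h, one_mul]⟩
    · exact ⟨3, by simp, h⟩
  have hr : rt (k * n) = s := rt_eq hx hn (by
    simp only [List.mem_cons, List.not_mem_nil, or_false] at hk ⊢
    tauto) (by rw [← hqk]; nlinarith) (by rw [← hqk]; nlinarith)
  obtain ⟨L, hL, rfl⟩ := sub_of hx hn
  have h := List.all_eq_true.1 (List.all_eq_true.1 (List.all_eq_true.1 okC x hx) L hL) k hk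
  rw [hr, ← hqk] at h
  rw [Bool.or_eq_true, Bool.or_eq_true, Bool.or_eq_true] at h
  rcases h with ((h | h) | h) | h
  · rw [Nat.ble_eq] at h; omega
  · rw [Bool.not_eq_true', ← Bool.not_eq_true, Nat.beq_eq] at h
    exact absurd rfl h
  · exact (not_pd hP h).elim
  · rw [Bool.and_eq_true, beq_iff_eq, Nat.beq_eq] at h
    exact h

/-- `PSp₄(q)` -/
theorem num_D {x : Row} (hx : x ∈ tab) {n : ℕ} (hn : n ∣ x.R.prod) {q : ℕ} (h2 : 2 ≤ q)
    (hq : q * q + 1 = n ∨ q * q + 1 = 2 * n) (hP : ∀ p ∈ x.P, p ∣ q * (q ^ 4 - 1)) : False := by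
  obtain ⟨k, hk, hqk⟩ : ∃ k ∈ [1, 2], q * q + 1 = k * n := by
    rcases hq with h | h
    · exact ⟨1, by simp, by rw [h, one_mul]⟩
    · exact ⟨2, by simp, h⟩
  have hr : rt (k * n) = q := rt_eq hx hn (by
    simp only [List.mem_cons, List.not_mem_nil, or_false] at hk ⊢
    tauto) (by rw [← hqk]; nlinarith) (by rw [← hqk]; nlinarith)
  obtain ⟨L, hL, rfl⟩ := sub_of hx hn
  have h := List.all_eq_true.1 (List.all_eq_true.1 (List.all_eq_true.1 okD x hx) L hL) k hk
  rw [hr, ← hqk] at h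
  rw [Bool.or_eq_true, Bool.or_eq_true] at h
  rcases h with (h | h) | h
  · rw [Nat.ble_eq] at h; omega
  · rw [Bool.not_eq_true', ← Bool.not_eq_true, Nat.beq_eq] at h
    exact absurd rfl h
  · exact (not_pd hP h).elim

/-- `G₂(q)` -/
theorem num_E {x : Row} (hx : x ∈ tab) {n : ℕ} (hn : n ∣ x.R.prod) {q : ℕ} (h2 : 2 ≤ q)
    (hq : q * q + q + 1 = n ∨ q * q + q + 1 = 3 * n) (hd : q * (q - 1) + 1 ∣ 3 * x.R.prod)
    (hP : ∀ p ∈ x.P, p ∣ q * (q ^ 6 - 1)) : False := by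
  obtain ⟨k, hk, hqk⟩ : ∃ k ∈ [1, 3], q * q + q + 1 = k * n := by
    rcases hq with h | h
    · exact ⟨1, by simp, by rw [h, one_mul]⟩
    · exact ⟨3, by simp, h⟩
  have hr : rt (k * n) = q := rt_eq hx hn (by
    simp only [List.mem_cons, List.not_mem_nil, or_false] at hk ⊢
    tauto) (by rw [← hqk]; nlinarith) (by rw [← hqk]; nlinarith)
  obtain ⟨L, hL, rfl⟩ := sub_of hx hn
  have h := List.all_eq_true.1 (List.all_eq_true.1 (List.all_eq_true.1 okE x hx) L hL) k hk
  rw [hr, ← hqk] at h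
  rw [Bool.or_eq_true, Bool.or_eq_true, Bool.or_eq_true] at h
  rcases h with ((h | h) | h) | h
  · rw [Nat.ble_eq] at h; omega
  · rw [Bool.not_eq_true', ← Bool.not_eq_true, Nat.beq_eq] at h
    exact absurd rfl h
  · rw [Bool.not_eq_true', ← Bool.not_eq_true, Nat.beq_eq] at h
    exact absurd (Nat.mod_eq_zero_of_dvd hd) h
  · exact (not_pd hP h).elim

theorem num_three {x : Row} (hx : x ∈ tab) (h : 3 ∣ x.R.prod) : False := by
  obtain ⟨p, hp, h3⟩ := (Prime.dvd_prod_iff Nat.prime_three.prime).1 h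
  rw [← (Nat.prime_dvd_prime_iff_eq Nat.prime_three (prime_R hx hp)).1 h3] at hp
  have h1 := List.all_eq_true.1 ok3 x hx
  rw [Bool.not_eq_true', ← Bool.not_eq_true] at h1
  exact h1 (by simpa using hp)

theorem num_J {x : Row} (hx : x ∈ tab) (h : ∀ p ∈ x.P, p ∣ 604800) : x.g = .j2 := by
  have h1 := List.all_eq_true.1 ok7 x hx
  rw [List.any_eq_true] at h1
  obtain ⟨p, hp, h2⟩ := h1
  rw [Bool.or_eq_true, beq_iff_eq] at h2
  rcases h2 with h2 | h2
  · exfalso
    rw [Nat.blt_eq] at h2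
    have h3 : p.Prime := of_decide_eq_true (List.all_eq_true.1 (List.all_eq_true.1 tab_prime x hx) p hp)
    have h4 := h p hp
    have h5 : (604800 : ℕ) = 2 ^ 7 * 3 ^ 3 * 5 ^ 2 * 7 := by norm_num
    rw [h5] at h4
    rcases h3.dvd_mul.1 h4 with h4 | h4
    · rcases h3.dvd_mul.1 h4 with h4 | h4
      · rcases h3.dvd_mul.1 h4 with h4 | h4
        · have := Nat.le_of_dvd (by norm_num) (h3.dvd_of_dvd_pow h4); omega
        · have := Nat.le_of_dvd (by norm_num) (h3.dvd_of_dvd_pow h4); omega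
      · have := Nat.le_of_dvd (by norm_num) (h3.dvd_of_dvd_pow h4); omega
    · have := Nat.le_of_dvd (by norm_num) h4; omega
  · exact h2

/-- the primes of a row do not all divide a small number -/
theorem num_small {x : Row} (hx : x ∈ tab) {N : ℕ} (hN : N = 30 ∨ N = 42 ∨ N = 6) (h : ∀ p ∈ x.P, p ∣ N) : False := by
  have h1 := List.all_eq_true.1 okN x hx
  rw [Bool.and_eq_true, Bool.and_eq_true] at h1
  rcases hN with rfl | rfl | rfl
  · exact not_pd h h1.1.1
  · exact not_pd h h1.1.2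
  · exact not_pd h h1.2

/-- a product of primes congruent to one modulo 18 is small -/
theorem num_nine {x : Row} (hx : x ∈ tab) {n : ℕ} (hn : n ∣ x.R.prod) (h : ∀ p : ℕ, p.Prime → p ∣ n → p % 18 = 1) :
    n ≤ 37 := by
  have h1 := List.all_eq_true.1 ok9 x hx
  rw [Nat.ble_eq] at h1
  refine le_trans (Nat.le_of_dvd ?_ ?_) h1
  · apply List.prod_pos
    intro p hp
    exact (prime_R hx (List.mem_of_mem_filter hp)).pos
  · refine (Nat.dvd_iff_prime_pow_dvd_dvd _ _).2 fun r k hr hk => ?_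
    rcases Nat.eq_zero_or_pos k with h0 | h0
    · rw [h0, pow_zero]; exact one_dvd _
    have hrn : r ∣ n := (dvd_pow_self r h0.ne').trans hk
    have hrR : r ∣ x.R.prod := hrn.trans hn
    obtain ⟨p, hp, h3⟩ := (Prime.dvd_prod_iff hr.prime).1 hrR
    obtain rfl := (Nat.prime_dvd_prime_iff_eq hr (prime_R hx hp)).1 h3
    have hmem : r ∈ x.R.filter fun p => Nat.beq (p % 18) 1 := by
      rw [List.mem_filter, Nat.beq_eq]
      exact ⟨hp, h r hr hrn⟩
    have hsq : ¬ r ^ 2 ∣ x.R.prod := by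
      intro h4
      have hnd : x.R.Nodup := of_decide_eq_true (List.all_eq_true.1 tab_nodup x hx)
      have h5 := List.prod_erase hp
      rw [← h5, pow_two] at h4
      have h6 : r ∣ (x.R.erase r).prod := Nat.dvd_of_mul_dvd_mul_left hr.pos h4
      obtain ⟨p', hp', h7⟩ := (Prime.dvd_prod_iff hr.prime).1 h6
      obtain rfl := (Nat.prime_dvd_prime_iff_eq hr (prime_R hx (List.mem_of_mem_erase hp'))).1 h7
      exact hnd.not_mem_erase hp'
    have hk1 : k = 1 := by
      by_contra hne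
      exact hsq (((pow_dvd_pow r (by omega)).trans hk).trans hn)
    rw [hk1, pow_one]
    exact List.dvd_prod hmem

end Cfsg.Agent.H182.Spo
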