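import Cfsg.Agent.H182.SpoMain
import Cfsg.Agent.H182.SpoNum

/-!
# `Good` numbers from cyclic tori (helper182)
-/

set_option autoImplicit false

namespace Cfsg.Agent.H182.Spo

open Subgroup

section

variable {G : Type*} [Group G] [Finite G] {T : Subgroup G} {r : ℕ}

omit [Finite G] in
theorem orderOf_conj' (g x : G) : orderOf (g * x * g⁻¹) = orderOf x :=
  orderOf_injective (MulAut.conj g).toMonoidHom (MulAut.conj g).injective x

/-- elements of order `r` are conjugate into `T` -/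
theorem conj_mem (hr : r.Prime) (hT : ∀ y ∈ T, orderOf y = r → centralizer ({y} : Set G) ≤ T)
    (hd : r ∣ Nat.card T) {x : G} (hx : orderOf x = r) : ∃ g : G, g * x * g⁻¹ ∈ T := by
  have hf : Fact r.Prime := ⟨hr⟩
  obtain ⟨y, hy⟩ := exists_prime_orderOf_dvd_card' r hd
  have hyo : orderOf (y : G) = r := by rw [Subgroup.orderOf_coe, hy]
  have hpg : ∀ z : G, orderOf z = r → IsPGroup r (zpowers z) := fun z hz =>
    IsPGroup.of_card (n := 1) (by rw [Nat.card_zpowers, hz, pow_one])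
  obtain ⟨P, hP⟩ := (hpg _ hyo).exists_le_sylow
  have hyP : (y : G) ∈ (P : Subgroup G) := hP (mem_zpowers _)
  have hnt : Nontrivial (P : Subgroup G) := by
    refine ⟨⟨⟨y, hyP⟩, 1, fun h => ?_⟩⟩
    have h1 : (y : G) = 1 := congrArg Subtype.val h
    rw [h1, orderOf_one] at hyo
    exact hr.one_lt.ne hyo
  have hc := P.2.center_nontrivial
  obtain ⟨z, hz⟩ := exists_ne (1 : center (P : Subgroup G))
  obtain ⟨k, hk⟩ := P.2 (z : (P : Subgroup G))
  have hzo : r ∣ orderOf (z : (P : Subgroup G)) := by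
    have h1 : orderOf (z : (P : Subgroup G)) ∣ r ^ k := orderOf_dvd_of_pow_eq_one hk
    obtain ⟨j, hj, h2⟩ := (Nat.dvd_prime_pow hr).1 h1
    rw [h2]
    apply dvd_pow_self
    rintro rfl
    rw [pow_zero, orderOf_eq_one_iff] at h2
    exact hz (Subtype.ext h2)
  set w : (P : Subgroup G) := (z : (P : Subgroup G)) ^ (orderOf (z : (P : Subgroup G)) / r) with hw
  have hwo : orderOf w = r := orderOf_pow_orderOf_div (orderOf_pos _).ne' hzo
  have hwc : ∀ a ∈ (P : Subgroup G), a * (w : G) = w * a := by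
    intro a ha
    have h1 : w ∈ center (P : Subgroup G) := pow_mem z.2 _
    exact congrArg Subtype.val (mem_center_iff.1 h1 ⟨a, ha⟩)
  have hwo' : orderOf (w : G) = r := by rw [Subgroup.orderOf_coe, hwo]
  have hwT : (w : G) ∈ T := by
    apply hT y y.2 hyo
    rw [mem_centralizer_singleton_iff]
    exact (hwc y hyP).symm
  have hPT : (P : Subgroup G) ≤ T := by
    intro a ha
    apply hT w hwT hwo'
    rw [mem_centralizer_singleton_iff]
    exact hwc a ha
  obtain ⟨Q, hQ⟩ := (hpg _ hx).exists_le_sylow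
  obtain ⟨g, hg⟩ := MulAction.exists_smul_eq G Q P
  refine ⟨g, hPT ?_⟩
  rw [← hg]
  exact ⟨x, hQ (mem_zpowers x), rfl⟩

/-- the `Good` divisors of the order of a torus -/
theorem good_of_torus [hTc : IsCyclic T] {n : ℕ} (hn : n ∣ Nat.card T) (hodd : ¬ 2 ∣ Nat.card T)
    (hT : ∀ r : ℕ, r.Prime → r ∣ n → ∀ y ∈ T, orderOf y = r → centralizer ({y} : Set G) ≤ T) : Good G n := by
  constructor
  · obtain ⟨g, hg⟩ := IsCyclic.exists_generator (α := T)
    have h1 : orderOf g = Nat.card T := orderOf_eq_card_of_forall_mem_zpowers hg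
    obtain ⟨m, hm⟩ := hn
    have hm0 : m ≠ 0 := by
      rintro rfl
      rw [mul_zero] at hm
      exact Nat.card_pos.ne' hm
    have hn0 : n ≠ 0 := by
      rintro rfl
      rw [zero_mul] at hm
      exact Nat.card_pos.ne' hm
    refine ⟨(g ^ m : T), ?_⟩
    rw [Subgroup.orderOf_coe, orderOf_pow' g hm0, h1, hm, Nat.gcd_eq_right (dvd_mul_left m n),
      Nat.mul_div_cancel _ (Nat.pos_of_ne_zero hm0)]
  · intro r hr hrn
    have hr2 : r ≠ 2 := by
      rintro rfl
      exact hodd (hrn.trans hn)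
    refine ⟨hr2, ?_⟩
    rintro ⟨x, hx⟩
    have h2 : orderOf (x ^ 2) = r := by
      rw [orderOf_pow' x two_ne_zero, hx, Nat.gcd_eq_right (dvd_mul_right 2 r), Nat.mul_div_cancel_left _ two_pos]
    have h3 : orderOf (x ^ r) = 2 := by
      rw [orderOf_pow' x hr.ne_zero, hx, Nat.gcd_eq_right (dvd_mul_left r 2), Nat.mul_div_cancel _ hr.pos]
    obtain ⟨g, hg⟩ := conj_mem hr (hT r hr hrn) (hrn.trans hn) h2
    have h4 : g * x ^ r * g⁻¹ ∈ T := by
      apply hT r hr hrn _ hg ((orderOf_conj' g (x ^ 2)).trans h2)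
      rw [mem_centralizer_singleton_iff]
      have h5 : x ^ r * x ^ 2 = x ^ 2 * x ^ r := by rw [← pow_add, ← pow_add, add_comm]
      calc g * x ^ r * g⁻¹ * (g * x ^ 2 * g⁻¹) = g * (x ^ r * x ^ 2) * g⁻¹ := by group
        _ = g * (x ^ 2 * x ^ r) * g⁻¹ := by rw [h5]
        _ = g * x ^ 2 * g⁻¹ * (g * x ^ r * g⁻¹) := by group
    apply hodd
    have h5 := orderOf_dvd_natCard (⟨_, h4⟩ : T)
    rw [Subgroup.orderOf_mk] at h5
    have h6 : orderOf (g * x ^ r * g⁻¹) = 2 := (orderOf_conj' g (x ^ r)).trans h3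
    rwa [h6] at h5

/-- the order of the torus -/
theorem card_eq_of_self {H : Subgroup G} [hTc : IsCyclic T] [hHc : IsCyclic H]
    (hH : centralizer (H : Set G) = H) (hr : r.Prime)
    (hT : ∀ y ∈ T, orderOf y = r → centralizer ({y} : Set G) ≤ T) (hrT : r ∣ Nat.card T) (hrH : r ∣ Nat.card H) :
    Nat.card T = Nat.card H := by
  have hf : Fact r.Prime := ⟨hr⟩
  obtain ⟨y, hy⟩ := exists_prime_orderOf_dvd_card' r hrH
  have hyo : orderOf (y : G) = r := by rw [Subgroup.orderOf_coe, hy]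
  obtain ⟨g, hg⟩ := conj_mem hr hT hrT hyo
  have hTcomm : ∀ a ∈ T, ∀ b ∈ T, a * b = b * a := fun a ha b hb =>
    congrArg Subtype.val ((IsCyclic.commGroup (α := T)).mul_comm ⟨a, ha⟩ ⟨b, hb⟩)
  have hHcomm : ∀ a ∈ H, ∀ b ∈ H, a * b = b * a := fun a ha b hb =>
    congrArg Subtype.val ((IsCyclic.commGroup (α := H)).mul_comm ⟨a, ha⟩ ⟨b, hb⟩)
  have h1 : ∀ h ∈ H, g * h * g⁻¹ ∈ T := by
    intro h hh
    apply hT _ hg ((orderOf_conj' g (y : G)).trans hyo)
    rw [mem_centralizer_singleton_iff]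
    calc g * h * g⁻¹ * (g * y * g⁻¹) = g * (h * y) * g⁻¹ := by group
      _ = g * (y * h) * g⁻¹ := by rw [hHcomm h hh y y.2]
      _ = g * y * g⁻¹ * (g * h * g⁻¹) := by group
  have h2 : H.map (MulAut.conj g).toMonoidHom = T := by
    apply le_antisymm
    · rintro _ ⟨h, hh, rfl⟩
      exact h1 h hh
    · intro t ht
      refine ⟨g⁻¹ * t * g, ?_, ?_⟩
      · rw [SetLike.mem_coe, ← hH, mem_centralizer_iff]
        intro h hh
        have h3 := hTcomm _ (h1 h hh) t ht
        calc h * (g⁻¹ * t * g) = g⁻¹ * (g * h * g⁻¹ * t) * g := by group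
          _ = g⁻¹ * (t * (g * h * g⁻¹)) * g := by rw [h3]
          _ = g⁻¹ * t * g * h := by group
      · change g * (g⁻¹ * t * g) * g⁻¹ = t
        group
  rw [← h2]
  exact (Nat.card_congr (H.equivMapOfInjective (MulAut.conj g).toMonoidHom (MulAut.conj g).injective).toEquiv).symm

end

end Cfsg.Agent.H182.Spo
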