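import Cfsg.Agent.H182.SpoMain
import Cfsg.Agent.H182.SpoNum
import Cfsg.Agent.S2475
import Cfsg.Agent.H180.KM11

/-!
# `L = PSL₂(q)` (helper182)
-/

set_option autoImplicit false

namespace Cfsg.Agent.H182.Spo

open Cfsg.Agent.OrdDiv

section

variable {F : Type*} [Field F] [Fintype F]

theorem ex_iff2 (p : ℕ) [Fact p.Prime] [CharP F p] (h4 : 4 ≤ Fintype.card F) (m : ℕ) :
    (∃ x : Matrix.ProjectiveSpecialLinearGroup (Fin 2) F, orderOf x = m) ↔
      m ∣ p ∨ m ∣ (Fintype.card F - 1) / Nat.gcd 2 (Fintype.card F - 1) ∨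
        m ∣ (Fintype.card F + 1) / Nat.gcd 2 (Fintype.card F - 1) := by
  have h := S2475.result (F := F) p h4
  have h1 : m ∈ Set.range (orderOf : Matrix.ProjectiveSpecialLinearGroup (Fin 2) F → ℕ) ↔
      m ∈ {m : ℕ | m ∣ p ∨ m ∣ (Fintype.card F - 1) / Nat.gcd 2 (Fintype.card F - 1) ∨
        m ∣ (Fintype.card F + 1) / Nat.gcd 2 (Fintype.card F - 1)} := by rw [h]
  exact h1

/-- the characteristic -/
theorem exists_char (F : Type*) [Field F] [Fintype F] :
    ∃ (p f : ℕ) (_ : Fact p.Prime), CharP F p ∧ f ≠ 0 ∧ Fintype.card F = p ^ f := by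
  obtain ⟨p, hp⟩ := CharP.exists F
  have hpp : p.Prime := CharP.char_is_prime F p
  have : Fact p.Prime := ⟨hpp⟩
  obtain ⟨n, -, hn⟩ := FiniteField.card F p
  exact ⟨p, n, ⟨hpp⟩, hp, n.ne_zero, hn⟩

theorem prime_two {r : ℕ} (h4 : 4 ≤ Fintype.card F)
    (h : ∃ x : Matrix.ProjectiveSpecialLinearGroup (Fin 2) F, orderOf x = r) :
    r ∣ Fintype.card F * (Fintype.card F * Fintype.card F - 1) := by
  obtain ⟨p, f, hp, hc, hf, hq⟩ := exists_char F
  rw [ex_iff2 p h4] at h
  set q := Fintype.card F with hqd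
  have hsq : q * q - 1 = (q - 1) * (q + 1) := by
    obtain ⟨s, hs⟩ : ∃ s, q = s + 1 := ⟨q - 1, by omega⟩
    rw [hs]
    have : (s + 1) * (s + 1) = s * (s + 1 + 1) + 1 := by ring
    rw [this, Nat.add_sub_cancel, Nat.add_sub_cancel]
  rcases h with h | h | h
  · exact Dvd.dvd.mul_right (h.trans (by rw [hq]; exact dvd_pow_self p hf)) _
  · have h1 : r ∣ q - 1 := h.trans (Nat.div_dvd_of_dvd (Nat.gcd_dvd_right _ _))
    exact Dvd.dvd.mul_left (by rw [hsq]; exact h1.mul_right _) _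
  · have h1 : r ∣ q + 1 := by
      refine h.trans (Nat.div_dvd_of_dvd ?_)
      rcases (Nat.dvd_prime Nat.prime_two).1 (Nat.gcd_dvd_left 2 (q - 1)) with h2 | h2
      · rw [h2]; exact one_dvd _
      · rw [h2]
        have h3 := Nat.gcd_dvd_right 2 (q - 1)
        rw [h2] at h3
        omega
    exact Dvd.dvd.mul_left (by rw [hsq]; exact h1.mul_left _) _

/-- `q` even -/
theorem good_even (h4 : 4 ≤ Fintype.card F) (he : Even (Fintype.card F)) :
    Good (Matrix.ProjectiveSpecialLinearGroup (Fin 2) F) 3 := by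
  obtain ⟨p, f, hp, hc, hf, hq⟩ := exists_char F
  have h2 : p = 2 := by
    rw [hq] at he
    have := (Nat.even_pow.1 he).1
    exact (Nat.Prime.even_iff hp.out).1 this
  have hg : Nat.gcd 2 (Fintype.card F - 1) = 1 := by
    rw [← Nat.coprime_iff_gcd_eq_one, Nat.coprime_two_left]
    obtain ⟨k, hk⟩ := he
    exact ⟨k - 1, by omega⟩
  subst h2
  have key : ∀ m : ℕ, (∃ x : Matrix.ProjectiveSpecialLinearGroup (Fin 2) F, orderOf x = m) ↔
      m ∣ 2 ∨ m ∣ Fintype.card F - 1 ∨ m ∣ Fintype.card F + 1 := by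
    intro m
    rw [ex_iff2 2 h4, hg, Nat.div_one, Nat.div_one]
  have h3 : ¬ 3 ∣ Fintype.card F := by
    rw [hq]
    intro h
    have := (Nat.prime_dvd_prime_iff_eq Nat.prime_three Nat.prime_two).1 (Nat.prime_three.dvd_of_dvd_pow h)
    omega
  obtain ⟨k, hk⟩ := he
  have h5 : Fintype.card F % 3 = 1 ∨ Fintype.card F % 3 = 2 := by omega
  refine ⟨(key 3).2 (by
    right
    rcases h5 with h5 | h5
    · left; omega
    · right; omega), fun r hr hr3 => ?_⟩
  obtain rfl := (Nat.prime_dvd_prime_iff_eq hr Nat.prime_three).1 hr3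
  refine ⟨by norm_num, ?_⟩
  rw [key]
  omega

/-- `q` odd: the characteristic -/
theorem good_char (p : ℕ) [hp : Fact p.Prime] [CharP F p] (h4 : 4 ≤ Fintype.card F) (ho : Odd (Fintype.card F)) :
    Good (Matrix.ProjectiveSpecialLinearGroup (Fin 2) F) p := by
  obtain ⟨n, -, hq⟩ := FiniteField.card F p
  have hp2 : p ≠ 2 := by
    rintro rfl
    rw [hq] at ho
    have h1 : Even (2 ^ (n : ℕ)) := Nat.even_pow.2 ⟨even_two, n.ne_zero⟩
    exact (Nat.not_even_iff_odd.2 ho) h1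
  have hpq : p ∣ Fintype.card F := by rw [hq]; exact dvd_pow_self p n.ne_zero
  refine ⟨(ex_iff2 p h4 p).2 (Or.inl dvd_rfl), fun r hr hrp => ?_⟩
  obtain rfl := (Nat.prime_dvd_prime_iff_eq hr hp.out).1 hrp
  refine ⟨hp2, ?_⟩
  rw [ex_iff2 r h4]
  have hr1 := hr.one_lt
  rintro (h | h | h)
  · have := Nat.le_of_dvd hr.pos h; omega
  · have h1 : r ∣ Fintype.card F - 1 :=
      ((dvd_mul_left r 2).trans h).trans (Nat.div_dvd_of_dvd (Nat.gcd_dvd_right _ _))
    have h2 := Nat.dvd_sub hpq h1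
    rw [Nat.sub_sub_self (by omega)] at h2
    exact hr1.ne' (Nat.dvd_one.1 h2)
  · have h2' : Nat.gcd 2 (Fintype.card F - 1) ∣ Fintype.card F + 1 := by
      rcases (Nat.dvd_prime Nat.prime_two).1 (Nat.gcd_dvd_left 2 (Fintype.card F - 1)) with h2 | h2
      · rw [h2]; exact one_dvd _
      · rw [h2]
        obtain ⟨k, hk⟩ := ho
        exact ⟨k + 1, by omega⟩
    have h1 : r ∣ Fintype.card F + 1 := ((dvd_mul_left r 2).trans h).trans (Nat.div_dvd_of_dvd h2')
    have h2 := (Nat.dvd_add_right hpq).1 h1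
    exact hr1.ne' (Nat.dvd_one.1 h2)

/-- `q` odd: the odd torus -/
theorem good_tor (h4 : 4 ≤ Fintype.card F) (ho : Odd (Fintype.card F)) :
    ∃ n, (Fintype.card F = 2 * n - 1 ∨ Fintype.card F = 2 * n + 1) ∧
      Good (Matrix.ProjectiveSpecialLinearGroup (Fin 2) F) n := by
  obtain ⟨p, f, hp, hc, hf, hq⟩ := exists_char F
  obtain ⟨k, hk⟩ := ho
  have hg : Nat.gcd 2 (Fintype.card F - 1) = 2 := Nat.gcd_eq_left ⟨k, by omega⟩
  have hpo : Odd p := by
    rcases Nat.even_or_odd p with h | h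
    · exfalso
      have h1 : Even (p ^ f) := Nat.even_pow.2 ⟨h, hf⟩
      rw [← hq, hk] at h1
      obtain ⟨j, hj⟩ := h1
      omega
    · exact h
  have key : ∀ m : ℕ, (∃ x : Matrix.ProjectiveSpecialLinearGroup (Fin 2) F, orderOf x = m) ↔
      m ∣ p ∨ m ∣ k ∨ m ∣ k + 1 := by
    intro m
    rw [ex_iff2 p h4, hg, hk, show (2 * k + 1 - 1) / 2 = k by omega, show (2 * k + 1 + 1) / 2 = k + 1 by omega]
  have hcop : ∀ r : ℕ, r.Prime → r ∣ k → r ∣ k + 1 → False := fun r hr h1 h2 =>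
    hr.one_lt.ne' (Nat.dvd_one.1 ((Nat.dvd_add_right h1).1 h2))
  rcases Nat.even_or_odd k with he | ho'
  · refine ⟨k + 1, Or.inl (by omega), (key _).2 (Or.inr (Or.inr dvd_rfl)), fun r hr hrd => ?_⟩
    have hr2 : r ≠ 2 := by
      rintro rfl
      obtain ⟨j, hj⟩ := he
      omega
    refine ⟨hr2, ?_⟩
    rw [key]
    rintro (h | h | h)
    · have h1 : 2 ∣ p := (dvd_mul_right 2 r).trans h
      obtain ⟨j, hj⟩ := hpo
      omega
    · exact hcop r hr ((dvd_mul_left r 2).trans h) hrd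
    · have h1 : 2 ∣ k + 1 := (dvd_mul_right 2 r).trans h
      obtain ⟨j, hj⟩ := he
      omega
  · refine ⟨k, Or.inr (by omega), (key _).2 (Or.inr (Or.inl dvd_rfl)), fun r hr hrd => ?_⟩
    have hr2 : r ≠ 2 := by
      rintro rfl
      obtain ⟨j, hj⟩ := ho'
      omega
    refine ⟨hr2, ?_⟩
    rw [key]
    rintro (h | h | h)
    · have h1 : 2 ∣ p := (dvd_mul_right 2 r).trans h
      obtain ⟨j, hj⟩ := hpo
      omega
    · have h1 : 2 ∣ k := (dvd_mul_right 2 r).trans h
      obtain ⟨j, hj⟩ := ho'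
      omega
    · exact hcop r hr hrd ((dvd_mul_left r 2).trans h)

end

/-- there is an odd prime not joined to 2 -/
theorem exists_good_two {F : Type*} [Field F] [Fintype F] (h4 : 4 ≤ Fintype.card F) :
    ∃ n, n ≠ 1 ∧ Good (Matrix.ProjectiveSpecialLinearGroup (Fin 2) F) n := by
  rcases Nat.even_or_odd (Fintype.card F) with he | ho
  · exact ⟨3, by norm_num, good_even h4 he⟩
  · obtain ⟨p, f, hp, hc, hf, hq⟩ := exists_char F
    exact ⟨p, hp.out.one_lt.ne', good_char p h4 ho⟩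

/-- **The case `L = PSL₂(q)`.** -/
theorem false_two {G L X F : Type*} [Group G] [Group L] [Group X] [Finite G] [Finite L] [Finite X] [Field F]
    [Fintype F] (h4 : 4 ≤ Fintype.card F) (e : L ≃* Matrix.ProjectiveSpecialLinearGroup (Fin 2) F)
    (h : Set.range (orderOf : G → ℕ) = Set.range (orderOf : L → ℕ)) (hst : Str G X) {x : Row} (hx : x ∈ tab)
    (hreal : Real x.g X) (hok : OK X x) : False := by
  have hP : ∀ p ∈ x.P, p ∣ Fintype.card F * (Fintype.card F * Fintype.card F - 1) := by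
    intro p hp
    have h1 : p.Prime := of_decide_eq_true (List.all_eq_true.1 (List.all_eq_true.1 tab_prime x hx) p hp)
    have h2 := prime_dvd h hst hx hok hp
    have : Fact p.Prime := ⟨h1⟩
    obtain ⟨y, hy⟩ := exists_prime_orderOf_dvd_card' p h2
    exact prime_two h4 ⟨e y, by rw [← hy]; exact orderOf_injective e.toMonoidHom e.injective y⟩
  rcases Nat.even_or_odd (Fintype.card F) with he | ho
  · exact num_three hx (dvd_prod h hst hx hok ((good_even h4 he).congr e))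
  · obtain ⟨p, f, hp, hc, hf, hq⟩ := exists_char F
    obtain ⟨n, hn, hgn⟩ := good_tor h4 ho
    have h1 := dvd_prod h hst hx hok (hgn.congr e)
    have h2 := dvd_prod h hst hx hok ((good_char p h4 ho).congr e)
    obtain ⟨p', hp', h3⟩ := (Prime.dvd_prod_iff hp.out.prime).1 h2
    obtain rfl := (Nat.prime_dvd_prime_iff_eq hp.out (prime_R hx hp')).1 h3
    have hR64 : x.R.prod < 2 ^ 32 := by
      have h5 : tab.all (fun x => Nat.blt x.R.prod (2 ^ 32)) = true := by decide +kernel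
      have h6 := List.all_eq_true.1 h5 x hx
      rwa [Nat.blt_eq] at h6
    have hpos : 0 < x.R.prod := List.prod_pos fun p hp => (prime_R hx hp).pos
    have hqlt : Fintype.card F < 2 ^ 64 := by
      have := Nat.le_of_dvd hpos h1
      rcases hn with h | h <;> omega
    have hf64 : f ≤ 64 := by
      by_contra hlt
      push Not at hlt
      have h5 : 2 ^ 64 ≤ 2 ^ f := Nat.pow_le_pow_right (by norm_num) hlt.le
      have h6 : 2 ^ f ≤ p ^ f := Nat.pow_le_pow_left hp.out.two_le f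
      omega
    obtain ⟨hg, hq11⟩ := num_A hx h1 hn (by obtain ⟨k, hk⟩ := ho; omega) hP hp'
      (by rw [hq]; exact pow_dvd_pow p hf64)
    rw [hg] at hreal
    obtain ⟨y, hy⟩ := H180.KM11.exists_eight (L := X) hreal
    obtain ⟨w, hw⟩ := exists_order h hst y
    have h5 := (ex_iff2 p h4 8).1 ⟨e w, by rw [← hy, ← hw]; exact orderOf_injective e.toMonoidHom e.injective w⟩
    have hp11 : p = 11 := by
      have h6 : p ∣ 11 := by rw [← hq11, hq]; exact dvd_pow_self p hf
      exact (Nat.prime_dvd_prime_iff_eq hp.out (by norm_num)).1 h6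
    rw [hq11, hp11] at h5
    norm_num at h5

end Cfsg.Agent.H182.Spo
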